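import Cfsg.Agent.Lib.InvChar.SelfCent.Hall

/-!
# Integer consequences of a family of exceptional characters
-/

set_option autoImplicit false
set_option linter.unusedSectionVars false

namespace CfsgLib.InvChar.SelfCent

open CfsgLib.Char
open scoped ComplexConjugate

universe u

variable {G : Type u} [Group G] [Fintype G] [Fintype (Cfsg.IrrCharacter G)] {A : Subgroup G}
  {e m : ℕ}

namespace Fam

variable (F : Fam A e m)

open scoped Classical in
/-- The `i`-th coefficient vector. -/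
noncomputable def v (i : Fin m) (χ : Cfsg.IrrCharacter G) : ℤ :=
  F.c χ - if χ = F.μ i then F.ε else 0

theorem v_norm (i : Fin m) : ∑ χ, F.v i χ ^ 2 = (e : ℤ) + 1 := F.norm i

theorem v_vanish (i : Fin m) {y : G} (hy : ¬ Meets A y) :
    ∑ χ, ((F.v i χ : ℤ) : ℂ) * (χ : G → ℂ) y = 0 := F.vanish i y hy

theorem v_cong (χ : Cfsg.IrrCharacter G) :
    (Nat.card ↥A : ℤ) ∣ dg χ + (e : ℤ) * ∑ i, F.v i χ := F.cong χ

open scoped Classical in
/-- The exceptional characters of the family. -/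
noncomputable def img : Finset (Cfsg.IrrCharacter G) := Finset.univ.image F.μ

open scoped Classical in
/-- The other characters. -/
noncomputable def oth : Finset (Cfsg.IrrCharacter G) :=
  Finset.univ.filter fun χ => χ ∉ F.img

theorem mem_img {χ : Cfsg.IrrCharacter G} : χ ∈ F.img ↔ ∃ j, F.μ j = χ := by
  classical
  simp [img]

theorem mem_oth {χ : Cfsg.IrrCharacter G} : χ ∈ F.oth ↔ ∀ j, F.μ j ≠ χ := by
  classical
  simp [oth, mem_img]

theorem one_mem_oth : one' G ∈ F.oth := F.mem_oth.2 fun j h => F.μ_ne j h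

/-- The weight `σ` of the family. -/
def sig : ℤ := (m : ℤ) * F.c0 - F.ε

open scoped Classical in
theorem sum_img {R : Type*} [AddCommMonoid R] (f : Cfsg.IrrCharacter G → R) :
    ∑ χ ∈ F.img, f χ = ∑ j, f (F.μ j) :=
  Finset.sum_image fun _ _ _ _ h => F.μ_inj h

open scoped Classical in
theorem sum_split {R : Type*} [AddCommMonoid R] (f : Cfsg.IrrCharacter G → R) :
    ∑ χ, f χ = (∑ χ ∈ F.oth, f χ) + ∑ j, f (F.μ j) := by
  rw [← F.sum_img, oth, ← Finset.sum_filter_add_sum_filter_not Finset.univ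
    (fun χ => χ ∉ F.img) f]
  congr 1
  refine Finset.sum_congr ?_ fun _ _ => rfl
  ext χ; simp

/-- Summation against a coefficient vector. -/
theorem sum_v {R : Type*} [CommRing R] (i : Fin m) (f : Cfsg.IrrCharacter G → R) (f₀ : R)
    (hf : ∀ j, f (F.μ j) = f₀) :
    ∑ χ, (F.v i χ : R) * f χ = (∑ χ ∈ F.oth, (F.c χ : R) * f χ) + (F.sig : R) * f₀ := by
  classical
  rw [F.sum_split]
  congr 1
  · refine Finset.sum_congr rfl fun χ hχ => ?_
    rw [v, if_neg fun h => (F.mem_oth.1 hχ) i h.symm, sub_zero]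
  · simp only [v, F.c_μ, hf, F.μ_inj.eq_iff, Int.cast_sub, sub_mul, Finset.sum_sub_distrib,
      Finset.sum_const, Finset.card_univ, Fintype.card_fin, nsmul_eq_mul, sig]
    rw [Finset.sum_eq_single i (fun j _ h => by rw [if_neg h, Int.cast_zero, zero_mul])
      (fun h => absurd (Finset.mem_univ i) h), if_pos rfl]
    push_cast
    ring

/-- Summation when the other coefficients are supported on `S`. -/
theorem sum_v_support {R : Type*} [CommRing R] (i : Fin m) (f : Cfsg.IrrCharacter G → R) (f₀ : R)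
    (hf : ∀ j, f (F.μ j) = f₀) (S : Finset (Cfsg.IrrCharacter G)) (hS : S ⊆ F.oth)
    (h0 : ∀ χ ∈ F.oth, χ ∉ S → F.c χ = 0) :
    ∑ χ, (F.v i χ : R) * f χ = (∑ χ ∈ S, (F.c χ : R) * f χ) + (F.sig : R) * f₀ := by
  rw [F.sum_v i f f₀ hf, Finset.sum_subset hS fun χ hχ hn => by rw [h0 χ hχ hn]; simp]

theorem eps_sq : F.ε * F.ε = 1 := by rcases F.hε with h | h <;> rw [h] <;> norm_num

theorem norm_oth (hm : 0 < m) :
    ∑ χ ∈ F.oth, F.c χ ^ 2 + (m : ℤ) * F.c0 ^ 2 - 2 * F.ε * F.c0 = (e : ℤ) := by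
  classical
  have i : Fin m := ⟨0, hm⟩
  have h := F.v_norm i
  rw [F.sum_split] at h
  have h1 : ∑ χ ∈ F.oth, F.v i χ ^ 2 = ∑ χ ∈ F.oth, F.c χ ^ 2 :=
    Finset.sum_congr rfl fun χ hχ => by
      rw [v, if_neg fun h => (F.mem_oth.1 hχ) i h.symm, sub_zero]
  have h2 : ∑ j, F.v i (F.μ j) ^ 2 = (m : ℤ) * F.c0 ^ 2 - 2 * F.ε * F.c0 + 1 := by
    have e1 : ∀ j, F.v i (F.μ j) ^ 2 =
        F.c0 ^ 2 + if j = i then 1 - 2 * F.ε * F.c0 else 0 := by
      intro j
      simp only [v, F.c_μ, F.μ_inj.eq_iff]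
      split_ifs
      · linear_combination F.eps_sq
      · ring
    rw [Finset.sum_congr rfl fun j _ => e1 j, Finset.sum_add_distrib, Finset.sum_const,
      Finset.card_univ, Fintype.card_fin, nsmul_eq_mul, Finset.sum_ite_eq',
      if_pos (Finset.mem_univ _)]
    ring
  rw [h1, h2] at h
  linarith

theorem norm_nontriv (hm : 0 < m) :
    ∑ χ ∈ F.oth.erase (one' G), F.c χ ^ 2 =
      (e : ℤ) - 1 - ((m : ℤ) * F.c0 ^ 2 - 2 * F.ε * F.c0) := by
  classical
  have h := F.norm_oth hm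
  rw [← Finset.add_sum_erase _ _ F.one_mem_oth, F.c_one] at h
  linarith

theorem corr_nonneg (hm : 2 ≤ m) : 0 ≤ (m : ℤ) * F.c0 ^ 2 - 2 * F.ε * F.c0 := by
  have hm' : (2 : ℤ) ≤ m := by exact_mod_cast hm
  rcases F.hε with h | h <;> rw [h]
  · rcases le_or_gt F.c0 0 with h' | h' <;> nlinarith
  · rcases le_or_gt 0 F.c0 with h' | h' <;> nlinarith

theorem sig_sq_of_corr (hm : 2 ≤ m)
    (h : (m : ℤ) * F.c0 ^ 2 - 2 * F.ε * F.c0 = 0) : F.sig ^ 2 = 1 := by
  have hm' : (2 : ℤ) ≤ m := by exact_mod_cast hm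
  have h' : F.c0 * ((m : ℤ) * F.c0 - 2 * F.ε) = 0 := by linarith
  have hε := F.eps_sq
  unfold sig
  rcases mul_eq_zero.1 h' with h0 | h0
  · rw [h0]; linear_combination hε
  · rw [show (m : ℤ) * F.c0 = 2 * F.ε by linarith]
    linear_combination hε

/-- Congruence for the degree of a character outside the family. -/
theorem dg_cong {χ : Cfsg.IrrCharacter G} (hχ : χ ∈ F.oth)
    (hn : m * e = Nat.card ↥A - 1) : (Nat.card ↥A : ℤ) ∣ dg χ - F.c χ := by
  have h := F.v_cong χ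
  have e1 : ∑ i, F.v i χ = (m : ℤ) * F.c χ := by
    rw [Finset.sum_congr rfl fun i _ => show F.v i χ = F.c χ by
      rw [v, if_neg fun h => (F.mem_oth.1 hχ) i h.symm, sub_zero]]
    simp
  rw [e1, ← mul_assoc, show (e : ℤ) * m = (Nat.card ↥A : ℤ) - 1 by
    have : 0 < Nat.card ↥A := Nat.card_pos
    have e2 : ((m * e : ℕ) : ℤ) = ((Nat.card ↥A - 1 : ℕ) : ℤ) := by rw [hn]
    push_cast [Nat.cast_sub this] at e2
    rw [mul_comm]; exact_mod_cast e2] at h
  obtain ⟨k, hk⟩ := h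
  exact ⟨k - F.c χ, by linear_combination hk⟩

/-- The exceptional characters agree off `A`. -/
theorem μ_apply (i j : Fin m) {y : G} (hy : ¬ Meets A y) :
    (F.μ i : G → ℂ) y = (F.μ j : G → ℂ) y := by
  classical
  have hi := F.v_vanish i hy
  have hj := F.v_vanish j hy
  simp only [v, Int.cast_sub, sub_mul, Finset.sum_sub_distrib] at hi hj
  have e1 : ∀ k : Fin m, ∑ χ : Cfsg.IrrCharacter G,
      ((if χ = F.μ k then F.ε else 0 : ℤ) : ℂ) * (χ : G → ℂ) y = (F.ε : ℂ) * (F.μ k : G → ℂ) y := by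
    intro k
    rw [Finset.sum_eq_single (F.μ k) (fun χ _ h => by rw [if_neg h, Int.cast_zero, zero_mul])
      (fun h => absurd (Finset.mem_univ _) h), if_pos rfl]
  rw [e1] at hi hj
  have hε : (F.ε : ℂ) ≠ 0 := by
    rcases F.hε with h | h <;> rw [h] <;> norm_num
  exact mul_left_cancel₀ hε (by linear_combination hj - hi)

theorem dg_μ (i j : Fin m) : dg (F.μ i) = dg (F.μ j) := by
  apply Int.cast_injective (α := ℂ)
  rw [dg_cast, dg_cast]
  exact F.μ_apply i j not_meets_one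

theorem zv_μ {z : G} (hz : orderOf z = 2) (hzA : ¬ Meets A z) (i j : Fin m) :
    zv hz (F.μ i) = zv hz (F.μ j) := by
  apply Int.cast_injective (α := ℂ)
  rw [zv_cast, zv_cast]
  exact F.μ_apply i j hzA

theorem degree_eq (i : Fin m) : ∑ χ, F.v i χ * dg χ = 0 := by
  apply Int.cast_injective (α := ℂ)
  push_cast
  simp only [dg_cast]
  exact F.v_vanish i not_meets_one

theorem zv_eq {z : G} (hz : orderOf z = 2) (hzA : ¬ Meets A z) (i : Fin m) :
    ∑ χ, F.v i χ * zv hz χ = 0 := by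
  apply Int.cast_injective (α := ℂ)
  push_cast
  simp only [zv_cast]
  exact F.v_vanish i hzA

variable {B : Subgroup G} {e' m' : ℕ} (F' : Fam B e' m')

/-- Orthogonality between families with disjoint supports. -/
theorem cross (hd : ∀ y, Meets A y → Meets B y → False) (i : Fin m) (j : Fin m') :
    ∑ χ, F.v i χ * F'.v j χ = 0 := by
  classical
  have h0 : ∀ y : G, (∑ χ, ((F.v i χ : ℤ) : ℂ) * (χ : G → ℂ) y) *
      conj (∑ χ, ((F'.v j χ : ℤ) : ℂ) * (χ : G → ℂ) y) = 0 := by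
    intro y
    by_cases hA : Meets A y
    · rw [F'.v_vanish j fun h => hd y hA h, map_zero, mul_zero]
    · rw [F.v_vanish i hA, zero_mul]
  have h1 : Cfsg.classInner (∑ χ : Cfsg.IrrCharacter G, ((F.v i χ : ℤ) : ℂ) • (χ : G → ℂ))
      (∑ χ : Cfsg.IrrCharacter G, ((F'.v j χ : ℤ) : ℂ) • (χ : G → ℂ)) = 0 := by
    rw [classInner_def, Finset.sum_eq_zero, mul_zero]
    intro y _
    simp only [Finset.sum_apply, Pi.smul_apply, smul_eq_mul]
    exact h0 y
  simp only [classInner_sum_left, classInner_sum_right, classInner_smul_left,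
    classInner_smul_right, map_intCast] at h1
  apply Int.cast_injective (α := ℂ)
  push_cast
  rw [← h1]
  refine Finset.sum_congr rfl fun χ _ => ?_
  rw [Finset.sum_eq_single χ]
  · rw [irr_classInner_self χ.2, mul_one, mul_comm]
  · intro χ' _ hne
    rw [irr_classInner_ne χ'.2 χ.2 fun h => hne (Subtype.ext h)]
    ring
  · simp

theorem v_const (hd : ∀ y, Meets A y → Meets B y → False) (i i' : Fin m) (j : Fin m') :
    F'.v j (F.μ i) = F'.v j (F.μ i') := by
  classical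
  have h1 := F.cross F' hd i j
  have h2 := F.cross F' hd i' j
  have e1 : ∀ k : Fin m, ∑ χ, F.v k χ * F'.v j χ =
      (∑ χ, F.c χ * F'.v j χ) - F.ε * F'.v j (F.μ k) := by
    intro k
    rw [Finset.sum_congr rfl fun χ _ => show F.v k χ * F'.v j χ =
      F.c χ * F'.v j χ - (if χ = F.μ k then F.ε else 0) * F'.v j χ by rw [v]; ring,
      Finset.sum_sub_distrib]
    congr 1
    rw [Finset.sum_eq_single (F.μ k)
        (fun χ _ h => by rw [if_neg h, zero_mul]) (fun h => absurd (Finset.mem_univ _) h),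
      if_pos rfl]
  have h3 := (e1 i).symm.trans h1
  have h4 := (e1 i').symm.trans h2
  have hε : F.ε ≠ 0 := by rcases F.hε with h | h <;> rw [h] <;> norm_num
  exact mul_left_cancel₀ hε (by linarith)

theorem μ_disjoint (hd : ∀ y, Meets A y → Meets B y → False) (hm : 2 ≤ m) (hm' : 2 ≤ m')
    (i : Fin m) (j : Fin m') : F.μ i ≠ F'.μ j := by
  classical
  intro h
  haveI : Nontrivial (Fin m) := Fin.nontrivial_iff_two_le.2 hm
  haveI : Nontrivial (Fin m') := Fin.nontrivial_iff_two_le.2 hm'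
  obtain ⟨i', hi⟩ := exists_ne i
  obtain ⟨k, hk⟩ := exists_ne j
  have hj := F.v_const F' hd i i' j
  have hk' := F.v_const F' hd i i' k
  have hne : F.μ i' ≠ F'.μ j := fun e => hi (F.μ_inj (e.trans h.symm))
  have hkj : F'.μ j ≠ F'.μ k := fun e => hk (F'.μ_inj e.symm)
  rw [v, v, h, if_pos rfl, F'.c_μ, if_neg hne] at hj
  rw [v, v, h, if_neg hkj, F'.c_μ] at hk'
  rcases F'.hε with hε | hε <;> rw [hε] at hj hk' <;> split_ifs at hk' <;> omega

theorem μ_mem_oth (hd : ∀ y, Meets A y → Meets B y → False) (hm : 2 ≤ m) (hm' : 2 ≤ m') (i : Fin m) :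
    F.μ i ∈ F'.oth :=
  F'.mem_oth.2 fun j h => F.μ_disjoint F' hd hm hm' i j h.symm

theorem c_const (hd : ∀ y, Meets A y → Meets B y → False) (hm : 2 ≤ m) (hm' : 2 ≤ m')
    (i i' : Fin m) : F'.c (F.μ i) = F'.c (F.μ i') := by
  have j : Fin m' := ⟨0, by omega⟩
  have h := F.v_const F' hd i i' j
  rw [v, v, if_neg fun e => F.μ_disjoint F' hd hm hm' i j e,
    if_neg fun e => F.μ_disjoint F' hd hm hm' i' j e, sub_zero, sub_zero] at h
  exact h

end Fam

end CfsgLib.InvChar.SelfCent
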