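import Cfsg.Agent.Lib.InvChar.SelfCent.ArithChecks

/-!
# Arithmetic of the self-centralization system (2,4,4)
-/

set_option autoImplicit false

namespace CfsgLib.InvChar.SelfCent

/-- The finite search applies as soon as `t` and `α` are bounded. -/
theorem deg_kill {n₁ n q e C B : ℕ} {t α : ℤ} (hcop : n.Coprime q) (hn : 0 < n)
    (hchk : degPair n₁ n q B = true) (htB : t.natAbs ≤ B) (hαB : α.natAbs ≤ 60)
    (ht₁ : (n₁ : ℤ) ∣ t - 1) (hnt : (n : ℤ) ∣ t) (hqt : (q : ℤ) ∣ t * (t + 1))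
    (hX : 0 < t * (t + 1)) (he : e % 2 = 1) (hC : C % 2 = 0)
    (hle : e * C ≤ 3 * (n₁ * (n * q))) (hec : (e * C).Coprime (n₁ * (n * q)))
    (hα : 1 + α ^ 2 + 2 * (1 + α) ^ 2 ≤ (C : ℤ))
    (hK : (2 * (n₁ - 1) + (n - 1) + (q - 1)) * C < 4 * (e * (n₁ * (n * q))))
    {j : ℕ} (hj : (t * (t + 1)).toNat = n * q * j) (hj0 : 0 < j)
    (heq : C * j = e * ((t - α).natAbs * (t - α).natAbs)) : False := by
  obtain ⟨i, hi⟩ := hnt
  have hib : i.natAbs ≤ B / n := by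
    rw [Nat.le_div_iff_mul_le hn]
    rw [hi, Int.natAbs_mul, Int.natAbs_natCast, mul_comm] at htB
    exact htB
  rw [degPair, Bool.or_eq_true, Bool.not_eq_true', decide_eq_false_iff_not, List.all_eq_true] at hchk
  have hc := (hchk.resolve_left (not_not_intro hcop)) (i + (B / n : ℕ)).toNat
    (List.mem_range.2 (by omega))
  rw [Int.toNat_of_nonneg (by omega), add_sub_cancel_right, ← hi, degT, Bool.or_eq_true,
    List.all_eq_true] at hc
  have hm : t % (n₁ : ℤ) = 1 % (n₁ : ℤ) := (Int.modEq_iff_dvd.2 ht₁).symm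
  have hc' := (hc.resolve_left (by simp [hm, Int.emod_eq_zero_of_dvd hqt, hX])) (α + 60).toNat
    (List.mem_range.2 (by omega))
  rw [Int.toNat_of_nonneg (by omega), add_sub_cancel_right] at hc'
  have hjX : (t * (t + 1)).toNat / (n * q) = j := by
    rw [hj, Nat.mul_div_cancel_left]
    rcases Nat.eq_zero_or_pos (n * q) with h | h
    · rw [h, zero_mul] at hj; omega
    · exact h
  have hD : C * j = e * ((t - α).natAbs * (t - α).natAbs) := heq
  simp only [hjX, Bool.or_eq_true, List.all_eq_true] at hc'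
  generalize hDd : (t - α).natAbs = D at hc' hD
  set lo := (1 + α ^ 2 + 2 * (1 + α) ^ 2).toNat with hlod
  have hlo : lo ≤ C := by omega
  have hlo0 : 0 < lo := by
    have : (0 : ℤ) < 1 + α ^ 2 + 2 * (1 + α) ^ 2 := by positivity
    omega
  have f1 : (2 * (n₁ - 1) + (n - 1) + (q - 1)) * (D * D) < 4 * n₁ * (t * (t + 1)).toNat := by
    have h1 := Nat.mul_lt_mul_of_pos_right hK hj0
    rw [mul_assoc, hD] at h1
    have h2 : e * ((2 * (n₁ - 1) + (n - 1) + (q - 1)) * (D * D)) <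
        e * (4 * n₁ * (n * q * j)) := by nlinarith only [h1]
    rw [hj]
    exact Nat.lt_of_mul_lt_mul_left h2
  have f2 : lo * lo * j ≤ 3 * n₁ * (n * q) * (D * D) := calc
    lo * lo * j ≤ C * C * j := Nat.mul_le_mul_right _ (Nat.mul_le_mul hlo hlo)
    _ = (e * C) * (D * D) := by rw [mul_assoc, hD]; ring
    _ ≤ 3 * n₁ * (n * q) * (D * D) :=
      Nat.mul_le_mul_right _ (hle.trans (le_of_eq (by ring)))
  have hc'' := (hc'.resolve_left (by simp [f1, f2])) e (List.mem_range.2 (Nat.lt_succ_of_le ((Nat.le_div_iff_mul_le hlo0).2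
      ((Nat.mul_le_mul_left _ hlo).trans (hle.trans (le_of_eq (by ring)))))))
  have hed : e * (D * D) / j = C := by rw [← hD, Nat.mul_div_cancel _ hj0]
  have hem : e * (D * D) % j = 0 := by rw [← hD, Nat.mul_mod_left]
  have hcg : Nat.gcd (e * C) (n₁ * (n * q)) = 1 := hec
  simp [hed, hem, he, hC, hcg, hlo, hle, hK] at hc''

/-- The cases `n₁ = 5` and `n₁ = 7, n = 9`. -/
theorem degenerate {n₁ n q e C : ℕ} {t α : ℤ} (h₁ : n₁ = 5 ∨ n₁ = 7 ∧ n = 9)
    (hn : n % 4 = 1) (hn9 : 9 ≤ n) (hq : q % 4 = 1) (hq9 : 9 ≤ q) (hnq : n.Coprime q)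
    (ht₁ : (n₁ : ℤ) ∣ t - 1) (hnt : (n : ℤ) ∣ t) (hqt : (q : ℤ) ∣ t * (t + 1))
    (ht : t ≠ 0) (hT : t + 1 ≠ 0) (he : e % 2 = 1) (hC : 2 ∣ C)
    (hle : e * C ≤ 3 * (n₁ * n * q)) (hcop : (e * C).Coprime (n₁ * n * q))
    (hα : 1 + α ^ 2 + 2 * (1 + α) ^ 2 ≤ (C : ℤ))
    (hK : (2 * (n₁ - 1) + (n - 1) + (q - 1)) * C < 4 * (e * (n₁ * n * q)))
    (heq : (C : ℤ) * (t * (t + 1)) = n * q * e * (t - α) ^ 2) : False := by
  rw [mul_assoc n₁ n q] at hle hcop hK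
  have hX : 0 < t * (t + 1) := by
    rcases le_or_gt 0 t with h | h
    · exact mul_pos (by omega) (by omega)
    · exact mul_pos_of_neg_of_neg h (by omega)
  have hdvd : ((n * q : ℕ) : ℤ) ∣ t * (t + 1) := by
    have : IsCoprime (n : ℤ) q := Nat.isCoprime_iff_coprime.2 hnq
    push_cast
    exact this.mul_dvd (hnt.mul_right _) hqt
  obtain ⟨jz, hjz⟩ := hdvd
  obtain ⟨j, rfl⟩ : ∃ j : ℕ, jz = j := ⟨jz.toNat, by
    rw [Int.toNat_of_nonneg]
    rw [hjz] at hX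
    nlinarith only [hX, Int.natCast_nonneg (n * q)]⟩
  have hX' : t * (t + 1) = (n : ℤ) * q * j := by rw [hjz]; push_cast; ring
  have hjeven : 2 ∣ n * q * j := by
    have h : (2 : ℤ) ∣ t * (t + 1) := (Int.even_mul_succ_self t).two_dvd
    rw [hX'] at h; exact_mod_cast h
  have hj2 : 2 ≤ j := by
    have h1 : ¬ 2 ∣ n * q := by
      rw [Nat.Prime.dvd_mul Nat.prime_two]; omega
    have h2 : 2 ∣ j := (Nat.prime_two.dvd_mul.1 hjeven).resolve_left h1
    have h3 : j ≠ 0 := fun e0 => by subst e0; simp at hX'; omega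
    obtain ⟨i, rfl⟩ := h2
    omega
  have hjn : (t * (t + 1)).toNat = n * q * j := by rw [hjz, ← Nat.cast_mul, Int.toNat_natCast]
  have hnqpos : (0 : ℤ) < (n : ℤ) * q := mul_pos (by omega) (by omega)
  have hCj : (C : ℤ) * j = e * (t - α) ^ 2 := by
    refine mul_left_cancel₀ hnqpos.ne' ?_
    calc (n : ℤ) * q * (C * j) = C * (t * (t + 1)) := by rw [hX']; ring
      _ = _ := by rw [heq]; ring
  have hCjN : C * j = e * ((t - α).natAbs * (t - α).natAbs) := by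
    zify
    rw [hCj, abs_mul_abs_self, pow_two]
  have hKz : (2 * ((n₁ : ℤ) - 1) + (n - 1) + (q - 1)) * C < 4 * (e * (n₁ * (n * q))) := by
    have := hK; zify [(by omega : 1 ≤ n₁), (by omega : 1 ≤ n), (by omega : 1 ≤ q)] at this; linarith
  set S : ℤ := 2 * ((n₁ : ℤ) - 1) + (n - 1) + (q - 1) with hSd
  set X : ℤ := t * (t + 1) with hXd
  set D2 : ℤ := (t - α) ^ 2 with hD2
  have hjpos : (0 : ℤ) < j := by omega
  have he0 : (0 : ℤ) < e := by omega
  have hS1 : S * D2 < 4 * n₁ * X := by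
    refine lt_of_mul_lt_mul_left ?_ he0.le
    calc (e : ℤ) * (S * D2) = S * C * j := by rw [mul_assoc S, hCj]; ring
      _ < 4 * (e * (n₁ * (n * q))) * j := mul_lt_mul_of_pos_right hKz hjpos
      _ = _ := by rw [hX']; ring
  set L : ℤ := 1 + α ^ 2 + 2 * (1 + α) ^ 2 with hLd
  have hL0 : 0 < L := by positivity
  have hlez : (e : ℤ) * C ≤ 3 * (n₁ * (n * q)) := by exact_mod_cast hle
  have hS2 : L ^ 2 * j ≤ 3 * n₁ * ((n : ℤ) * q) * D2 := calc
    L ^ 2 * j ≤ (C : ℤ) ^ 2 * j :=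
      mul_le_mul_of_nonneg_right (pow_le_pow_left₀ hL0.le hα 2) hjpos.le
    _ = (e * C) * D2 := by rw [pow_two, mul_assoc, hCj]; ring
    _ ≤ _ := mul_le_mul_of_nonneg_right (hlez.trans (le_of_eq (by ring))) (sq_nonneg _)
  have hS0 : 0 < S := by omega
  -- combined bounds
  have hbig : L ^ 2 * S < 3 * (n₁ : ℤ) ^ 2 * X ^ 2 := by
    have h1 : L ^ 2 * j * j * S ≤ 3 * n₁ * ((n : ℤ) * q) * D2 * j * S :=
      mul_le_mul_of_nonneg_right (mul_le_mul_of_nonneg_right hS2 hjpos.le) hS0.le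
    have h2 : 3 * n₁ * ((n : ℤ) * q) * D2 * j * S = 3 * n₁ * X * (S * D2) := by rw [hX']; ring
    have h3 : 3 * n₁ * X * (S * D2) < 3 * n₁ * X * (4 * n₁ * X) :=
      mul_lt_mul_of_pos_left hS1 (mul_pos (by omega) hX)
    have h4 : L ^ 2 * 4 * S ≤ L ^ 2 * j * j * S := by
      refine mul_le_mul_of_nonneg_right ?_ hS0.le
      have : (4 : ℤ) ≤ (j : ℤ) * j := by nlinarith only [show (2 : ℤ) ≤ j by omega]
      nlinarith only [this, sq_nonneg L]
    nlinarith only [h1, h2, h3, h4]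
  have hnqS : L ^ 2 * S * 2 < 12 * (n₁ : ℤ) ^ 2 * ((n : ℤ) * q) ^ 2 * j := by
    have h1 : L ^ 2 * j * S ≤ 3 * n₁ * ((n : ℤ) * q) * D2 * S :=
      mul_le_mul_of_nonneg_right hS2 hS0.le
    have h3 : 3 * n₁ * ((n : ℤ) * q) * (S * D2) < 3 * n₁ * ((n : ℤ) * q) * (4 * n₁ * X) :=
      mul_lt_mul_of_pos_left hS1 (mul_pos (by omega) hnqpos)
    have h4 : L ^ 2 * 2 * S ≤ L ^ 2 * j * S := by
      refine mul_le_mul_of_nonneg_right ?_ hS0.le
      nlinarith only [show (2 : ℤ) ≤ j by omega, sq_nonneg L]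
    rw [hX'] at h3
    nlinarith only [h1, h3, h4]
  have hXle : X ≤ t ^ 2 + |t| := by rw [hXd]; nlinarith only [le_abs_self t]
  have hLge : 3 * |α| ^ 2 - 4 * |α| ≤ L := by
    rw [hLd, sq_abs]; nlinarith only [neg_abs_le α]
  have htri : |t| ≤ |α| + |t - α| := by
    have := abs_add_le α (t - α); rwa [add_sub_cancel] at this
  have hD2abs : |t - α| ^ 2 = D2 := sq_abs _
  have ht0 : (0 : ℤ) ≤ |t| := abs_nonneg t
  have hnqge : 9 * ((n : ℤ) + q - 9) ≤ (n : ℤ) * q := by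
    nlinarith only [mul_nonneg (show (0 : ℤ) ≤ (n : ℤ) - 9 by omega) (show (0 : ℤ) ≤ (q : ℤ) - 9 by omega)]
  have hXge : 2 * ((n : ℤ) * q) ≤ X := by rw [hX']; nlinarith only [hnqpos, show (2 : ℤ) ≤ j by omega]
  -- the sum `n + q` is small
  have hsum : n₁ = 5 ∧ n + q ≤ 113 ∨ n₁ = 7 ∧ n = 9 ∧ q ≤ 180 := by
    rcases h₁ with h₁ | ⟨h₁, hn'⟩
    · refine Or.inl ⟨h₁, ?_⟩
      by_contra hcon
      have hS : 120 ≤ S := by subst h₁; omega
      have hn1 : (n₁ : ℤ) = 5 := by omega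
      have ht43 : 43 ≤ |t| := by
        by_contra h
        nlinarith only [h, hXge, hnqge, hXle, sq_abs t, ht0, show (114 : ℤ) ≤ n + q by omega,
          mul_self_le_mul_self ht0 (show |t| ≤ 42 by omega)]
      have hX2 : 43 * X ≤ 44 * |t| ^ 2 := by nlinarith only [hXle, sq_abs t, ht43, ht0]
      have hd : 1000 * |t - α| ≤ 414 * |t| := by
        by_contra h
        rw [hn1] at hS1
        have := pow_lt_pow_left₀ (lt_of_not_ge h) (by positivity) (n := 2) (by norm_num)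
        have hS' := mul_le_mul_of_nonneg_right hS (sq_nonneg |t - α|)
        rw [hD2abs] at hS'
        rw [mul_pow, mul_pow, hD2abs] at this
        nlinarith only [this, hS', hS1, hX2, ht43]
      have hA : 586 * |t| ≤ 1000 * |α| := by linarith only [hd, htri]
      have hA' : 25 ≤ |α| := by omega
      have hL : 284 * |α| ^ 2 ≤ 100 * L := by nlinarith only [hLge, hA', abs_nonneg α]
      have hA2 : 586 ^ 2 * |t| ^ 2 ≤ 1000 ^ 2 * |α| ^ 2 := by
        rw [← mul_pow, ← mul_pow]; exact pow_le_pow_left₀ (by positivity) hA 2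
      have hL2 : 975 * |t| ^ 2 ≤ 1000 * L := by linarith only [hL, hA2, sq_nonneg |t|]
      have hL3 := pow_le_pow_left₀ (by positivity) hL2 2
      have hS' := mul_le_mul_of_nonneg_left hS (sq_nonneg L)
      have hX3 := pow_le_pow_left₀ (by positivity) hX2 2
      rw [hn1] at hbig
      nlinarith only [hL3, hS', hX3, hbig, pow_pos (show 0 < |t| by omega) 4]
    · refine Or.inr ⟨h₁, hn', ?_⟩
      by_contra hcon
      subst hn'
      simp only [Nat.cast_ofNat] at *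
      have hS : 200 ≤ S := by subst h₁; omega
      have hn1 : (n₁ : ℤ) = 7 := by omega
      have ht43 : 56 ≤ |t| := by
        by_contra h
        nlinarith only [h, hXge, hXle, sq_abs t, ht0, show (181 : ℤ) ≤ q by omega,
          mul_self_le_mul_self ht0 (show |t| ≤ 55 by omega)]
      have hX2 : 56 * X ≤ 57 * |t| ^ 2 := by nlinarith only [hXle, sq_abs t, ht43, ht0]
      have hd : 1000 * |t - α| ≤ 380 * |t| := by
        by_contra h
        rw [hn1] at hS1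
        have := pow_lt_pow_left₀ (lt_of_not_ge h) (by positivity) (n := 2) (by norm_num)
        have hS' := mul_le_mul_of_nonneg_right hS (sq_nonneg |t - α|)
        rw [hD2abs] at hS'
        rw [mul_pow, mul_pow, hD2abs] at this
        nlinarith only [this, hS', hS1, hX2, ht43]
      have hA : 620 * |t| ≤ 1000 * |α| := by linarith only [hd, htri]
      have hA' : 34 ≤ |α| := by omega
      have hL : 288 * |α| ^ 2 ≤ 100 * L := by nlinarith only [hLge, hA', abs_nonneg α]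
      have hA2 : 620 ^ 2 * |t| ^ 2 ≤ 1000 ^ 2 * |α| ^ 2 := by
        rw [← mul_pow, ← mul_pow]; exact pow_le_pow_left₀ (by positivity) hA 2
      have hL2 : 1107 * |t| ^ 2 ≤ 1000 * L := by linarith only [hL, hA2, sq_nonneg |t|]
      have hL3 := pow_le_pow_left₀ (by positivity) hL2 2
      have hS' := mul_le_mul_of_nonneg_left hS (sq_nonneg L)
      have hX3 := pow_le_pow_left₀ (by positivity) hX2 2
      rw [hn1] at hbig
      nlinarith only [hL3, hS', hX3, hbig, pow_pos (show 0 < |t| by omega) 4]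
  have hLnq : L ^ 2 * S < 3 * n₁ * ((n : ℤ) * q) * (4 * n₁ * ((n : ℤ) * q)) := by
    have h1 : L ^ 2 * j * S ≤ 3 * n₁ * ((n : ℤ) * q) * D2 * S :=
      mul_le_mul_of_nonneg_right hS2 hS0.le
    have h3 : 3 * n₁ * ((n : ℤ) * q) * (S * D2) < 3 * n₁ * ((n : ℤ) * q) * (4 * n₁ * X) :=
      mul_lt_mul_of_pos_left hS1 (mul_pos (by omega) hnqpos)
    refine lt_of_mul_lt_mul_left ?_ hjpos.le
    rw [hX'] at h3
    nlinarith only [h1, h3]
  have hne : n ≠ q := fun e0 => by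
    subst e0; rw [Nat.coprime_self] at hnq; omega
  rcases hsum with ⟨rfl, hnq'⟩ | ⟨rfl, rfl, hq'⟩
  · obtain ⟨a, rfl⟩ : ∃ a, n = 4 * a + 1 := ⟨n / 4, by omega⟩
    obtain ⟨b, rfl⟩ : ∃ b, q = 4 * b + 1 := ⟨q / 4, by omega⟩
    set n' : ℤ := ((4 * a + 1 : ℕ) : ℤ) with hn'd
    set q' : ℤ := ((4 * b + 1 : ℕ) : ℤ) with hq'd
    have hS28 : 28 ≤ S := by omega
    have hnqb : n' * q' ≤ 3192 := by
      nlinarith only [sq_nonneg (n' - q'), show n' + q' ≤ 113 by omega, show (0 : ℤ) ≤ n' + q' by omega]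
    have hαB : |α| ≤ 60 := by
      by_contra h
      have hL10 : 10900 ≤ L := by nlinarith only [hLge, lt_of_not_ge h]
      have h5 := mul_le_mul (pow_le_pow_left₀ (by norm_num) hL10 2) hS28 (by norm_num) (sq_nonneg L)
      have h6 : (n' * q') * (n' * q') ≤ 3192 * 3192 := mul_le_mul hnqb hnqb hnqpos.le (by norm_num)
      push_cast at hLnq
      nlinarith only [h5, h6, hLnq]
    have htB : |t| ≤ 431 := by
      by_contra h
      have h5 := mul_le_mul_of_nonneg_right hS28 (sq_nonneg |t - α|)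
      have h6 := pow_le_pow_left₀ (by linarith only [hαB, lt_of_not_ge h] : (0 : ℤ) ≤ |t| - 60)
        (by linarith only [htri, hαB] : |t| - 60 ≤ |t - α|) 2
      rw [hD2abs] at h5 h6
      push_cast at hS1
      nlinarith only [h5, h6, hS1, hXle, sq_abs t, lt_of_not_ge h]
    refine deg_kill hnq (by omega) (degFive a (by omega) b (by omega) (by omega) (by omega) (by omega))
      (by zify; exact htB) (by zify; exact hαB) ht₁ hnt hqt hX he (by omega) hle hcop hα hK hjn (by omega) hCjN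
  · obtain ⟨b, rfl⟩ : ∃ b, q = 4 * b + 1 := ⟨q / 4, by omega⟩
    have hS32 : 28 ≤ S := by omega
    have hαB : |α| ≤ 60 := by
      by_contra h
      have hL10 : 10900 ≤ L := by nlinarith only [hLge, lt_of_not_ge h]
      have h5 := mul_le_mul (pow_le_pow_left₀ (by norm_num) hL10 2) (show (32 : ℤ) ≤ S by omega)
        (by norm_num) (sq_nonneg L)
      have hq2 : ((4 * b + 1 : ℕ) : ℤ) ≤ 177 := by omega
      have h6 := mul_le_mul hq2 hq2 (by positivity) (by norm_num)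
      push_cast at hLnq h6
      nlinarith only [h5, h6, hLnq]
    have htB : |t| ≤ 1000 := by
      by_contra h
      have h5 := mul_le_mul_of_nonneg_right (show (32 : ℤ) ≤ S by omega) (sq_nonneg |t - α|)
      have h6 := pow_le_pow_left₀ (by linarith only [hαB, lt_of_not_ge h] : (0 : ℤ) ≤ |t| - 60)
        (by linarith only [htri, hαB] : |t| - 60 ≤ |t - α|) 2
      rw [hD2abs] at h5 h6
      push_cast at hS1
      nlinarith only [h5, h6, hS1, hXle, sq_abs t, lt_of_not_ge h]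
    exact deg_kill hnq (by omega) (degSeven b (by omega) (by omega))
      (by zify; exact htB) (by zify; exact hαB) ht₁ hnt hqt hX he (by omega) hle hcop hα hK hjn (by omega) hCjN

/-- Common facts: `t` and `k` have the same sign and `t` is large. -/
theorem sign_facts {n₂ n₃ : ℕ} {t k : ℤ} (h₂ : n₂ % 4 = 1) (h₂9 : 9 ≤ n₂) (h₃ : n₃ % 4 = 1)
    (h₃9 : 9 ≤ n₃) (h₂₃ : n₂.Coprime n₃) (hT : t + 1 = k * (n₂ * n₃ : ℕ)) (hk : k ≠ 0) :
    117 ≤ n₂ * n₃ ∧ 0 < k * t ∧ k.natAbs * (n₂ * n₃) ≤ t.natAbs + 1 ∧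
      t.natAbs ≤ k.natAbs * (n₂ * n₃) + 1 ∧ 116 ≤ t.natAbs := by
  have hne : n₂ ≠ n₃ := fun e => by
    subst e; rw [Nat.coprime_self] at h₂₃; omega
  have hM : 117 ≤ n₂ * n₃ := by
    rcases Nat.lt_or_gt_of_ne hne with h | h
    · nlinarith only [h₂9, show 13 ≤ n₃ by omega]
    · nlinarith only [h₃9, show 13 ≤ n₂ by omega]
  have habs : (k * ((n₂ * n₃ : ℕ) : ℤ)).natAbs = k.natAbs * (n₂ * n₃) := by
    rw [Int.natAbs_mul, Int.natAbs_natCast]
  have hk1 : 1 ≤ k.natAbs := Int.natAbs_pos.2 hk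
  have hbig : 117 ≤ k.natAbs * (n₂ * n₃) := hM.trans (Nat.le_mul_of_pos_left _ hk1)
  refine ⟨hM, ?_, by omega, by omega, by omega⟩
  have hM' : (117 : ℤ) ≤ ((n₂ * n₃ : ℕ) : ℤ) := by exact_mod_cast hM
  rcases lt_trichotomy k 0 with h | h | h
  · exact mul_pos_of_neg_of_neg h (by nlinarith only [hT, h, hM'])
  · exact absurd h hk
  · exact mul_pos h (by nlinarith only [hT, h, hM'])

/-- The involution value of `θ` vanishes. -/
theorem alpha_eq_zero {n₁ n₂ n₃ h C : ℕ} {t k α : ℤ} (h₁ : n₁ % 2 = 1) (h₁5 : 5 ≤ n₁)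
    (h₂ : n₂ % 4 = 1) (h₂9 : 9 ≤ n₂) (h₃ : n₃ % 4 = 1) (h₃9 : 9 ≤ n₃)
    (h₁₂ : n₁.Coprime n₂) (h₁₃ : n₁.Coprime n₃) (h₂₃ : n₂.Coprime n₃)
    (hT : t + 1 = k * (n₂ * n₃ : ℕ)) (hk : k ≠ 0) (ht : t ≠ 0) (ht₁ : (n₁ : ℤ) ∣ t - 1)
    (hth : t.natAbs ∣ h) (hCh : C ∣ h) (hC : 2 ∣ C) (hodd : (h / C) % 2 = 1)
    (hh : h ≤ 3 * (n₁ * n₂ * n₃)) (hcop : h.Coprime (n₁ * n₂ * n₃))
    (hα : 1 + α ^ 2 + ((n₁ - 1) / 2 : ℕ) * (1 + α) ^ 2 ≤ (C : ℤ))
    (heq : (C : ℤ) ^ 2 * k * t = h * (t - α) ^ 2) : α = 0 := by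
  by_contra hα0
  obtain ⟨hM, hkt, hlo, hhi, ht116⟩ := sign_facts h₂ h₂9 h₃ h₃9 h₂₃ hT hk
  have hC0 : 0 < C := by
    have : (0 : ℤ) < C := lt_of_lt_of_le (by positivity) hα
    exact_mod_cast this
  have heqN : C ^ 2 * (k.natAbs * t.natAbs) = h * (t - α).natAbs ^ 2 := by
    have := congrArg Int.natAbs heq
    simpa [Int.natAbs_mul, Int.natAbs_pow, mul_assoc] using this
  set t' := t.natAbs with ht'
  set k' := k.natAbs with hk'
  set D := (t - α).natAbs with hD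
  set A := α.natAbs with hA
  have hk1 : 1 ≤ k' := Int.natAbs_pos.2 hk
  have hD0 : 0 < D := by
    rcases Nat.eq_zero_or_pos D with h0 | h0
    · rw [h0] at heqN
      simp [hC0.ne', hk1.trans_lt' Nat.zero_lt_one |>.ne', ] at heqN
      omega
    · exact h0
  obtain ⟨f, rfl⟩ := hth
  obtain ⟨g, a, b, hg, hab, hCa, hDb⟩ : ∃ g a b, 0 < g ∧ Nat.Coprime a b ∧ C = g * a ∧ D = g * b :=
    ⟨C.gcd D, C / C.gcd D, D / C.gcd D, Nat.gcd_pos_of_pos_left _ hC0,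
      Nat.coprime_div_gcd_div_gcd (Nat.gcd_pos_of_pos_left _ hC0),
      (Nat.mul_div_cancel' (Nat.gcd_dvd_left _ _)).symm,
      (Nat.mul_div_cancel' (Nat.gcd_dvd_right _ _)).symm⟩
  have hb0 : 0 < b := Nat.pos_of_ne_zero fun e => by subst e; omega
  have ha0 : 0 < a := Nat.pos_of_ne_zero fun e => by subst e; omega
  have e1 : a ^ 2 * k' = f * b ^ 2 := by
    have hp : 0 < g ^ 2 * t' := Nat.mul_pos (pow_pos hg 2) (by omega)
    refine Nat.eq_of_mul_eq_mul_left hp ?_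
    rw [hCa, hDb] at heqN
    linarith [heqN]
  obtain ⟨c, hc⟩ : b ^ 2 ∣ k' :=
    ((hab.symm.pow 2 2).dvd_of_dvd_mul_left ⟨f, by rw [e1, mul_comm]⟩)
  have hf : f = c * a ^ 2 := by
    refine Nat.eq_of_mul_eq_mul_left (pow_pos hb0 2) ?_
    rw [mul_comm, ← e1, hc]; ring
  have hDw : D ∣ t' * (c * a * b) := by
    have h1 : g * a ∣ (t' * (c * a)) * a := by
      rw [← hCa]; rw [hf] at hCh; exact dvd_trans hCh (dvd_of_eq (by ring))
    rw [hDb]
    exact dvd_trans (Nat.mul_dvd_mul_right (Nat.dvd_of_mul_dvd_mul_right ha0 h1) b)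
      (dvd_of_eq (by ring))
  set w := c * a * b with hw
  have hc0 : 0 < c := Nat.pos_of_ne_zero fun e => by subst e; omega
  have hw0 : 0 < w := by positivity
  have hDA : D ∣ A * w := by
    have h1 : (t - α) ∣ t * (w : ℤ) := by
      rw [← Int.natAbs_dvd_natAbs, Int.natAbs_mul, Int.natAbs_natCast]; exact hDw
    have h2 : (t - α) ∣ α * (w : ℤ) := by
      have h3 := dvd_sub h1 (dvd_mul_right (t - α) (w : ℤ))
      rwa [show t * (w : ℤ) - (t - α) * w = α * w by ring] at h3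
    rw [← Int.natAbs_dvd_natAbs, Int.natAbs_mul, Int.natAbs_natCast] at h2
    exact h2
  have hA0 : 0 < A := Int.natAbs_pos.2 hα0
  have hDle : D ≤ A * w := Nat.le_of_dvd (Nat.mul_pos hA0 hw0) hDA
  have hCk : C * k' = w * D := by rw [hc, hCa, hDb, hw]; ring
  have hwh : w ^ 2 * t' = t' * f * k' := by rw [hf, hc, hw]; ring
  have hnb : 116 * (w ^ 2) ≤ 351 * n₁ := by
    have h1 : w ^ 2 * t' ≤ 3 * n₁ * (t' + 1) := by
      rw [hwh]
      calc t' * f * k' ≤ 3 * (n₁ * n₂ * n₃) * k' := Nat.mul_le_mul_right _ hh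
        _ = 3 * n₁ * (k' * (n₂ * n₃)) := by ring
        _ ≤ _ := Nat.mul_le_mul_left _ hlo
    refine Nat.le_of_mul_le_mul_right ?_ (by omega : 0 < t')
    nlinarith only [h1, Nat.mul_le_mul_left n₁ ht116]
  have hCle : 116 * C ≤ A * (351 * n₁) := by
    calc 116 * C ≤ 116 * (C * k') := Nat.mul_le_mul_left _ (Nat.le_mul_of_pos_right _ hk1)
      _ = 116 * (w * D) := by rw [hCk]
      _ ≤ 116 * (w * (A * w)) := Nat.mul_le_mul_left _ (Nat.mul_le_mul_left _ hDle)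
      _ = A * (116 * w ^ 2) := by ring
      _ ≤ _ := Nat.mul_le_mul_left _ hnb
  obtain ⟨m, hm⟩ : ∃ m, n₁ = 2 * m + 1 := ⟨n₁ / 2, by omega⟩
  rw [show (n₁ - 1) / 2 = m by omega] at hα
  have hαb : -9 ≤ α ∧ α ≤ 5 := by
    have hCz : (116 : ℤ) * C ≤ |α| * (351 * (2 * m + 1)) := by
      have := hCle; rw [hm] at this; zify at this; rw [hA, Int.natCast_natAbs] at this; exact this
    have hm2 : (2 : ℤ) ≤ m := by omega
    constructor
    · by_contra h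
      rw [abs_of_neg (by omega)] at hCz
      nlinarith only [hCz, hα, mul_nonneg (show (0 : ℤ) ≤ -10 - α by omega) (show (0 : ℤ) ≤ m by omega),
        mul_nonneg (mul_self_nonneg (α + 10)) (show (0 : ℤ) ≤ (m : ℤ) - 2 by omega), hm2, h,
        mul_self_nonneg (α + 10)]
    · by_contra h
      rw [abs_of_pos (by omega)] at hCz
      nlinarith only [hCz, hα, mul_nonneg (show (0 : ℤ) ≤ α - 6 by omega) (show (0 : ℤ) ≤ m by omega),
        mul_nonneg (mul_self_nonneg (α - 6)) (show (0 : ℤ) ≤ (m : ℤ) - 2 by omega), hm2, h,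
        mul_self_nonneg (α - 6)]
  have htD : t' ≤ D + A := by omega
  have hA9 : A ≤ 9 := by omega
  have htw : t' ≤ 9 * (w + 1) := by
    have : A * w ≤ 9 * w := Nat.mul_le_mul_right _ hA9
    omega
  have hn1t : n₁ ≤ t' + 1 := by
    have h1 := Int.natAbs_dvd_natAbs.2 ht₁
    rw [Int.natAbs_natCast] at h1
    have := Nat.le_of_dvd (Int.natAbs_pos.2 (by omega : t - 1 ≠ 0)) h1
    omega
  have hw28 : w ≤ 28 := by
    by_contra h
    nlinarith only [hnb, hn1t, htw, lt_of_not_ge h]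
  have hk2 : k' ≤ 2 := by
    by_contra h
    have := Nat.mul_le_mul (Nat.succ_le_of_lt (lt_of_not_ge h)) hM
    omega
  have hM262 : n₂ * n₃ ≤ 262 := (Nat.le_mul_of_pos_left _ hk1).trans (by omega)
  obtain ⟨a₂, rfl⟩ : ∃ a₂, n₂ = 4 * a₂ + 1 := ⟨n₂ / 4, by omega⟩
  obtain ⟨a₃, rfl⟩ : ∃ a₃, n₃ = 4 * a₃ + 1 := ⟨n₃ / 4, by omega⟩
  have hb2 : a₂ < 8 := by
    by_contra h
    nlinarith only [hM262, h₃9, not_lt.1 h]
  have hb3 : a₃ < 8 := by
    by_contra h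
    nlinarith only [hM262, h₂9, not_lt.1 h]
  have hchk := alphaAll a₂ hb2 (by omega) a₃ hb3 (by omega)
  rw [alphaPair, Bool.or_eq_true, List.all_eq_true] at hchk
  have hk4 : k ∈ ([-2, -1, 1, 2] : List ℤ) := by simp; omega
  have hc1 := List.all_eq_true.1
    ((hchk.resolve_left (by simp [Nat.coprime_iff_gcd_eq_one.1 h₂₃, hM262])) k hk4) n₁
    (List.mem_range.2 (by omega))
  have htk : k * (((4 * a₂ + 1) * (4 * a₃ + 1) : ℕ) : ℤ) - 1 = t := by omega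
  simp only [alphaCheck, htk, Bool.or_eq_true, List.all_eq_true] at hc1
  have hmod : t % (n₁ : ℤ) = 1 % (n₁ : ℤ) := (Int.modEq_iff_dvd.2 ht₁).symm
  have hc2 := ((hc1.resolve_left (by simp [hmod, h₁, h₁5, show t.natAbs ≤ 261 by omega]))
    (α + 9).toNat (List.mem_range.2 (by omega)))
  rw [Int.toNat_of_nonneg (by omega), add_sub_cancel_right] at hc2
  have hc3 := (hc2.resolve_left (by simpa using hα0)) w (List.mem_range.2 (by omega))
  simp only [← hD, ← hk', ← hA, ← ht'] at hc3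
  have hwD : w * D / k' = C := by rw [← hCk, Nat.mul_div_cancel _ hk1]
  have hhk : w * w * t' / k' = t' * f := by
    rw [← pow_two, hwh, Nat.mul_div_cancel _ hk1]
  rw [hwD, hhk] at hc3
  have hcg : Nat.gcd (t' * f) (n₁ * (4 * a₂ + 1) * (4 * a₃ + 1)) = 1 := hcop
  have hαC := hα
  rw [show m = (n₁ - 1) / 2 by omega] at hαC
  rw [decide_eq_true hαC] at hc3
  simp [Nat.dvd_iff_mod_eq_zero.1 hDA, show w * D % k' = 0 by rw [← hCk, Nat.mul_mod_left],
    show C % 2 = 0 by omega, Nat.dvd_iff_mod_eq_zero.1 hCh, hodd, hcg, hh,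
    show w * w * t' % k' = 0 by rw [← pow_two, hwh, Nat.mul_mod_left]] at hc3

theorem cs_step {x y p q X Y : ℤ} (hx : x ^ 2 ≤ p * X) (hy : y ^ 2 ≤ q * Y) (hp : 0 ≤ p)
    (hq : 0 ≤ q) (hX : 0 ≤ X) (hY : 0 ≤ Y) : (x + y) ^ 2 ≤ (p + q) * (X + Y) := by
  have h1 : (2 * x * y) ^ 2 ≤ (p * Y + q * X) ^ 2 := by
    have h2 := mul_le_mul hx hy (sq_nonneg y) (mul_nonneg hp hX)
    nlinarith only [h2, sq_nonneg (p * Y - q * X)]
  have h3 := (abs_le_of_sq_le_sq' h1 (by positivity)).2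
  nlinarith only [hx, hy, h3]

theorem extra_small {n e s : ℤ} (hs : s = 1 ∨ s = 2 ∨ s = 3) (hn : 32 ≤ n) (he : 6 ≤ e)
    (he2 : 116 * e ^ 2 ≤ 351 * n) (hs2 : 117 * s * n < 118 * e ^ 2)
    (h7 : (n * (e - s) - e - 1) ^ 2 * (116 * 117) ≤
      (232 + 117 * n) * (n * (118 * e ^ 2 - 117 * s * n))) : False := by
  have h3 : 3 * e + 3 ≤ n := by
    rcases le_or_gt 11 e with h | h
    · nlinarith only [h, he2]
    · interval_cases e <;> omega
  have hQ : n * (3 * (e - s) - 1) ≤ 3 * (n * (e - s) - e - 1) := by linarith only [h3]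
  have hW : 0 ≤ n * (3 * (e - s) - 1) := mul_nonneg (by omega) (by omega)
  have hq := pow_le_pow_left₀ hW hQ 2
  have hB : (232 + 117 * n) * 4 * (n * (118 * e ^ 2 - 117 * s * n)) ≤
      497 * n * (n * (118 * e ^ 2 - 117 * s * n)) :=
    mul_le_mul_of_nonneg_right (by linarith only [hn]) (mul_nonneg (by omega) (by linarith only [hs2]))
  have h8 : (3 * (e - s) - 1) ^ 2 * 54288 ≤ 4473 * (118 * e ^ 2 - 117 * s * n) := by
    refine le_of_mul_le_mul_right ?_ (show (0 : ℤ) < n ^ 2 by positivity)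
    rw [mul_pow, mul_pow] at hq
    linarith only [h7, hq, hB]
  rcases le_or_gt 10 e with h | h
  · rcases hs with rfl | rfl | rfl <;> nlinarith only [h8, he2, h]
  · rcases hs with rfl | rfl | rfl <;> interval_cases e <;> omega

set_option maxHeartbeats 1000000 in
/-- There is no further character of degree divisible by `n₁n₂n₃`. -/
theorem no_extra {n₁ n₂ n₃ h C e s : ℕ} {t k D₂ D₃ u u' : ℤ} (h₁ : n₁ % 2 = 1) (h₁5 : 5 ≤ n₁)
    (h₂ : n₂ % 4 = 1) (h₂9 : 9 ≤ n₂) (h₃ : n₃ % 4 = 1) (h₃9 : 9 ≤ n₃)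
    (h₁₂ : n₁.Coprime n₂) (h₁₃ : n₁.Coprime n₃) (h₂₃ : n₂.Coprime n₃)
    (hT : t + 1 = k * (n₂ * n₃ : ℕ)) (hk : k ≠ 0) (ht : t ≠ 0) (ht₁ : (n₁ : ℤ) ∣ t - 1)
    (hth : t.natAbs ∣ h) (hhe : h = e * C) (he : e % 2 = 1) (hC : 2 ∣ C)
    (hh : h ≤ 3 * (n₁ * n₂ * n₃)) (hcop : h.Coprime (n₁ * n₂ * n₃))
    (heq : (C : ℤ) ^ 2 * k = h * t)
    (hD₂ : ((n₁ * n₃ : ℕ) : ℤ) ∣ D₂) (hD₂0 : D₂ ≠ 0) (hD₃ : ((n₁ * n₂ : ℕ) : ℤ) ∣ D₃) (hD₃0 : D₃ ≠ 0)
    (hord : ((n₁ * n₂ * n₃ * h : ℕ) : ℤ) = 1 + t ^ 2 + u ^ 2 + u' ^ 2 +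
      ((n₁ - 1) / 2 : ℕ) * (t + 1) ^ 2 + ((n₂ - 1) / 4 : ℕ) * D₂ ^ 2 + ((n₃ - 1) / 4 : ℕ) * D₃ ^ 2 +
      s * ((n₁ * n₂ * n₃ : ℕ) : ℤ) ^ 2)
    (hK : ((n₁ - 1) / 2 + (n₂ - 1) / 4 + (n₃ - 1) / 4) * C < e * (n₁ * n₂ * n₃))
    (hfs : ((n₁ * n₂ * n₃ * e : ℕ) : ℤ) ≤ |t| + |u| + |u'| + s * ((n₁ * n₂ * n₃ : ℕ) : ℤ) +
      ((n₁ - 1) / 2 : ℕ) * |t + 1| + ((n₂ - 1) / 4 : ℕ) * |D₂| + ((n₃ - 1) / 4 : ℕ) * |D₃|) :
    s = 0 := by
  by_contra hs
  obtain ⟨hM, hkt, hlo, hhi, ht116⟩ := sign_facts h₂ h₂9 h₃ h₃9 h₂₃ hT hk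
  subst hhe
  have hC0 : 0 < C := Nat.pos_of_ne_zero fun e0 => by
    subst e0
    refine absurd hord (ne_of_lt ?_)
    rw [mul_zero, mul_zero, Nat.cast_zero]
    positivity
  have hCk : (C : ℤ) * k = e * t := by
    refine mul_left_cancel₀ (show (C : ℤ) ≠ 0 by omega) ?_
    push_cast at heq; linarith [heq]
  have hCkN : C * k.natAbs = e * t.natAbs := by
    simpa [Int.natAbs_mul] using congrArg Int.natAbs hCk
  set t' := t.natAbs with ht'
  set k' := k.natAbs with hk'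
  set M := n₂ * n₃ with hMd
  have hk1 : 1 ≤ k' := Int.natAbs_pos.2 hk
  have hco : Nat.Coprime t' k' := Int.isCoprime_iff_gcd_eq_one.1 (⟨-1, (M : ℤ), by linarith⟩ : IsCoprime t k)
  obtain ⟨p, rfl⟩ : t' ∣ C := hco.dvd_of_dvd_mul_right ⟨e, by rw [hCkN, mul_comm]⟩
  have hep : e = p * k' := by
    refine Nat.eq_of_mul_eq_mul_right (by omega : 0 < t') ?_
    rw [← hCkN]; ring
  have hN : n₁ * n₂ * n₃ = n₁ * M := mul_assoc _ _ _
  rw [hN] at hh hcop hK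
  -- `e` and the number of classes are small
  have he2 : 116 * e ^ 2 ≤ 351 * n₁ := by
    have h1 : e ^ 2 * t' ≤ 3 * n₁ * (t' + 1) := calc
      e ^ 2 * t' = e * (t' * p) * k' := by rw [hep]; ring
      _ ≤ 3 * (n₁ * M) * k' := Nat.mul_le_mul_right _ hh
      _ = 3 * n₁ * (k' * M) := by ring
      _ ≤ _ := Nat.mul_le_mul_left _ hlo
    refine Nat.le_of_mul_le_mul_right ?_ (by omega : 0 < t')
    nlinarith only [h1, Nat.mul_le_mul_left n₁ ht116]
  set m₁ := (n₁ - 1) / 2 with hm₁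
  set m₂ := (n₂ - 1) / 4 with hm₂
  set m₃ := (n₃ - 1) / 4 with hm₃
  have hp0 : 0 < p := Nat.pos_of_ne_zero fun e0 => by subst e0; simp at hep; omega
  have hK1 : 116 * (m₁ + m₂ + m₃) < 117 * n₁ := by
    have h1 : (m₁ + m₂ + m₃) * t' < n₁ * (t' + 1) := by
      refine lt_of_lt_of_le (Nat.lt_of_mul_lt_mul_right (a := p) ?_) (Nat.mul_le_mul_left _ hlo)
      calc (m₁ + m₂ + m₃) * t' * p = (m₁ + m₂ + m₃) * (t' * p) := mul_assoc _ _ _
        _ < e * (n₁ * M) := hK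
        _ = n₁ * (k' * M) * p := by rw [hep]; ring
    refine Nat.lt_of_mul_lt_mul_right (a := t') ?_
    nlinarith only [h1, Nat.mul_le_mul_left n₁ ht116]
  -- casts
  have hTabs : |t| = (t' : ℤ) := by rw [ht', Int.natCast_natAbs]
  set N : ℤ := ((n₁ * n₂ * n₃ : ℕ) : ℤ) with hNd
  have hNM : N = (n₁ : ℤ) * M := by rw [hNd, hN]; push_cast; ring
  have hord' : N * ((e * (t' * p) : ℕ) : ℤ) - 1 - t ^ 2 - s * N ^ 2 - (m₁ : ℤ) * (t + 1) ^ 2
      = u ^ 2 + u' ^ 2 + m₂ * D₂ ^ 2 + m₃ * D₃ ^ 2 := by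
    have := hord; push_cast [hNd] at this ⊢; linarith
  have hsq : ∀ (d : ℕ) (D : ℤ), (d : ℤ) ∣ D → D ≠ 0 → (d : ℤ) ^ 2 ≤ D ^ 2 := fun d D hd h0 => by
    rw [← sq_abs D]
    exact pow_le_pow_left₀ (by positivity)
      (Int.le_of_dvd (abs_pos.2 h0) ((dvd_abs _ _).2 hd)) 2
  have hm2' := mul_le_mul_of_nonneg_left (hsq _ _ hD₂ hD₂0) (Int.natCast_nonneg m₂)
  have hm3' := mul_le_mul_of_nonneg_left (hsq _ _ hD₃ hD₃0) (Int.natCast_nonneg m₃)
  have hcs : (|u| + |u'| + (m₂ : ℤ) * |D₂| + m₃ * |D₃|) ^ 2 ≤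
      (1 + 1 + (m₂ : ℤ) + m₃) * (u ^ 2 + u' ^ 2 + m₂ * D₂ ^ 2 + m₃ * D₃ ^ 2) := by
    have a0 : ∀ (m : ℕ) (x : ℤ), ((m : ℤ) * |x|) ^ 2 ≤ (m : ℤ) * (m * x ^ 2) := fun m x => by
      rw [mul_pow, sq_abs]; exact le_of_eq (by ring)
    exact cs_step (cs_step (cs_step (x := |u|) (y := |u'|) (p := 1) (q := 1) (X := u ^ 2) (Y := u' ^ 2)
      (by rw [sq_abs]; omega) (by rw [sq_abs]; omega) zero_le_one zero_le_one (sq_nonneg _) (sq_nonneg _))
      (a0 m₂ D₂) (by norm_num) (by positivity) (by positivity) (by positivity))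
      (a0 m₃ D₃) (by positivity) (by positivity) (by positivity) (by positivity)
  set Sg := |u| + |u'| + (m₂ : ℤ) * |D₂| + m₃ * |D₃| with hSg
  set need : ℤ := e * N - |t| - s * N - (m₁ : ℤ) * |t + 1| with hneed
  have hneedle : need ≤ Sg := by
    have := hfs; push_cast [hNd] at this ⊢; rw [hneed, hSg]; push_cast [hNd]; linarith
  set rem : ℤ := u ^ 2 + u' ^ 2 + m₂ * D₂ ^ 2 + m₃ * D₃ ^ 2 with hrem
  have hrem0 : 0 ≤ rem := by positivity
  have hkey : 0 < need → need ^ 2 ≤ (2 + (m₂ : ℤ) + m₃) * rem := fun h0 => by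
    have := (pow_le_pow_left₀ h0.le hneedle 2).trans hcs
    linarith only [this]
  -- the order
  have hNh : N * ((e * (t' * p) : ℕ) : ℤ) * 117 ≤ 118 * ((n₁ : ℤ) * M ^ 2 * e ^ 2) := by
    have h1 : t' * 117 ≤ 118 * (k' * M) := by
      have := Nat.mul_le_mul hk1 hM
      omega
    rw [hNM]
    calc (n₁ : ℤ) * M * ((e * (t' * p) : ℕ) : ℤ) * 117
        = ((n₁ * M * (e * p) * (t' * 117) : ℕ) : ℤ) := by push_cast; ring
      _ ≤ ((n₁ * M * (e * p) * (118 * (k' * M)) : ℕ) : ℤ) :=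
          Int.ofNat_le.2 (Nat.mul_le_mul_left _ h1)
      _ = _ := by rw [hep]; push_cast; ring
  have hM0 : (117 : ℤ) ≤ M := by exact_mod_cast hM
  have hs1 : (1 : ℤ) ≤ s := by omega
  have hs2 : 117 * (s : ℤ) * n₁ < 118 * (e : ℤ) ^ 2 := by
    have h2 : (s : ℤ) * N ^ 2 < N * ((e * (t' * p) : ℕ) : ℤ) := by
      nlinarith only [hord', hrem0, sq_nonneg t, mul_nonneg (Int.natCast_nonneg m₁) (sq_nonneg (t + 1))]
    rw [hNM] at h2 hNh
    have h3 : 117 * (s : ℤ) * n₁ * ((n₁ : ℤ) * M ^ 2) < 118 * (e : ℤ) ^ 2 * ((n₁ : ℤ) * M ^ 2) := by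
      nlinarith only [h2, hNh]
    exact lt_of_mul_lt_mul_right h3 (by positivity)
  have he2z : (116 : ℤ) * (e : ℤ) ^ 2 ≤ 351 * n₁ := by exact_mod_cast he2
  have hs3 : s ≤ 3 := by
    by_contra h
    nlinarith only [hs2, he2z, show (4 : ℤ) ≤ s by omega, show (5 : ℤ) ≤ n₁ by omega]
  -- `n₁` is small
  have hn31 : n₁ ≤ 31 := by
    by_contra h
    have hn : (32 : ℤ) ≤ n₁ := by omega
    have he6 : (6 : ℤ) ≤ e := by
      by_contra h6
      nlinarith only [hs2, hs1, hn, mul_self_le_mul_self (Int.natCast_nonneg e) (show (e : ℤ) ≤ 5 by omega)]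
    have hke : (k' : ℤ) ≤ e := by exact_mod_cast hep ▸ Nat.le_mul_of_pos_left k' hp0
    have ht'le : |t| ≤ (e : ℤ) * M + 1 := by
      rw [hTabs]
      have : (t' : ℤ) ≤ k' * M + 1 := by exact_mod_cast hhi
      nlinarith only [this, hke, hM0]
    have hSall : (e : ℤ) * N - |t| - s * N ≤ Sg + (m₁ : ℤ) * |t + 1| := by
      rw [hneed] at hneedle; linarith
    have hcs2 : (Sg + (m₁ : ℤ) * |t + 1|) ^ 2 ≤
        (1 + 1 + (m₂ : ℤ) + m₃ + m₁) * (rem + m₁ * (t + 1) ^ 2) :=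
      cs_step hcs (by rw [mul_pow, sq_abs]; exact le_of_eq (by ring)) (by positivity) (by positivity)
        hrem0 (by positivity)
    set Q : ℤ := (n₁ : ℤ) * ((e : ℤ) - s) - e - 1 with hQ
    have hQ0 : 0 ≤ Q := by
      have : (n₁ : ℤ) * 3 ≤ n₁ * ((e : ℤ) - s) := mul_le_mul_of_nonneg_left (by omega) (by omega)
      nlinarith only [hQ, this, he2z, he6]
    have hA : (M : ℤ) * Q ≤ (e : ℤ) * N - |t| - s * N := by
      rw [hNM, hQ]; nlinarith only [ht'le, hM0]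
    have h4 := (pow_le_pow_left₀ (by positivity) (hA.trans hSall) 2).trans hcs2
    have h5 : (rem + (m₁ : ℤ) * (t + 1) ^ 2) * 117 ≤
        (n₁ : ℤ) * M ^ 2 * (118 * e ^ 2 - 117 * s * n₁) := by
      rw [hNM] at hNh hord'
      nlinarith only [hord', hNh, sq_nonneg t]
    have h6 : (1 + 1 + (m₂ : ℤ) + m₃ + m₁) * 116 ≤ 232 + 117 * n₁ := by
      have : 116 * ((m₁ : ℤ) + m₂ + m₃) ≤ 117 * n₁ := by exact_mod_cast hK1.le
      linarith
    have h7 : Q ^ 2 * (116 * 117) ≤ (232 + 117 * n₁) * ((n₁ : ℤ) * (118 * e ^ 2 - 117 * s * n₁)) := by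
      refine le_of_mul_le_mul_right ?_ (show (0 : ℤ) < (M : ℤ) ^ 2 by positivity)
      have h8 := mul_le_mul h6 h5 (by positivity) (by positivity)
      nlinarith only [h4, h8]
    rw [hQ] at h7
    exact extra_small (by omega) hn he6 he2z hs2 h7
  -- the finite search
  have he9 : e ≤ 9 := by
    by_contra h
    nlinarith only [he2, hn31, show 11 ≤ e by omega]
  obtain ⟨a₁, rfl⟩ : ∃ a₁, n₁ = 2 * a₁ + 5 := ⟨(n₁ - 5) / 2, by omega⟩
  obtain ⟨a₂, rfl⟩ : ∃ a₂, n₂ = 4 * a₂ + 9 := ⟨(n₂ - 9) / 4, by omega⟩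
  obtain ⟨a₃, rfl⟩ : ∃ a₃, n₃ = 4 * a₃ + 9 := ⟨(n₃ - 9) / 4, by omega⟩
  have hchk := extraAll a₁ (by omega) a₂ (by omega) a₃ (by omega)
  rw [extraPair, Bool.or_eq_true, List.all_eq_true] at hchk
  have hc1 := (hchk.resolve_left (by
    rw [decide_eq_true (Nat.Coprime.mul_right h₁₂ h₁₃).gcd_eq_one, decide_eq_true h₂₃.gcd_eq_one,
      decide_eq_true hK1]
    decide))
    e (by simp; omega)
  rw [List.all_eq_true] at hc1
  have hke : k' ≤ e := hep ▸ Nat.le_mul_of_pos_left k' hp0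
  have hc2 := hc1 k' (List.mem_range.2 (by omega))
  rw [Bool.or_eq_true, List.all_eq_true] at hc2
  have hc3 := (hc2.resolve_left (by simp; omega)) s (by simp; omega)
  rw [Bool.and_eq_true] at hc3
  have hc : ∃ neg : Bool, (if neg then -(k' : ℤ) else k') = k ∧
      extraCheck (2 * a₁ + 5) (4 * a₂ + 9) (4 * a₃ + 9) e k' s neg = true := by
    rcases Int.natAbs_eq k with hke' | hke'
    · exact ⟨false, by rw [← hk'] at hke'; simp [← hke'], hc3.2⟩
    · exact ⟨true, by rw [← hk'] at hke'; simp [← hke'], hc3.1⟩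
  obtain ⟨neg, hneg, hcc⟩ := hc
  have htk : k * (M : ℤ) - 1 = t := by linarith
  have hpd : e / k' = p := by rw [hep, Nat.mul_div_cancel _ hk1]
  simp only [extraCheck, hneg, ← hMd, htk, ← ht', hpd, ← hm₁, ← hm₂, ← hm₃, ← hNd] at hcc
  have hmod := (Int.modEq_iff_dvd.2 ht₁).symm
  have hdec : (decide (need ≤ 0) || decide (need ^ 2 ≤ (2 + (m₂ : ℤ) + m₃) * rem)) = true := by
    rcases le_or_gt need 0 with h0 | h0
    · simp [h0]
    · simp [hkey h0]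
  rw [mul_comm t' p] at hh hcop hC hord'
  rw [← hord', hneed] at hdec
  have hlo2 : (m₂ : ℤ) * ((((2 * a₁ + 5) * (4 * a₃ + 9) : ℕ)) : ℤ) ^ 2 +
      m₃ * ((((2 * a₁ + 5) * (4 * a₂ + 9) : ℕ)) : ℤ) ^ 2 ≤
      N * ((e * (p * t') : ℕ) : ℤ) - 1 - t ^ 2 - s * N ^ 2 - (m₁ : ℤ) * (t + 1) ^ 2 := by
    rw [hord']; linarith [sq_nonneg u, sq_nonneg u', hm2', hm3']
  have hcg : Nat.gcd (e * (p * t')) ((2 * a₁ + 5) * M) = 1 := hcop
  rw [Bool.or_eq_true] at hcc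
  rcases hcc with hcc | hcc
  · simp only [Bool.not_eq_true', decide_eq_false_iff_not] at hcc
    exact hcc hmod
  · rw [decide_eq_true hlo2, hdec, hN] at hcc
    simp [hep ▸ Nat.mul_mod_left p k', Nat.dvd_iff_mod_eq_zero.1 hC, hh, hcg] at hcc

end CfsgLib.InvChar.SelfCent
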