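import Mathlib

/-!
# Finite searches for the self-centralization system (2,4,4)
-/

set_option autoImplicit false

namespace CfsgLib.InvChar.SelfCent

/-- Nothing on `t = n * i` for given `n₁`, `n`, `q`. -/
def degT (n₁ n q : ℕ) (t : ℤ) : Bool :=
  !(decide (t % n₁ = 1 % (n₁ : ℤ)) && decide (t * (t + 1) % q = 0) && decide (0 < t * (t + 1))) ||
    (List.range 121).all fun a =>
      let α : ℤ := (a : ℤ) - 60
      let X : ℕ := (t * (t + 1)).toNat
      let j := X / (n * q)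
      let D := (t - α).natAbs
      let S := 2 * (n₁ - 1) + (n - 1) + (q - 1)
      let lo := (1 + α ^ 2 + 2 * (1 + α) ^ 2).toNat
      !(decide (S * (D * D) < 4 * n₁ * X) && decide (lo * lo * j ≤ 3 * n₁ * (n * q) * (D * D))) ||
        (List.range (3 * n₁ * (n * q) / lo + 1)).all fun e =>
          !(decide (e % 2 = 1) && decide (e * (D * D) % j = 0)) ||
            let C := e * (D * D) / j
            !(decide (C % 2 = 0) && decide (Nat.gcd (e * C) (n₁ * (n * q)) = 1) && decide (lo ≤ C) &&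
              decide (e * C ≤ 3 * (n₁ * (n * q))) && decide (S * C < 4 * (e * (n₁ * (n * q)))))

/-- All multiples `t` of `n` up to `B` in absolute value. -/
def degPair (n₁ n q B : ℕ) : Bool :=
  !(decide (Nat.gcd n q = 1)) ||
    (List.range (2 * (B / n) + 1)).all fun i => degT n₁ n q ((n : ℤ) * ((i : ℤ) - (B / n : ℕ)))

theorem degFive : ∀ n < 27, ∀ q < 27, 9 ≤ 4 * n + 1 → 9 ≤ 4 * q + 1 → 4 * n + 4 * q + 2 ≤ 113 →
    degPair 5 (4 * n + 1) (4 * q + 1) 431 = true := by decide +kernel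

theorem degSeven : ∀ q < 45, 9 ≤ 4 * q + 1 → degPair 7 9 (4 * q + 1) 1000 = true := by decide +kernel

/-- Nothing for `alpha ≠ 0`. -/
def alphaCheck (n₁ n₂ n₃ : ℕ) (k : ℤ) : Bool :=
  let t : ℤ := k * (n₂ * n₃ : ℕ) - 1
  !(decide (t % n₁ = 1 % (n₁ : ℤ)) && decide (n₁ % 2 = 1) && decide (5 ≤ n₁) && decide (t.natAbs ≤ 261)) ||
    (List.range 15).all fun a =>
      let α : ℤ := (a : ℤ) - 9
      decide (α = 0) || (List.range 29).all fun w =>
        let D := (t - α).natAbs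
        !(decide (α.natAbs * w % D = 0) && decide (w * D % k.natAbs = 0)) ||
          let C := w * D / k.natAbs
          !(decide (C % 2 = 0) && decide (1 + α ^ 2 + ((n₁ - 1) / 2 : ℕ) * (1 + α) ^ 2 ≤ (C : ℤ)) &&
            decide (w * w * t.natAbs % k.natAbs = 0)) ||
            let h := w * w * t.natAbs / k.natAbs
            !(decide (h % C = 0) && decide ((h / C) % 2 = 1) && decide (Nat.gcd h (n₁ * n₂ * n₃) = 1) &&
              decide (h ≤ 3 * (n₁ * n₂ * n₃)))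

/-- All small parameters for `alpha`. -/
def alphaPair (n₂ n₃ : ℕ) : Bool :=
  !(decide (Nat.gcd n₂ n₃ = 1) && decide (n₂ * n₃ ≤ 262)) ||
    ([-2, -1, 1, 2] : List ℤ).all fun k => (List.range 263).all fun n₁ => alphaCheck n₁ n₂ n₃ k

theorem alphaAll : ∀ n₂ < 8, 2 ≤ n₂ → ∀ n₃ < 8, 2 ≤ n₃ →
    alphaPair (4 * n₂ + 1) (4 * n₃ + 1) = true := by decide +kernel

/-- Nothing with an extra character. -/
def extraCheck (n₁ n₂ n₃ e k' s : ℕ) (neg : Bool) : Bool :=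
  let k : ℤ := if neg then -(k' : ℤ) else k'
  let t : ℤ := k * (n₂ * n₃ : ℕ) - 1
  !(decide (t % n₁ = 1 % (n₁ : ℤ))) ||
    let p := e / k'
    let C := p * t.natAbs
    let h := e * C
    let N : ℤ := (n₁ * n₂ * n₃ : ℕ)
    let m₁ : ℤ := ((n₁ - 1) / 2 : ℕ)
    let m₂ : ℤ := ((n₂ - 1) / 4 : ℕ)
    let m₃ : ℤ := ((n₃ - 1) / 4 : ℕ)
    let rem : ℤ := N * h - 1 - t ^ 2 - s * N ^ 2 - m₁ * (t + 1) ^ 2
    let need : ℤ := e * N - |t| - s * N - m₁ * |t + 1|
    !(decide (e % k' = 0) && decide (C % 2 = 0) && decide (h ≤ 3 * (n₁ * n₂ * n₃)) &&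
      decide (Nat.gcd h (n₁ * n₂ * n₃) = 1) &&
      decide (m₂ * ((n₁ * n₃ : ℕ) : ℤ) ^ 2 + m₃ * ((n₁ * n₂ : ℕ) : ℤ) ^ 2 ≤ rem) &&
      (decide (need ≤ 0) || decide (need ^ 2 ≤ (2 + m₂ + m₃) * rem)))

/-- All small parameters. -/
def extraPair (n₁ n₂ n₃ : ℕ) : Bool :=
  !(decide (Nat.gcd n₁ (n₂ * n₃) = 1) && decide (Nat.gcd n₂ n₃ = 1) &&
      decide (116 * ((n₁ - 1) / 2 + (n₂ - 1) / 4 + (n₃ - 1) / 4) < 117 * n₁)) ||
    [1, 3, 5, 7, 9].all fun e => (List.range (e + 1)).all fun k' => decide (k' = 0) ||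
      [1, 2, 3].all fun s => extraCheck n₁ n₂ n₃ e k' s true && extraCheck n₁ n₂ n₃ e k' s false

theorem extraAll : ∀ m₁ < 14, ∀ n₂ < 26, ∀ n₃ < 26,
    extraPair (2 * m₁ + 5) (4 * n₂ + 9) (4 * n₃ + 9) = true := by decide +kernel

end CfsgLib.InvChar.SelfCent
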