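import Cfsg.Agent.Lib.InvChar.SelfCent.Count

/-!
# Conjugacy classes and pairs of involutions for several self-centralising subgroups
-/

set_option autoImplicit false
set_option linter.unusedSectionVars false

namespace CfsgLib.InvChar.SelfCent

open CfsgLib.Char CfsgLib.Invol

universe u

variable {G : Type u} [Group G] [Fintype G]

/-- The hypotheses on a system of pairwise non-conjugate self-centralising subgroups. -/
structure System {k : ℕ} (A : Fin k → Subgroup G) : Prop where
  sc : ∀ i, IsSC (A i)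
  disj : ∀ i j y, Meets (A i) y → Meets (A j) y → i = j
  two_dvd : ∀ i, 2 ∣ (A i).relIndex (Subgroup.normalizer (A i : Set G))
  gt_one : ∀ i, 1 < Nat.card ↥(A i)
  fam_mul : ∀ i, fam (A i) * (A i).relIndex (Subgroup.normalizer (A i : Set G)) =
    Nat.card ↥(A i) - 1

variable {k : ℕ} {A : Fin k → Subgroup G} (S : System A)
include S

omit [Fintype G] in
theorem System.exists_reps [Finite G] : ∀ i, ∃ a : Fin (fam (A i)) → G,
    (∀ j, a j ∈ A i ∧ a j ≠ 1) ∧ (∀ j l, IsConj (a j) (a l) → j = l) := by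
  intro i
  obtain ⟨m, hm, a, ha, hinj, -⟩ := (S.sc i).exists_class_reps
  have : m = fam (A i) := by
    have h := S.fam_mul i
    rw [hm] at h
    have h0 : 0 < (A i).relIndex (Subgroup.normalizer (A i : Set G)) := by
      rcases Nat.eq_zero_or_pos ((A i).relIndex (Subgroup.normalizer (A i : Set G))) with h0 | h0
      · have := S.gt_one i
        rw [h0, mul_zero] at hm
        omega
      · exact h0
    exact (Nat.eq_of_mul_eq_mul_right h0 h).symm
  subst this
  exact ⟨a, ha, hinj⟩

/-- Classes meeting some `A i`, together with a list of further classes. -/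
theorem System.card_le {k₀ : ℕ} (b : Fin k₀ → G) (hb : ∀ j l, IsConj (b j) (b l) → j = l)
    (hbA : ∀ j i, ¬ Meets (A i) (b j)) :
    k₀ + ∑ i, fam (A i) ≤ Nat.card (Cfsg.IrrCharacter G) := by
  classical
  haveI : Finite (ConjClasses G) := Finite.of_surjective _ ConjClasses.mk_surjective
  choose a ha hinj using S.exists_reps
  rw [irr_card_eq]
  have hf : Function.Injective (fun x : Fin k₀ ⊕ (Σ i, Fin (fam (A i))) =>
      x.elim (fun j => ConjClasses.mk (b j)) (fun p => ConjClasses.mk (a p.1 p.2))) := by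
    rintro (j | ⟨i, j⟩) (l | ⟨i', l⟩) h <;>
      simp only [Sum.elim_inl, Sum.elim_inr, ConjClasses.mk_eq_mk_iff_isConj] at h
    · rw [hb j l h]
    · exact absurd ⟨_, (ha i' l).1, (ha i' l).2, h.symm⟩ (hbA j i')
    · exact absurd ⟨_, (ha i j).1, (ha i j).2, h⟩ (hbA l i)
    · obtain rfl : i = i' := S.disj i i' (a i j) ⟨_, (ha i j).1, (ha i j).2, IsConj.refl _⟩
        ⟨_, (ha i' l).1, (ha i' l).2, h.symm⟩
      rw [hinj i j l h]
  refine le_of_eq_of_le ?_ (Nat.card_le_card_of_injective _ hf)
  rw [Nat.card_sum, Nat.card_eq_fintype_card, Fintype.card_fin, Nat.card_sigma]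
  simp

/-- The number of pairs of involutions bounds the number of classes meeting some `A i`. -/
theorem System.pairs_bound {z : G} (hz : orderOf z = 2) (hone : ∀ w : G, orderOf w = 2 → IsConj z w) :
    Nat.card {w : G // orderOf w = 2} + (∑ i, fam (A i)) * Nat.card G ≤
      Nat.card {w : G // orderOf w = 2} ^ 2 := by
  classical
  choose a ha hinj using S.exists_reps
  let I := {w : G // orderOf w = 2}
  let T := Σ i, Fin (fam (A i))
  let fib : G → Type u := fun y => {p : I × I // p.1.1 * p.2.1 = y}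
  have hfib : ∀ p : T, Nat.card G ≤
      Nat.card (Σ y : (ConjClasses.mk (a p.1 p.2)).carrier, fib y.1) := by
    intro p
    obtain ⟨hm, hm1⟩ := ha p.1 p.2
    have hn : ∀ y : (ConjClasses.mk (a p.1 p.2)).carrier,
        Nat.card ↥(A p.1) ≤ Nat.card (fib y.1) := by
      rintro ⟨y, hy⟩
      rw [ConjClasses.mem_carrier_iff_mk_eq, ConjClasses.mk_eq_mk_iff_isConj] at hy
      obtain ⟨c, hc⟩ := isConj_iff.1 hy.symm
      rw [← (S.sc p.1).card_invol (S.gt_one p.1) (S.two_dvd p.1)]
      refine Nat.card_le_card_of_injective (fun u => ⟨(⟨c * u.1 * c⁻¹, ?_⟩,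
        ⟨c * (u.1 * a p.1 p.2) * c⁻¹, ?_⟩), ?_⟩) ?_
      · rw [orderOf_conj_eq]; exact u.2.1
      · rw [orderOf_conj_eq]
        exact ((S.sc p.1).pair_iff (S.gt_one p.1) (S.two_dvd p.1) hm hm1 u.2.1).2 u.2.2
      · show c * u.1 * c⁻¹ * (c * (u.1 * a p.1 p.2) * c⁻¹) = y
        rw [← hc]
        calc _ = c * (u.1 * u.1) * a p.1 p.2 * c⁻¹ := by group
          _ = _ := by rw [invol_mul_self u.2.1, mul_one]
      · intro u v h
        have := congrArg (fun q : fib y => (q.1.1 : G)) h
        exact Subtype.ext (by simpa using this)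
    haveI : Fintype (ConjClasses.mk (a p.1 p.2)).carrier := Fintype.ofFinite _
    rw [Nat.card_sigma]
    refine le_trans ?_ (Finset.sum_le_sum fun y _ => hn y)
    rw [Finset.sum_const, Finset.card_univ, ← Nat.card_eq_fintype_card, smul_eq_mul]
    refine le_of_eq ?_
    rw [← natCard_carrier_mul_centralizer (a p.1 p.2), (S.sc p.1) _ hm hm1]
  have hne : ∀ (p : T) (y : (ConjClasses.mk (a p.1 p.2)).carrier), y.1 ≠ 1 := by
    rintro p ⟨y, hy⟩ (rfl : y = 1)
    rw [ConjClasses.mem_carrier_iff_mk_eq, ConjClasses.mk_eq_mk_iff_isConj, isConj_one_right] at hy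
    exact (ha p.1 p.2).2 hy
  have hmain : Nat.card (I ⊕ Σ p : T, Σ y : (ConjClasses.mk (a p.1 p.2)).carrier, fib y.1) ≤
      Nat.card (I × I) := by
    refine Nat.card_le_card_of_injective (fun x => x.elim (fun u => (u, u)) (fun q => q.2.2.1)) ?_
    rintro (u | ⟨p, y, q⟩) (v | ⟨p', y', q'⟩) h <;> simp only [Sum.elim_inl, Sum.elim_inr] at h
    · exact congrArg Sum.inl (Prod.ext_iff.1 h).1
    · refine absurd ?_ (hne p' y')
      rw [← q'.2, ← h]; exact invol_mul_self u.2
    · refine absurd ?_ (hne p y)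
      rw [← q.2, h]; exact invol_mul_self v.2
    · have hy : y.1 = y'.1 := by rw [← q.2, ← q'.2, h]
      have hp : p = p' := by
        have e1 : IsConj (a p.1 p.2) y.1 := by
          have := y.2
          rw [ConjClasses.mem_carrier_iff_mk_eq, ConjClasses.mk_eq_mk_iff_isConj] at this
          exact this.symm
        have e2 : IsConj (a p'.1 p'.2) y.1 := by
          have := y'.2
          rw [ConjClasses.mem_carrier_iff_mk_eq, ConjClasses.mk_eq_mk_iff_isConj] at this
          rw [hy]
          exact this.symm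
        obtain ⟨i, j⟩ := p
        obtain ⟨i', l⟩ := p'
        obtain rfl : i = i' := S.disj i i' y.1 ⟨_, (ha i j).1, (ha i j).2, e1⟩
          ⟨_, (ha i' l).1, (ha i' l).2, e2⟩
        rw [hinj i j l (e1.trans e2.symm)]
      subst hp
      obtain rfl : y = y' := Subtype.ext hy
      obtain rfl : q = q' := Subtype.ext h
      rfl
  haveI : Fintype T := Fintype.ofFinite _
  rw [Nat.card_sum, Nat.card_prod, Nat.card_sigma (β := fun p : T =>
    Σ y : (ConjClasses.mk (a p.1 p.2)).carrier, fib y.1), ← sq] at hmain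
  refine le_trans (Nat.add_le_add_left ?_ _) hmain
  refine le_trans (le_of_eq ?_) (Finset.sum_le_sum fun p _ => hfib p)
  rw [Finset.sum_const, Finset.card_univ, ← Nat.card_eq_fintype_card, smul_eq_mul, Nat.card_sigma]
  simp

end CfsgLib.InvChar.SelfCent
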