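import Cfsg.Agent.Lib.InvChar.SelfCent.Fam
import Cfsg.Agent.Lib.InvChar.BSWChars
import Cfsg.Agent.Lib.Char.Column
import Cfsg.Agent.Lib.Char.FS

/-!
# Counting with involutions
-/

set_option autoImplicit false
set_option linter.unusedSectionVars false

namespace CfsgLib.InvChar.SelfCent

open CfsgLib.Char CfsgLib.Invol
open scoped ComplexConjugate

universe u

variable {G : Type u} [Group G] [Fintype G]

/-- The value of a character at an involution. -/
noncomputable def zv {z : G} (hz : orderOf z = 2) (χ : Cfsg.IrrCharacter G) : ℤ :=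
  (CfsgLib.InvChar.BSW.int_value_invol χ hz).choose

theorem zv_cast {z : G} (hz : orderOf z = 2) (χ : Cfsg.IrrCharacter G) :
    ((zv hz χ : ℤ) : ℂ) = (χ : G → ℂ) z :=
  (CfsgLib.InvChar.BSW.int_value_invol χ hz).choose_spec.symm

theorem isConj_of_inverted {A : Subgroup G} (hA : IsSC A) (hn1 : 1 < Nat.card ↥A)
    (he : 2 ∣ A.relIndex (Subgroup.normalizer (A : Set G))) {z u : G} (hu : orderOf u = 2)
    (hN : u ∈ Subgroup.normalizer (A : Set G)) (h : IsConj z u) {v : G} (hv : orderOf v = 2)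
    (hvN : v ∈ Subgroup.normalizer (A : Set G)) : IsConj z v :=
  h.trans (hA.invol_conj hn1 he hu hN hv hvN)

theorem fiber_card (z u : G) (h : IsConj z u) :
    Nat.card {g : G // g * z * g⁻¹ = u} =
      Nat.card ↥(Subgroup.centralizer ({z} : Set G)) := by
  obtain ⟨c, hc⟩ := isConj_iff.1 h
  refine Nat.card_congr
    { toFun := fun g => ⟨c⁻¹ * g.1, Subgroup.mem_centralizer_singleton_iff.2 ?_⟩
      invFun := fun x => ⟨c * x, ?_⟩
      left_inv := fun g => Subtype.ext (by simp)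
      right_inv := fun x => Subtype.ext (by simp) }
  · have h1 : g.1 * z * g.1⁻¹ = c * z * c⁻¹ := g.2.trans hc.symm
    calc c⁻¹ * g.1 * z = c⁻¹ * (g.1 * z * g.1⁻¹) * g.1 := by group
      _ = c⁻¹ * (c * z * c⁻¹) * g.1 := by rw [h1]
      _ = z * (c⁻¹ * g.1) := by group
  · have hx := Subgroup.mem_centralizer_singleton_iff.1 x.2
    rw [mul_inv_rev, ← mul_assoc, mul_assoc c, hx, ← hc]
    group

/-- Pairs of conjugates of `z`, `w` with given product. -/
noncomputable def pairFn (z w : G) (y : G) : ℂ :=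
  (Nat.card {p : G × G // p.1 * z * p.1⁻¹ * (p.2 * w * p.2⁻¹) = y} : ℂ)

theorem pairFn_isClassFunction (z w : G) : Cfsg.IsClassFunction G (pairFn z w) := by
  intro y k
  unfold pairFn
  congr 1
  refine Nat.card_congr
    (Equiv.subtypeEquiv ((Equiv.mulLeft k⁻¹).prodCongr (Equiv.mulLeft k⁻¹)) fun p => ?_)
  simp only [Equiv.prodCongr_apply, Prod.map, Equiv.coe_mulLeft]
  constructor
  · intro h
    calc _ = k⁻¹ * (p.1 * z * p.1⁻¹ * (p.2 * w * p.2⁻¹)) * k := by group
      _ = k⁻¹ * (k * y * k⁻¹) * k := by rw [h]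
      _ = y := by group
  · intro h
    rw [← h]
    group

theorem pairFn_inner {z w : G} (hz : orderOf z = 2) (hw : orderOf w = 2)
    (χ : Cfsg.IrrCharacter G) :
    conj (Cfsg.classInner (pairFn z w) (χ : G → ℂ)) =
      (Nat.card G : ℂ) * (zv hz χ : ℂ) * (zv hw χ : ℂ) / (dg χ : ℂ) := by
  classical
  rw [dg_cast, zv_cast, zv_cast, classInner_def, map_mul, map_inv₀, Complex.conj_natCast, map_sum]
  have h1 : ∀ y, conj (pairFn z w y * conj ((χ : G → ℂ) y)) =
      ∑ p ∈ (Finset.univ : Finset (G × G)).filter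
        (fun p => p.1 * z * p.1⁻¹ * (p.2 * w * p.2⁻¹) = y),
        (χ : G → ℂ) (p.1 * z * p.1⁻¹ * (p.2 * w * p.2⁻¹)) := by
    intro y
    rw [map_mul, Complex.conj_conj, pairFn, Complex.conj_natCast,
      Finset.sum_congr rfl fun p hp => by rw [(Finset.mem_filter.1 hp).2], Finset.sum_const,
      nsmul_eq_mul, Nat.card_eq_fintype_card, Fintype.card_subtype]
  rw [Finset.sum_congr rfl fun y _ => h1 y,
    Finset.sum_fiberwise (Finset.univ : Finset (G × G))
      (fun p => p.1 * z * p.1⁻¹ * (p.2 * w * p.2⁻¹))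
      (fun p => (χ : G → ℂ) (p.1 * z * p.1⁻¹ * (p.2 * w * p.2⁻¹))), Fintype.sum_prod_type]
  have h2 : ∀ g : G, ∑ h : G, (χ : G → ℂ) (g * z * g⁻¹ * (h * w * h⁻¹)) =
      (Nat.card G : ℂ) * (χ : G → ℂ) z * (χ : G → ℂ) w / (χ : G → ℂ) 1 := by
    intro g
    have hcl := irr_isClassFunction χ.2
    rw [CfsgLib.BlockB.sum_irr_mul_conj, hcl z g]
  rw [Finset.sum_congr rfl fun g _ => h2 g, Finset.sum_const, Finset.card_univ, nsmul_eq_mul,
    ← Nat.card_eq_fintype_card, ← mul_assoc, inv_mul_cancel₀ natCard_ne_zero, one_mul]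

open scoped Classical in
theorem pairFn_apply {A : Subgroup G} (hA : IsSC A) (hn1 : 1 < Nat.card ↥A)
    (he : 2 ∣ A.relIndex (Subgroup.normalizer (A : Set G))) {z w u : G} (hz : orderOf z = 2)
    (hw : orderOf w = 2) (hu : orderOf u = 2) (hN : u ∈ Subgroup.normalizer (A : Set G))
    {a : G} (ha : a ∈ A) (ha1 : a ≠ 1) :
    pairFn z w a = if IsConj z u ∧ IsConj w u then
      (Nat.card ↥(Subgroup.centralizer ({z} : Set G)) : ℂ) *
        Nat.card ↥(Subgroup.centralizer ({w} : Set G)) * Nat.card ↥A else 0 := by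
  have hmem : ∀ p : G × G, p.1 * z * p.1⁻¹ * (p.2 * w * p.2⁻¹) = a →
      orderOf (p.1 * z * p.1⁻¹) = 2 ∧ p.1 * z * p.1⁻¹ ∈ Subgroup.normalizer (A : Set G) ∧
      orderOf (p.2 * w * p.2⁻¹) = 2 ∧ p.2 * w * p.2⁻¹ ∈ Subgroup.normalizer (A : Set G) := by
    intro p hp
    have h1 : orderOf (p.1 * z * p.1⁻¹) = 2 := by rw [orderOf_conj_eq, hz]
    have h2 : orderOf (p.2 * w * p.2⁻¹) = 2 := by rw [orderOf_conj_eq, hw]
    have e : p.2 * w * p.2⁻¹ = p.1 * z * p.1⁻¹ * a := by
      rw [← hp, ← mul_assoc, invol_mul_self h1, one_mul]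
    have h3 := (hA.pair_iff hn1 he ha ha1 h1).1 (e ▸ h2)
    exact ⟨h1, h3, h2, by rw [e]; exact mul_mem h3 (Subgroup.le_normalizer ha)⟩
  split_ifs with hc
  · let S := {v : G // orderOf v = 2 ∧ v ∈ Subgroup.normalizer (A : Set G)}
    have e : {p : G × G // p.1 * z * p.1⁻¹ * (p.2 * w * p.2⁻¹) = a} ≃
        Σ v : S, {g : G // g * z * g⁻¹ = v.1} × {g : G // g * w * g⁻¹ = v.1 * a} :=
      { toFun := fun p => ⟨⟨p.1.1 * z * p.1.1⁻¹, (hmem p.1 p.2).1, (hmem p.1 p.2).2.1⟩,
          ⟨p.1.1, rfl⟩, ⟨p.1.2, by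
            have h := p.2
            calc p.1.2 * w * p.1.2⁻¹
                = (p.1.1 * z * p.1.1⁻¹)⁻¹ *
                  (p.1.1 * z * p.1.1⁻¹ * (p.1.2 * w * p.1.2⁻¹)) := by group
              _ = p.1.1 * z * p.1.1⁻¹ * a := by rw [h, invol_inv (hmem p.1 p.2).1]⟩⟩
        invFun := fun q => ⟨(q.2.1.1, q.2.2.1), by
          show q.2.1.1 * z * q.2.1.1⁻¹ * (q.2.2.1 * w * q.2.2.1⁻¹) = a
          rw [q.2.1.2, q.2.2.2, ← mul_assoc, invol_mul_self q.1.2.1, one_mul]⟩
        left_inv := fun p => rfl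
        right_inv := fun ⟨⟨v, hv⟩, ⟨g, hg⟩, ⟨h, hh⟩⟩ => by
          dsimp only at hg hh
          subst hg
          rfl }
    haveI : Fintype S := Fintype.ofFinite _
    rw [pairFn, Nat.card_congr e, Nat.card_sigma, Finset.sum_congr rfl fun v _ => by
      rw [Nat.card_prod, fiber_card z v.1 (hc.1.trans (hA.invol_conj hn1 he hu hN v.2.1 v.2.2)),
        fiber_card w (v.1 * a) (hc.2.trans (hA.invol_conj hn1 he hu hN
          ((hA.pair_iff hn1 he ha ha1 v.2.1).2 v.2.2)
          (mul_mem v.2.2 (Subgroup.le_normalizer ha))))],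
      Finset.sum_const, Finset.card_univ, ← Nat.card_eq_fintype_card, hA.card_invol hn1 he,
      smul_eq_mul]
    push_cast
    ring
  · rw [pairFn, Nat.cast_eq_zero, Nat.card_eq_zero]
    left
    refine ⟨fun p => hc ⟨?_, ?_⟩⟩
    · exact (isConj_iff.2 ⟨p.1.1, rfl⟩).trans
        (hA.invol_conj hn1 he (hmem _ p.2).1 (hmem _ p.2).2.1 hu hN)
    · exact (isConj_iff.2 ⟨p.1.2, rfl⟩).trans
        (hA.invol_conj hn1 he (hmem _ p.2).2.2.1 (hmem _ p.2).2.2.2 hu hN)

variable [Fintype (Cfsg.IrrCharacter G)]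

open scoped Classical in
/-- The class multiplication identity for a family. -/
theorem Fam.pairs {A : Subgroup G} {e m : ℕ} (F : Fam A e m) (hA : IsSC A) (hn1 : 1 < Nat.card ↥A)
    (he : 2 ∣ A.relIndex (Subgroup.normalizer (A : Set G))) {z w u : G} (hz : orderOf z = 2)
    (hw : orderOf w = 2) (hu : orderOf u = 2) (hN : u ∈ Subgroup.normalizer (A : Set G)) (i : Fin m) :
    (Nat.card G : ℚ) * ∑ χ, ((F.c χ - if χ = F.μ i then F.ε else 0 : ℤ) : ℚ) *
        ((zv hz χ : ℚ) * (zv hw χ : ℚ) / (dg χ : ℚ)) =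
      if IsConj z u ∧ IsConj w u then
        (Nat.card ↥(Subgroup.centralizer ({z} : Set G)) : ℚ) *
          Nat.card ↥(Subgroup.centralizer ({w} : Set G)) * Nat.card ↥A else 0 := by
  have h := F.inner_const i (pairFn z w) (pairFn_isClassFunction z w) _
    fun a ha ha1 => pairFn_apply hA hn1 he hz hw hu hN ha ha1
  simp only [pairFn_inner hz hw] at h
  apply Rat.cast_injective (α := ℂ)
  push_cast
  rw [apply_ite (Rat.cast (K := ℂ))]
  push_cast
  rw [Finset.mul_sum]
  refine Eq.trans (Finset.sum_congr rfl fun χ _ => ?_) (h.trans ?_)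
  · split_ifs <;> push_cast <;> ring
  · split_ifs <;> simp

theorem card_invols {z : G} (hone : ∀ w : G, orderOf w = 2 → IsConj z w) (hz : orderOf z = 2) :
    Nat.card {w : G // orderOf w = 2} * Nat.card ↥(Subgroup.centralizer ({z} : Set G)) =
      Nat.card G := by
  rw [← natCard_carrier_mul_centralizer z]
  congr 1
  refine Nat.card_congr (Equiv.subtypeEquivRight fun w => ?_)
  rw [ConjClasses.mem_carrier_iff_mk_eq, ConjClasses.mk_eq_mk_iff_isConj]
  exact ⟨fun h => (hone w h).symm, fun h => by rw [orderOf_eq_of_isConj h.symm, hz]⟩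

/-- Frobenius–Schur. -/
theorem fs_bound : (Nat.card {w : G // orderOf w = 2} : ℤ) + 1 ≤
    ∑ χ : Cfsg.IrrCharacter G, dg χ := by
  classical
  have hk : ∀ χ : Cfsg.IrrCharacter G, ∃ k : ℤ, k ≤ 1 ∧
      (Nat.card G : ℂ)⁻¹ * ∑ s : G, (χ : G → ℂ) (s * s) = k := by
    rintro ⟨χ, n, ρ, hρ, rfl⟩
    rcases (fs_indicator ρ).1 with h | h | h
    · exact ⟨0, by norm_num, by rw [Int.cast_zero]; exact h⟩
    · exact ⟨1, le_rfl, by rw [Int.cast_one]; exact h⟩
    · exact ⟨-1, by norm_num, by push_cast; exact h⟩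
  choose k hk1 hk2 using hk
  have h : ((Nat.card {s : G // s * s = 1} : ℤ)) = ∑ χ : Cfsg.IrrCharacter G, k χ * dg χ := by
    apply Int.cast_injective (α := ℂ)
    push_cast
    rw [involution_count]
    exact Finset.sum_congr rfl fun χ _ => by rw [hk2, dg_cast]
  have hcard : Nat.card {s : G // s * s = 1} = Nat.card {w : G // orderOf w = 2} + 1 := by
    rw [← Finite.card_option]
    refine Nat.card_congr
      { toFun := fun s => if h : s.1 = 1 then none else some ⟨s.1, invol_of_mul_self s.2 h⟩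
        invFun := fun o => o.elim ⟨1, one_mul 1⟩ fun w => ⟨w.1, invol_mul_self w.2⟩
        left_inv := fun s => by
          by_cases h : s.1 = 1
          · simp only [h, dite_true, Option.elim]; exact Subtype.ext h.symm
          · simp [h]
        right_inv := fun o => by
          rcases o with _ | w
          · simp
          · simp [invol_ne_one w.2] }
  rw [hcard] at h
  push_cast at h
  rw [h]
  exact Finset.sum_le_sum fun χ _ =>
    le_trans (mul_le_mul_of_nonneg_right (hk1 χ) (dg_pos χ).le) (by rw [one_mul])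

theorem sum_dg_sq : ∑ χ : Cfsg.IrrCharacter G, dg χ ^ 2 = (Nat.card G : ℤ) := by
  apply Int.cast_injective (α := ℂ)
  push_cast
  have h := column_orthogonality (G := G) 1 1
  rw [if_pos (IsConj.refl 1), show Subgroup.centralizer ({1} : Set G) = ⊤ by
    ext x; simp [Subgroup.mem_centralizer_singleton_iff], Subgroup.card_top] at h
  rw [← h]
  refine Finset.sum_congr rfl fun χ _ => ?_
  rw [← dg_cast, map_intCast, sq]

theorem sum_zv_sq {z : G} (hz : orderOf z = 2) : ∑ χ : Cfsg.IrrCharacter G, zv hz χ ^ 2 =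
    (Nat.card ↥(Subgroup.centralizer ({z} : Set G)) : ℤ) := by
  apply Int.cast_injective (α := ℂ)
  push_cast
  have h := column_orthogonality (G := G) z z
  rw [if_pos (IsConj.refl z)] at h
  rw [← h]
  refine Finset.sum_congr rfl fun χ _ => ?_
  rw [← zv_cast hz, map_intCast, sq]

/-- An involution central in a Sylow `2`-subgroup. -/
theorem exists_central (h2 : 2 ∣ Nat.card G) : ∃ z : G, orderOf z = 2 ∧
    Nat.card ↥(Subgroup.centralizer ({z} : Set G)) ∣ Nat.card G ∧
    ¬ 2 ∣ Nat.card G / Nat.card ↥(Subgroup.centralizer ({z} : Set G)) := by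
  haveI : Fact (Nat.Prime 2) := ⟨Nat.prime_two⟩
  obtain ⟨S⟩ : Nonempty (Sylow 2 G) := inferInstance
  haveI : Nontrivial ↥(S : Subgroup G) := by
    rw [← Finite.one_lt_card_iff_nontrivial]
    have := S.dvd_card_of_dvd_card h2
    exact lt_of_lt_of_le (by norm_num) (Nat.le_of_dvd Nat.card_pos this)
  have hc : Nontrivial ↥(Subgroup.center ↥(S : Subgroup G)) := S.2.center_nontrivial
  obtain ⟨k, hk⟩ := (S.2.to_subgroup (Subgroup.center ↥(S : Subgroup G))).exists_card_eq
  have hk0 : k ≠ 0 := by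
    intro h
    rw [h, pow_zero] at hk
    exact absurd hk (Finite.one_lt_card_iff_nontrivial.2 hc).ne'
  obtain ⟨c, hc2⟩ := exists_prime_orderOf_dvd_card' (G := ↥(Subgroup.center ↥(S : Subgroup G))) 2
    (hk ▸ dvd_pow_self 2 hk0)
  refine ⟨((c : ↥(S : Subgroup G)) : G), by rw [Subgroup.orderOf_coe, Subgroup.orderOf_coe, hc2],
    Subgroup.card_subgroup_dvd_card _, ?_⟩
  intro hd
  have hle : (S : Subgroup G) ≤ Subgroup.centralizer ({((c : ↥(S : Subgroup G)) : G)} : Set G) :=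
    fun x hx => Subgroup.mem_centralizer_singleton_iff.2
      (congrArg Subtype.val ((Subgroup.mem_center_iff.1 c.2) ⟨x, hx⟩))
  have hdvd := Subgroup.index_dvd_of_le hle
  rw [← Subgroup.index_mul_card (Subgroup.centralizer ({((c : ↥(S : Subgroup G)) : G)} : Set G)),
    Nat.mul_div_cancel _ Nat.card_pos] at hd
  exact S.not_dvd_index (dvd_trans hd hdvd)

end CfsgLib.InvChar.SelfCent
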