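import Cfsg.Agent.Lib.InvChar.SelfCent.Local
import Cfsg.Agent.Lib.Char.TI
import Cfsg.Agent.Lib.Char.LinearSum
import Cfsg.Agent.Lib.BlockB.ClassMul

/-!
# Exceptional characters of a strongly self-centralising subgroup
-/

set_option autoImplicit false
set_option linter.unusedSectionVars false

namespace CfsgLib.InvChar.SelfCent

open CfsgLib.Char
open scoped ComplexConjugate

universe u

variable {G : Type u} [Group G] [Fintype G]

/-- `y` is conjugate to a non-identity element of `A`. -/
def Meets (A : Subgroup G) (y : G) : Prop := ∃ a ∈ A, a ≠ 1 ∧ IsConj a y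

/-- The degree of an irreducible character, as an integer. -/
noncomputable def dg (χ : Cfsg.IrrCharacter G) : ℤ := (Cfsg.charDegree (χ : G → ℂ) : ℤ)

theorem dg_cast (χ : Cfsg.IrrCharacter G) : ((dg χ : ℤ) : ℂ) = (χ : G → ℂ) 1 := by
  rw [dg, Int.cast_natCast]
  exact CfsgLib.BlockB.irr_degree_cast χ

theorem dg_pos (χ : Cfsg.IrrCharacter G) : 0 < dg χ := by
  unfold dg
  exact_mod_cast CfsgLib.BlockB.irr_degree_pos χ

/-- The trivial character. -/
noncomputable def one' (G : Type u) [Group G] : Cfsg.IrrCharacter G :=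
  ⟨fun _ => 1, isIrrCharacter_one⟩

/-- The coefficient vectors of the virtual characters attached to `A`. -/
structure Fam [Fintype (Cfsg.IrrCharacter G)] (A : Subgroup G) (e m : ℕ) where
  c : Cfsg.IrrCharacter G → ℤ
  ε : ℤ
  hε : ε = 1 ∨ ε = -1
  μ : Fin m → Cfsg.IrrCharacter G
  μ_inj : Function.Injective μ
  c0 : ℤ
  c_μ : ∀ i, c (μ i) = c0
  c_one : c (one' G) = 1
  μ_ne : ∀ i, μ i ≠ one' G
  norm : ∀ i, ∑ χ, (c χ - if χ = μ i then ε else 0) ^ 2 = (e : ℤ) + 1
  vanish : ∀ i y, ¬ Meets A y →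
    ∑ χ, ((c χ - if χ = μ i then ε else 0 : ℤ) : ℂ) * (χ : G → ℂ) y = 0
  inner_const : ∀ i, ∀ f : G → ℂ, Cfsg.IsClassFunction G f → ∀ κ : ℂ,
    (∀ a ∈ A, a ≠ 1 → f a = κ) →
    ∑ χ, ((c χ - if χ = μ i then ε else 0 : ℤ) : ℂ) * conj (Cfsg.classInner f (χ : G → ℂ)) = conj κ
  cong : ∀ χ, (Nat.card ↥A : ℤ) ∣
    dg χ + (e : ℤ) * ∑ i, (c χ - if χ = μ i then ε else 0)

namespace IsSC

variable {A : Subgroup G} (hA : IsSC A)
include hA

theorem finite_lin : Finite (↥A →* ℂˣ) :=
  Nat.finite_of_card_ne_zero (by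
    rw [natCard_linear]; exact Subgroup.index_ne_zero_of_finite)

theorem card_lin : Nat.card (↥A →* ℂˣ) = Nat.card ↥A := by
  rw [natCard_linear, show commutator ↥A = ⊥ by
    rw [commutator_def, Subgroup.commutator_eq_bot_iff_le_centralizer]
    exact fun a _ => Subgroup.mem_centralizer_iff.2 fun b _ => Subtype.ext (hA.commute b.2 a.2),
    Subgroup.index_bot]

theorem sum_lin [Fintype ↥A] (l : ↥A →* ℂˣ) (hl : l ≠ 1) : ∑ x : ↥A, (l x : ℂ) = 0 := by
  obtain ⟨a, ha⟩ : ∃ a, l a ≠ 1 := by
    by_contra h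
    push Not at h
    exact hl (MonoidHom.ext h)
  have h2 : ∑ x : ↥A, (l x : ℂ) = (l a : ℂ) * ∑ x : ↥A, (l x : ℂ) := by
    rw [Finset.mul_sum]
    refine (Fintype.sum_equiv (Equiv.mulLeft a) _ _ fun x => ?_).symm
    simp
  by_contra h0
  exact ha (Units.ext (mul_right_cancel₀ h0 (by rw [← h2, Units.val_one, one_mul])))

/-- Conjugation of linear characters. -/
noncomputable def twist (x : ↥(Subgroup.normalizer (A : Set G))) (l : ↥A →* ℂˣ) : ↥A →* ℂˣ :=
  l.comp
    { toFun := fun a => ⟨(x : G)⁻¹ * a * x, hA.conj_mem' x.2 a.2⟩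
      map_one' := Subtype.ext (by simp)
      map_mul' := fun a b => Subtype.ext (by simp; group) }

theorem twist_apply (x : ↥(Subgroup.normalizer (A : Set G))) (l : ↥A →* ℂˣ) (a : ↥A) :
    hA.twist x l a = l ⟨(x : G)⁻¹ * a * x, hA.conj_mem' x.2 a.2⟩ := rfl

/-- The action on the non-trivial linear characters. -/
@[reducible] noncomputable def dualAction :
    MulAction ↥(Subgroup.normalizer (A : Set G)) {l : ↥A →* ℂˣ // l ≠ 1} where
  smul x l := ⟨hA.twist x l.1, fun e => l.2 (MonoidHom.ext fun a => by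
    have h := DFunLike.congr_fun e
      (⟨(x : G) * a * (x : G)⁻¹, hA.conj_mem x.2 a.2⟩ : ↥A)
    rw [twist_apply] at h
    refine Eq.trans (congrArg l.1 (Subtype.ext ?_)) h
    simp only
    group)⟩
  one_smul l := by
    apply Subtype.ext
    refine MonoidHom.ext fun a => ?_
    show hA.twist 1 l.1 a = l.1 a
    rw [twist_apply]
    exact congrArg l.1 (Subtype.ext (by simp))
  mul_smul x y l := by
    apply Subtype.ext
    refine MonoidHom.ext fun a => ?_
    show hA.twist (x * y) l.1 a = hA.twist x (hA.twist y l.1) a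
    simp only [twist_apply]
    refine congrArg l.1 (Subtype.ext ?_)
    simp only [Subgroup.coe_mul]
    group

/-- A non-trivial linear character is fixed only by `A`. -/
theorem twist_eq_self {x : ↥(Subgroup.normalizer (A : Set G))} {l : ↥A →* ℂˣ} (hl : l ≠ 1)
    (h : hA.twist x l = l) : (x : G) ∈ A := by
  by_contra hx
  let f : ↥A → ↥A := fun a => ⟨(x : G)⁻¹ * a * x, hA.conj_mem' x.2 a.2⟩ * a⁻¹
  have hinj : Function.Injective f := by
    intro a b hab
    have h' : (x : G)⁻¹ * a * x * (a : G)⁻¹ = (x : G)⁻¹ * b * x * (b : G)⁻¹ :=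
      congrArg Subtype.val hab
    by_contra hne
    refine hx (hA.mem_of_commute (mul_mem (inv_mem b.2) a.2)
      (fun e => hne (Subtype.ext (inv_mul_eq_one.1 e).symm)) ?_)
    have hc := hA.commute a.2 (inv_mem b.2)
    have h2 : (x : G)⁻¹ * ((b : G)⁻¹ * a) * x = (b : G)⁻¹ * a := by
      calc (x : G)⁻¹ * ((b : G)⁻¹ * a) * x
          = ((x : G)⁻¹ * b * x)⁻¹ * ((x : G)⁻¹ * a * x) := by group
        _ = ((x : G)⁻¹ * b * x)⁻¹ * ((x : G)⁻¹ * a * x * (a : G)⁻¹) * a := by group
        _ = (b : G)⁻¹ * a := by rw [h']; group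
    calc (x : G) * ((b : G)⁻¹ * a) = x * ((x : G)⁻¹ * ((b : G)⁻¹ * a) * x) := by rw [h2]
      _ = (b : G)⁻¹ * a * x := by group
  obtain ⟨hf⟩ : Nonempty (Function.Surjective f) := ⟨Finite.injective_iff_surjective.1 hinj⟩
  refine hl (MonoidHom.ext fun b => ?_)
  obtain ⟨a, rfl⟩ := hf b
  have h1 : l ⟨(x : G)⁻¹ * a * x, hA.conj_mem' x.2 a.2⟩ = l a := by
    rw [← twist_apply hA x l a, h]
  rw [MonoidHom.one_apply, map_mul, map_inv, h1, mul_inv_cancel]

/-- The virtual character attached to a linear character. -/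
noncomputable def psi (A : Subgroup G) (l : ↥A →* ℂˣ) : G → ℂ :=
  Cfsg.indFun A fun a => 1 - (l a : ℂ)

theorem psi_isGeneralized (l : ↥A →* ℂˣ) : Cfsg.IsGeneralizedCharacter G (psi A l) :=
  isGeneralized_indFun A (isGeneralized_sub
    (θ := fun _ => (1 : ℂ)) (η := fun a => (l a : ℂ)) (isGeneralized_of_isCharacter isCharacter_one)
    (isGeneralized_of_isCharacter (irr_isCharacter (isIrrCharacter_linear l))))

theorem psi_one (l : ↥A →* ℂˣ) : psi A l 1 = 0 := by
  rw [psi, indFun_apply_one]; simp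

theorem psi_eq_zero (l : ↥A →* ℂˣ) {y : G} (hy : ¬ Meets A y) : psi A l y = 0 := by
  rw [psi, indFun_def, Finset.sum_eq_zero, mul_zero]
  intro g _
  by_cases hg : g⁻¹ * y * g ∈ A
  · rw [extendByZero_of_mem _ hg]
    by_cases h1 : g⁻¹ * y * g = 1
    · have : (⟨g⁻¹ * y * g, hg⟩ : ↥A) = 1 := Subtype.ext h1
      rw [this]; simp
    · exact absurd ⟨_, hg, h1, isConj_iff.2 ⟨g, by group⟩⟩ hy
  · exact extendByZero_of_not_mem _ hg

theorem psi_apply [Fintype ↥(Subgroup.normalizer (A : Set G))] (l : ↥A →* ℂˣ) {a : ↥A}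
    (ha : a ≠ 1) : psi A l a = (Nat.card ↥A : ℂ)⁻¹ *
      ∑ x : ↥(Subgroup.normalizer (A : Set G)), (1 - (hA.twist x l a : ℂ)) := by
  classical
  rw [psi, indFun_def]
  congr 1
  rw [← Finset.sum_subset (Finset.subset_univ ((Finset.univ.filter fun x : G =>
      x ∈ Subgroup.normalizer (A : Set G)))) (fun x _ hx => ?_),
    Finset.sum_subtype (p := fun x : G => x ∈ Subgroup.normalizer (A : Set G)) _ (by simp)]
  · refine Finset.sum_congr rfl fun x _ => ?_
    rw [extendByZero_of_mem _ (hA.conj_mem' x.2 a.2), twist_apply]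
  · refine extendByZero_of_not_mem _ fun h => hx (Finset.mem_filter.2 ⟨Finset.mem_univ _, ?_⟩)
    have := hA.mem_normalizer a.2 (fun e => ha (Subtype.ext e)) (x := x⁻¹) (by simpa using h)
    simpa using inv_mem this

theorem inner_psi [Fintype ↥A] (l : ↥A →* ℂˣ) {f : G → ℂ} (hf : Cfsg.IsClassFunction G f) :
    Cfsg.classInner (psi A l) f =
      (Nat.card ↥A : ℂ)⁻¹ * ∑ a : ↥A, (1 - (l a : ℂ)) * conj (f a) := by
  rw [psi, frobenius_reciprocity A _ f hf, classInner_def]

open scoped Classical in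
theorem gram (l m : ↥A →* ℂˣ) (hl : l ≠ 1) (hm : m ≠ 1) :
    Cfsg.classInner (psi A l) (psi A m) =
      (A.relIndex (Subgroup.normalizer (A : Set G)) : ℂ) +
        if ∃ x, hA.twist x m = l then 1 else 0 := by
  haveI : Fintype ↥A := Fintype.ofFinite _
  haveI : Fintype ↥(Subgroup.normalizer (A : Set G)) := Fintype.ofFinite _
  rw [hA.inner_psi l (isGeneralized_isClassFunction (hA.psi_isGeneralized m))]
  have hterm : ∀ a : ↥A, (1 - (l a : ℂ)) * conj (psi A m a) = (Nat.card ↥A : ℂ)⁻¹ *
      ∑ x : ↥(Subgroup.normalizer (A : Set G)), (1 - (l a : ℂ)) * (1 - ((hA.twist x m)⁻¹ a : ℂ)) := by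
    intro a
    by_cases ha : a = 1
    · subst ha; simp
    · rw [hA.psi_apply m ha, map_mul, map_inv₀, Complex.conj_natCast, map_sum, ← mul_assoc,
        mul_comm (1 - (l a : ℂ)), mul_assoc, Finset.mul_sum]
      congr 1
      exact Finset.sum_congr rfl fun x _ => by rw [map_sub, map_one, conj_linear_apply]
  rw [Finset.sum_congr rfl fun a _ => hterm a, ← Finset.mul_sum, Finset.sum_comm]
  have htw : ∀ x, hA.twist x m ≠ 1 := fun x e => by
    have := ((hA.dualAction).smul x ⟨m, hm⟩).2
    exact this e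
  have hin : ∀ x : ↥(Subgroup.normalizer (A : Set G)),
      ∑ a : ↥A, (1 - (l a : ℂ)) * (1 - ((hA.twist x m)⁻¹ a : ℂ)) =
        (Nat.card ↥A : ℂ) * (1 + if hA.twist x m = l then 1 else 0) := by
    intro x
    have e1 : ∀ a : ↥A, (1 - (l a : ℂ)) * (1 - ((hA.twist x m)⁻¹ a : ℂ)) =
        1 - (l a : ℂ) - ((hA.twist x m)⁻¹ a : ℂ) + ((l * (hA.twist x m)⁻¹) a : ℂ) := fun a => by
      simp only [MonoidHom.mul_apply, Units.val_mul]; ring
    have hi : (hA.twist x m)⁻¹ ≠ 1 := fun e => htw x (MonoidHom.ext fun a => by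
      simpa using DFunLike.congr_fun e a)
    rw [Finset.sum_congr rfl fun a _ => e1 a, Finset.sum_add_distrib, Finset.sum_sub_distrib,
      Finset.sum_sub_distrib, hA.sum_lin l hl, hA.sum_lin _ hi, Finset.sum_const, Finset.card_univ,
      nsmul_eq_mul, mul_one, ← Nat.card_eq_fintype_card]
    split_ifs with h
    · have : l * (hA.twist x m)⁻¹ = 1 := MonoidHom.ext fun a => by simp [h]
      rw [this]
      simp only [MonoidHom.one_apply, Units.val_one, Finset.sum_const, Finset.card_univ,
        nsmul_eq_mul, ← Nat.card_eq_fintype_card]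
      ring
    · rw [hA.sum_lin _ fun e => h (MonoidHom.ext fun a => by
        have := DFunLike.congr_fun e a
        simp only [MonoidHom.mul_apply, MonoidHom.inv_apply, MonoidHom.one_apply, mul_inv_eq_one] at this
        exact this.symm)]
      ring
  rw [Finset.sum_congr rfl fun x _ => hin x, ← Finset.mul_sum, Finset.sum_add_distrib,
    Finset.sum_const, Finset.card_univ, nsmul_eq_mul, mul_one, Finset.sum_boole]
  have hn : (Nat.card ↥A : ℂ) ≠ 0 := Nat.cast_ne_zero.2 Nat.card_pos.ne'
  rw [← mul_assoc, ← mul_assoc, mul_assoc _ (Nat.card ↥A : ℂ)⁻¹, inv_mul_cancel₀ hn, mul_one,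
    ← Nat.card_eq_fintype_card, hA.card_normalizer, mul_add, Nat.cast_mul]
  congr 1
  · rw [mul_comm (A.relIndex _ : ℂ), ← mul_assoc, inv_mul_cancel₀ hn, one_mul]
  · split_ifs with h
    · obtain ⟨x0, hx0⟩ := h
      rw [show (Finset.univ.filter fun x => hA.twist x m = l).card = Nat.card ↥A from ?_,
        inv_mul_cancel₀ hn]
      rw [← Nat.card_eq_finsetCard]
      refine Nat.card_congr
        { toFun := fun x => ⟨(x0 : G)⁻¹ * (x.1 : G),
            hA.twist_eq_self hm (x := x0⁻¹ * x.1) ?_⟩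
          invFun := fun a => ⟨x0 * ⟨a, Subgroup.le_normalizer a.2⟩, ?_⟩
          left_inv := fun x => by
            apply Subtype.ext; apply Subtype.ext
            show (x0 : G) * ((x0 : G)⁻¹ * (x.1 : G)) = x.1
            group
          right_inv := fun a => by
            apply Subtype.ext
            show (x0 : G)⁻¹ * ((x0 : G) * a) = a
            group }
      · have e1 : hA.twist x.1 m = l := (Finset.mem_filter.1 x.2).2
        refine MonoidHom.ext fun a => ?_
        have h2 := DFunLike.congr_fun (e1.trans hx0.symm)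
          (⟨(x0 : G) * a * (x0 : G)⁻¹, hA.conj_mem x0.2 a.2⟩ : ↥A)
        simp only [twist_apply] at h2 ⊢
        refine Eq.trans ?_ (h2.trans (congrArg m (Subtype.ext ?_)))
        · refine congrArg m (Subtype.ext ?_)
          simp only [Subgroup.coe_mul, Subgroup.coe_inv]
          group
        · simp only
          group
      · refine Finset.mem_filter.2 ⟨Finset.mem_univ _, ?_⟩
        rw [← hx0]
        refine MonoidHom.ext fun b => ?_
        simp only [twist_apply]
        refine congrArg m (Subtype.ext ?_)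
        simp only [Subgroup.coe_mul]
        have hc := hA.commute (hA.conj_mem' x0.2 b.2) a.2
        calc ((x0 : G) * (a : G))⁻¹ * b * (x0 * a) = (a : G)⁻¹ * ((x0 : G)⁻¹ * b * x0 * a) := by
              group
          _ = (a : G)⁻¹ * (a * ((x0 : G)⁻¹ * b * x0)) := by rw [hc]
          _ = _ := by group
    · rw [show (Finset.univ.filter fun x => hA.twist x m = l) = ∅ from
        Finset.filter_eq_empty_iff.2 fun x _ e => h ⟨x, e⟩, Finset.card_empty, Nat.cast_zero,
        mul_zero]

/-- Representatives of the orbits on non-trivial linear characters. -/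
theorem exists_dual_reps : ∃ m : ℕ,
    Nat.card ↥A - 1 = m * A.relIndex (Subgroup.normalizer (A : Set G)) ∧
    ∃ L : Fin m → ↥A →* ℂˣ, (∀ i, L i ≠ 1) ∧ (∀ i j x, hA.twist x (L j) = L i → i = j) ∧
      ∀ l, l ≠ 1 → ∃ i x, hA.twist x (L i) = l := by
  classical
  haveI := hA.finite_lin
  haveI := Fintype.ofFinite (↥A →* ℂˣ)
  letI := hA.dualAction
  let X := {l : ↥A →* ℂˣ // l ≠ 1}
  let Q := MulAction.orbitRel.Quotient ↥(Subgroup.normalizer (A : Set G)) X
  have hcX : Nat.card X = Nat.card ↥A - 1 := by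
    rw [← hA.card_lin]; simp [X, Nat.card_eq_fintype_card, Fintype.card_subtype_compl]
  have hst : ∀ l : X, MulAction.stabilizer ↥(Subgroup.normalizer (A : Set G)) l =
      A.subgroupOf (Subgroup.normalizer (A : Set G)) := by
    intro l
    ext g
    rw [MulAction.mem_stabilizer_iff, Subgroup.mem_subgroupOf]
    refine ⟨fun e => hA.twist_eq_self l.2 (congrArg Subtype.val e), fun hg => Subtype.ext
      (MonoidHom.ext fun a => congrArg l.1 (Subtype.ext ?_))⟩
    show (g : G)⁻¹ * a * g = a
    rw [mul_assoc, hA.commute a.2 hg, inv_mul_cancel_left]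
  refine ⟨Nat.card Q, by rw [← hcX, hA.orbit_count hst], ?_⟩
  let f : Fin (Nat.card Q) ≃ Q := (Finite.equivFin Q).symm
  refine ⟨fun i => (f i).out.1, fun i => (f i).out.2, fun i j x h => f.injective ?_, fun l hl => ?_⟩
  · rw [← Quotient.out_eq (f i), ← Quotient.out_eq (f j)]
    exact Quotient.sound (MulAction.mem_orbit_iff.2 ⟨x, Subtype.ext h⟩)
  · obtain ⟨x, hx⟩ := Quotient.exact (Quotient.out_eq (⟦⟨l, hl⟩⟧ : Q))
    refine ⟨f.symm ⟦⟨l, hl⟩⟧, x⁻¹, ?_⟩
    simp only [f.apply_symm_apply]
    exact congrArg Subtype.val (inv_smul_eq_iff.2 hx.symm)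

theorem psi_twist (x : ↥(Subgroup.normalizer (A : Set G))) (l : ↥A →* ℂˣ) :
    psi A (hA.twist x l) = psi A l := by
  classical
  funext y
  simp only [psi, indFun_def]
  congr 1
  refine Fintype.sum_equiv (Equiv.mulRight (x : G)) _ _ fun g => ?_
  simp only [Equiv.coe_mulRight]
  by_cases hg : g⁻¹ * y * g ∈ A
  · have hg' : (g * (x : G))⁻¹ * y * (g * x) ∈ A := by
      have := hA.conj_mem' x.2 hg
      simpa [mul_assoc] using this
    rw [extendByZero_of_mem _ hg, extendByZero_of_mem _ hg', twist_apply]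
    congr 2
    exact congrArg l (Subtype.ext (by group))
  · rw [extendByZero_of_not_mem _ hg, extendByZero_of_not_mem _ fun h => hg ?_]
    have := hA.conj_mem x.2 h
    convert this using 1
    group

variable [Fintype (Cfsg.IrrCharacter G)]

theorem exists_fam (hm2 : 2 ≤ fam A) :
    Nonempty (Fam A (A.relIndex (Subgroup.normalizer (A : Set G))) (fam A)) := by
  classical
  haveI : Fintype ↥A := Fintype.ofFinite _
  haveI := hA.finite_lin
  haveI := Fintype.ofFinite (↥A →* ℂˣ)
  obtain ⟨m, hm, L, hL1, hLinj, hLall⟩ := hA.exists_dual_reps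
  set e := A.relIndex (Subgroup.normalizer (A : Set G)) with he
  have hfam : fam A = m := by
    have hm2' := hm2
    unfold fam at hm2' ⊢
    rw [hm, ← he] at hm2' ⊢
    rcases Nat.eq_zero_or_pos e with h0 | h0
    · rw [h0] at hm2'; simp at hm2'
    · exact Nat.mul_div_cancel _ h0
  rw [hfam] at hm2 ⊢
  let i₀ : Fin m := ⟨0, by omega⟩
  have hcl : ∀ l, Cfsg.IsClassFunction G (psi A l) := fun l =>
    isGeneralized_isClassFunction (hA.psi_isGeneralized l)
  have hgram : ∀ i j, Cfsg.classInner (psi A (L i)) (psi A (L j)) =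
      (e : ℂ) + if i = j then 1 else 0 := by
    intro i j
    rw [hA.gram _ _ (hL1 i) (hL1 j)]
    congr 1
    by_cases hij : i = j
    · subst hij
      rw [if_pos ⟨1, MonoidHom.ext fun a => congrArg (L i) (Subtype.ext (by simp))⟩, if_pos rfl]
    · rw [if_neg fun ⟨x, hx⟩ => hij (hLinj i j x hx), if_neg hij]
  obtain ⟨ε, hε, θ, hθ, hθinj, hτ⟩ := coherent_family m i₀
    (fun i => psi A (L i) - psi A (L i₀)) (by simp)
    (fun i => isGeneralized_sub (hA.psi_isGeneralized _) (hA.psi_isGeneralized _))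
    (fun i => by simp [hA.psi_one]) (fun i j hi hj => by
      simp only [classInner_sub_left, classInner_sub_right, hgram, if_neg hi, if_neg (Ne.symm hj),
        if_pos rfl]
      split_ifs <;> ring)
  obtain ⟨ε', hε', rfl⟩ : ∃ ε' : ℤ, (ε' = 1 ∨ ε' = -1) ∧ ε = -((ε' : ℤ) : ℂ) := by
    rcases hε with rfl | rfl
    · exact ⟨-1, Or.inr rfl, by norm_num⟩
    · exact ⟨1, Or.inl rfl, by norm_num⟩
  choose cl hcint using fun (i : Fin m) (χ : Cfsg.IrrCharacter G) =>
    classInner_isGeneralized_int (hA.psi_isGeneralized (L i))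
      (isGeneralized_of_isCharacter (irr_isCharacter χ.2))
  let μ : Fin m → Cfsg.IrrCharacter G := fun i => ⟨θ i, hθ i⟩
  have hμinj : Function.Injective μ := fun i j h => hθinj (congrArg Subtype.val h)
  let c : Cfsg.IrrCharacter G → ℤ := fun χ => cl i₀ χ + if χ = μ i₀ then ε' else 0
  have hcl' : ∀ i χ, cl i χ = c χ - if χ = μ i then ε' else 0 := by
    intro i χ
    have h := congrArg (fun f => Cfsg.classInner f (χ : G → ℂ)) (hτ i)
    simp only [classInner_sub_left, classInner_smul_left, irr_classInner (hθ _) χ.2, hcint] at h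
    have e1 : ∀ k, ((θ k = (χ : G → ℂ)) ↔ χ = μ k) := fun k =>
      ⟨fun e => Subtype.ext e.symm, fun e => (congrArg Subtype.val e).symm⟩
    simp only [e1] at h
    have h' : cl i χ - cl i₀ χ =
        -ε' * ((if χ = μ i then 1 else 0) - (if χ = μ i₀ then 1 else 0)) := by
      apply Int.cast_injective (α := ℂ)
      push_cast
      rw [h]
    simp only [c]
    split_ifs at h' ⊢ <;> linarith
  have hsum : ∀ i y, psi A (L i) y =
      ∑ χ : Cfsg.IrrCharacter G, ((cl i χ : ℤ) : ℂ) * (χ : G → ℂ) y := fun i y => by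
    rw [classFunction_apply_eq_sum (hcl _) y]
    simp only [hcint]
  have hnorm : ∀ i, ∑ χ, (c χ - if χ = μ i then ε' else 0) ^ 2 = (e : ℤ) + 1 := by
    intro i
    have h := hgram i i
    rw [classInner_eq_sum_mul (hcl _), if_pos rfl] at h
    simp only [hcint, map_intCast] at h
    apply Int.cast_injective (α := ℂ)
    push_cast
    rw [← h]
    refine Finset.sum_congr rfl fun χ _ => ?_
    rw [hcl']
    push_cast
    ring
  have hεε : ε' * ε' = 1 := by rcases hε' with h | h <;> rw [h] <;> norm_num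
  have hexp : ∀ i, ∑ χ, (c χ - if χ = μ i then ε' else 0) ^ 2 =
      (∑ χ, c χ ^ 2) - 2 * ε' * c (μ i) + 1 := by
    intro i
    have e1 : ∀ χ, (c χ - if χ = μ i then ε' else 0) ^ 2 =
        c χ ^ 2 + if χ = μ i then 1 - 2 * ε' * c χ else 0 := by
      intro χ
      split_ifs
      · linear_combination hεε
      · ring
    rw [Finset.sum_congr rfl fun χ _ => e1 χ, Finset.sum_add_distrib, Finset.sum_ite_eq',
      if_pos (Finset.mem_univ _)]
    ring
  have hcconst : ∀ i, c (μ i) = c (μ i₀) := by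
    intro i
    have h := (hexp i).symm.trans ((hnorm i).trans ((hnorm i₀).symm.trans (hexp i₀)))
    rcases hε' with h' | h' <;> rw [h'] at h <;> linarith
  have hinner : ∀ i (f : G → ℂ), Cfsg.IsClassFunction G f → ∀ κ : ℂ,
      (∀ a ∈ A, a ≠ 1 → f a = κ) → Cfsg.classInner (psi A (L i)) f = conj κ := by
    intro i f hf κ hκ
    rw [hA.inner_psi _ hf]
    have e1 : ∀ a : ↥A, (1 - (L i a : ℂ)) * conj (f a) = (1 - (L i a : ℂ)) * conj κ := by
      intro a
      by_cases ha : a = 1
      · subst ha; simp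
      · rw [hκ a a.2 fun h => ha (Subtype.ext h)]
    rw [Finset.sum_congr rfl fun a _ => e1 a, ← Finset.sum_mul, Finset.sum_sub_distrib,
      hA.sum_lin _ (hL1 i), Finset.sum_const, Finset.card_univ, nsmul_eq_mul, mul_one, sub_zero,
      ← Nat.card_eq_fintype_card, ← mul_assoc,
      inv_mul_cancel₀ (Nat.cast_ne_zero.2 Nat.card_pos.ne'), one_mul]
  have hone : ∀ i, cl i (one' G) = 1 := fun i => by
    apply Int.cast_injective (α := ℂ)
    rw [← hcint, hinner i _ (irr_isClassFunction (one' G).2) 1 fun a _ _ => rfl]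
    simp
  have hμne : ∀ i, μ i ≠ one' G := by
    intro i hi
    obtain ⟨j, hj⟩ : ∃ j, j ≠ i := by
      by_cases h : i = i₀
      · exact ⟨⟨1, by omega⟩, fun e => by
          have := congrArg Fin.val (e.trans h)
          simp [i₀] at this⟩
      · exact ⟨i₀, Ne.symm h⟩
    have h1 := hone i
    have h2 := hone j
    rw [hcl', if_pos hi.symm] at h1
    rw [hcl', if_neg fun e => hj (hμinj (e.symm.trans hi.symm))] at h2
    rcases hε' with h | h <;> omega
  refine ⟨⟨c, ε', hε', μ, hμinj, c (μ i₀), hcconst, ?_, hμne, hnorm, fun i y hy => ?_,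
    fun i f hf κ hκ => ?_, fun χ => ?_⟩⟩
  · have := hone i₀
    rw [hcl', if_neg fun e => hμne i₀ e.symm, sub_zero] at this
    exact this
  · simp only [← hcl', ← hsum, hA.psi_eq_zero _ hy]
  · rw [← hinner i f hf κ hκ, classInner_eq_sum_mul (hcl _) f]
    simp only [hcint, hcl']
  · -- the sum over all non-trivial linear characters
    have hX : ∀ l : ↥A →* ℂˣ, Cfsg.classInner (psi A l) (χ : G → ℂ) =
        (Nat.card ↥A : ℂ)⁻¹ *
          (∑ a : ↥A, conj ((χ : G → ℂ) a) - ∑ a : ↥A, (l a : ℂ) * conj ((χ : G → ℂ) a)) := by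
      intro l
      rw [hA.inner_psi l (irr_isClassFunction χ.2), ← Finset.sum_sub_distrib]
      congr 1
      exact Finset.sum_congr rfl fun a _ => by ring
    have htot : ∑ l : ↥A →* ℂˣ, Cfsg.classInner (psi A l) (χ : G → ℂ) =
        ∑ a : ↥A, conj ((χ : G → ℂ) a) - conj ((χ : G → ℂ) 1) := by
      rw [Finset.sum_congr rfl fun l _ => hX l, ← Finset.mul_sum, Finset.sum_sub_distrib,
        Finset.sum_const, Finset.card_univ, ← Nat.card_eq_fintype_card, hA.card_lin, nsmul_eq_mul,
        Finset.sum_comm]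
      simp only [← Finset.sum_mul, sum_linear_apply]
      rw [mul_sub, ← mul_assoc, inv_mul_cancel₀ (Nat.cast_ne_zero.2 Nat.card_pos.ne'), one_mul]
      congr 1
      rw [Finset.sum_eq_single (1 : ↥A)]
      · rw [if_pos (one_mem _), OneMemClass.coe_one, ← hA.card_lin, ← mul_assoc,
          natCard_linear, inv_mul_cancel₀ (Nat.cast_ne_zero.2 Subgroup.index_ne_zero_of_finite),
          one_mul]
      · intro a _ ha
        rw [if_neg, zero_mul]
        intro h
        refine ha ?_
        rw [show commutator ↥A = ⊥ by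
          rw [commutator_def, Subgroup.commutator_eq_bot_iff_le_centralizer]
          exact fun a _ => Subgroup.mem_centralizer_iff.2 fun b _ =>
            Subtype.ext (hA.commute b.2 a.2)] at h
        exact Subgroup.mem_bot.1 h
      · simp
    -- regroup by orbits
    have hreg : ∑ l : ↥A →* ℂˣ, Cfsg.classInner (psi A l) (χ : G → ℂ) =
        (e : ℂ) * ∑ i, ((cl i χ : ℤ) : ℂ) := by
      letI := hA.dualAction
      have h0 : Cfsg.classInner (psi A (1 : ↥A →* ℂˣ)) (χ : G → ℂ) = 0 := by
        rw [hA.inner_psi _ (irr_isClassFunction χ.2), Finset.sum_eq_zero, mul_zero]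
        intro a _; simp
      rw [← Finset.sum_erase (f := fun l : ↥A →* ℂˣ => Cfsg.classInner (psi A l) (χ : G → ℂ))
        Finset.univ h0, Finset.mul_sum]
      have hfib := Finset.sum_fiberwise_of_maps_to (s := Finset.univ.erase (1 : ↥A →* ℂˣ))
        (t := Finset.univ) (g := fun l => if h : l = 1 then i₀ else (hLall l h).choose)
        (fun _ _ => Finset.mem_univ _) (fun l => Cfsg.classInner (psi A l) (χ : G → ℂ))
      rw [← hfib]
      refine Finset.sum_congr rfl fun i _ => ?_
      have hconst : ∀ l ∈ (Finset.univ.erase (1 : ↥A →* ℂˣ)).filter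
          (fun l => (if h : l = 1 then i₀ else (hLall l h).choose) = i),
          Cfsg.classInner (psi A l) (χ : G → ℂ) = ((cl i χ : ℤ) : ℂ) := by
        intro l hl
        obtain ⟨hl1, hli⟩ := Finset.mem_filter.1 hl
        have hne := (Finset.mem_erase.1 hl1).1
        rw [dif_neg hne] at hli
        obtain ⟨x, hx⟩ := (hLall l hne).choose_spec
        rw [← hcint, ← hx, hA.psi_twist, hli]
      rw [Finset.sum_congr rfl hconst, Finset.sum_const, nsmul_eq_mul]
      congr 2
      -- the orbit of `L i` has `e` elements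
      rw [← Nat.card_eq_finsetCard, he]
      have horb : (A.subgroupOf (Subgroup.normalizer (A : Set G))).index =
          (MulAction.orbit ↥(Subgroup.normalizer (A : Set G))
            (⟨L i, hL1 i⟩ : {l : ↥A →* ℂˣ // l ≠ 1})).ncard := by
        rw [← MulAction.index_stabilizer]
        congr 1
        ext g
        rw [MulAction.mem_stabilizer_iff, Subgroup.mem_subgroupOf]
        refine ⟨fun hg => Subtype.ext (MonoidHom.ext fun a => congrArg (L i) (Subtype.ext ?_)),
          fun e => hA.twist_eq_self (hL1 i) (congrArg Subtype.val e)⟩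
        show (g : G)⁻¹ * a * g = a
        rw [mul_assoc, hA.commute a.2 hg, inv_mul_cancel_left]
      show _ = (A.subgroupOf (Subgroup.normalizer (A : Set G))).index
      rw [horb, ← Nat.card_coe_set_eq]
      refine Nat.card_congr
        { toFun := fun l => ⟨⟨l.1, (Finset.mem_erase.1 (Finset.mem_filter.1 l.2).1).1⟩, ?_⟩
          invFun := fun l => ⟨l.1.1, ?_⟩
          left_inv := fun l => rfl
          right_inv := fun l => rfl }
      · obtain ⟨hl1, hli⟩ := Finset.mem_filter.1 l.2
        have hne := (Finset.mem_erase.1 hl1).1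
        rw [dif_neg hne] at hli
        obtain ⟨x, hx⟩ := (hLall l.1 hne).choose_spec
        refine ⟨x, Subtype.ext ?_⟩
        show hA.twist x (L i) = l.1
        rw [← hx, hli]
      · refine Finset.mem_filter.2 ⟨Finset.mem_erase.2 ⟨l.1.2, Finset.mem_univ _⟩, ?_⟩
        rw [dif_neg l.1.2]
        obtain ⟨x, hx⟩ := (hLall l.1.1 l.1.2).choose_spec
        obtain ⟨y, hy⟩ := l.2
        set j := (hLall l.1.1 l.1.2).choose
        have hy' : hA.twist y (L i) = l.1.1 := congrArg Subtype.val hy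
        have : (⟨L j, hL1 j⟩ : {l : ↥A →* ℂˣ // l ≠ 1}) = x⁻¹ • y • ⟨L i, hL1 i⟩ := by
          rw [eq_inv_smul_iff]
          exact Subtype.ext (hx.trans hy'.symm)
        rw [← mul_smul] at this
        exact (hLinj j i _ (congrArg Subtype.val this).symm)
    obtain ⟨k, hk⟩ := classInner_isCharacter_nat (isCharacter_one (G := ↥A))
      (isCharacter_restrict (irr_isCharacter χ.2) A)
    have hk' : ∑ a : ↥A, conj ((χ : G → ℂ) a) = (Nat.card ↥A : ℂ) * k := by
      rw [classInner_def] at hk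
      simp only [one_mul] at hk
      rw [← hk, ← mul_assoc, mul_inv_cancel₀ (Nat.cast_ne_zero.2 Nat.card_pos.ne'), one_mul]
    refine ⟨k, Int.cast_injective (α := ℂ) ?_⟩
    have h := hreg.symm.trans htot
    have hd : conj ((χ : G → ℂ) 1) = ((dg χ : ℤ) : ℂ) := by
      rw [← dg_cast, map_intCast]
    rw [hk', hd] at h
    push_cast
    simp only [hcl'] at h
    push_cast at h
    linear_combination h

end IsSC

end CfsgLib.InvChar.SelfCent
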