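import Cfsg.Agent.Lib.InvChar.SelfCent.Classes

/-!
# Strongly self-centralising subgroups are Hall subgroups
-/

set_option autoImplicit false
set_option linter.unusedSectionVars false

namespace CfsgLib.InvChar.SelfCent

universe u

variable {G : Type u} [Group G] [Finite G]

theorem meets_conj {A : Subgroup G} {y x : G} (h : Meets A y) (hxy : IsConj y x) : Meets A x := by
  obtain ⟨a, ha, ha1, hc⟩ := h
  exact ⟨a, ha, ha1, hc.trans hxy⟩

theorem Meets.orderOf_dvd {A : Subgroup G} {y : G} (h : Meets A y) : orderOf y ∣ Nat.card ↥A := by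
  obtain ⟨a, ha, -, hc⟩ := h
  rw [CfsgLib.Invol.orderOf_eq_of_isConj hc]
  exact Subgroup.orderOf_dvd_natCard A ha

theorem not_meets_one {A : Subgroup G} : ¬ Meets A (1 : G) := fun ⟨_, _, ha1, hc⟩ =>
  ha1 (isConj_one_left.1 hc)

/-- A Sylow subgroup for a prime dividing `|A|` is conjugate into `A`. -/
theorem IsSC.sylow_le {A : Subgroup G} (hA : IsSC A) {p : ℕ} [Fact p.Prime]
    (hp : p ∣ Nat.card ↥A) : ∃ P : Sylow p G, (P : Subgroup G) ≤ A := by
  obtain ⟨a, ha⟩ := exists_prime_orderOf_dvd_card' (G := ↥A) p hp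
  have ha' : orderOf (a : G) = p := by rw [Subgroup.orderOf_coe, ha]
  obtain ⟨P, hP⟩ := (IsPGroup.of_card (n := 1) (by rw [Nat.card_zpowers, ha', pow_one]) :
    IsPGroup p (Subgroup.zpowers (a : G))).exists_le_sylow
  have haP : (a : G) ∈ (P : Subgroup G) := hP (Subgroup.mem_zpowers _)
  have ha1 : (a : G) ≠ 1 := fun e => by
    rw [e, orderOf_one] at ha'
    exact (Fact.out : p.Prime).one_lt.ne ha'
  haveI : Nontrivial ↥(P : Subgroup G) :=
    ⟨⟨⟨a, haP⟩, 1, fun e => ha1 (congrArg Subtype.val e)⟩⟩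
  haveI := P.2.center_nontrivial
  obtain ⟨c, hc⟩ := exists_ne (1 : ↥(Subgroup.center ↥(P : Subgroup G)))
  have hc1 : ((c : ↥(P : Subgroup G)) : G) ≠ 1 := fun e => hc (Subtype.ext (Subtype.ext e))
  have hcomm : ∀ x ∈ (P : Subgroup G), x * ((c : ↥(P : Subgroup G)) : G) = (c : ↥(P : Subgroup G)) * x :=
    fun x hx => congrArg Subtype.val ((Subgroup.mem_center_iff.1 c.2) ⟨x, hx⟩)
  have hcA : ((c : ↥(P : Subgroup G)) : G) ∈ A :=
    hA.mem_of_commute a.2 ha1 (hcomm _ haP).symm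
  exact ⟨P, fun x hx => hA.mem_of_commute hcA hc1 (hcomm x hx)⟩

theorem IsSC.not_dvd_index {A : Subgroup G} (hA : IsSC A) {p : ℕ} [Fact p.Prime]
    (hp : p ∣ Nat.card ↥A) : ¬ p ∣ A.index := by
  obtain ⟨P, hP⟩ := hA.sylow_le hp
  exact fun h => P.not_dvd_index (h.trans (Subgroup.index_dvd_of_le hP))

/-- Elements of order `p` are conjugate into `A`. -/
theorem IsSC.meets_of_prime {A : Subgroup G} (hA : IsSC A) {p : ℕ} [Fact p.Prime]
    (hp : p ∣ Nat.card ↥A) {y : G} (hy : orderOf y = p) : Meets A y := by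
  obtain ⟨P, hP⟩ := hA.sylow_le hp
  obtain ⟨Q, hQ⟩ := (IsPGroup.of_card (n := 1) (by rw [Nat.card_zpowers, hy, pow_one]) :
    IsPGroup p (Subgroup.zpowers y)).exists_le_sylow
  obtain ⟨g, hg⟩ := MulAction.exists_smul_eq G Q P
  have hm : g * y * g⁻¹ ∈ (P : Subgroup G) := by
    rw [← hg]
    exact ⟨y, hQ (Subgroup.mem_zpowers y), rfl⟩
  refine ⟨g * y * g⁻¹, hP hm, fun e => ?_, isConj_iff.2 ⟨g⁻¹, by group⟩⟩
  have : y = 1 := by simpa using e
  rw [this, orderOf_one] at hy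
  exact (Fact.out : p.Prime).one_lt.ne hy

/-- Non-conjugate ones do not meet a common class. -/
theorem IsSC.not_meets_both {A B : Subgroup G} (hA : IsSC A) (hB : IsSC B)
    (h : ∀ g : G, A.map (MulAut.conj g).toMonoidHom ≠ B) {y : G} (h1 : Meets A y) (h2 : Meets B y) :
    False := by
  obtain ⟨a, ha, ha1, hca⟩ := h1
  obtain ⟨b, hb, hb1, hcb⟩ := h2
  obtain ⟨g, hg⟩ := isConj_iff.1 (hca.trans hcb.symm)
  refine h g (le_antisymm ?_ fun x hx => ?_)
  · rintro _ ⟨x, hx, rfl⟩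
    show g * x * g⁻¹ ∈ B
    refine hB.mem_of_commute hb hb1 ?_
    rw [← hg]
    calc g * x * g⁻¹ * (g * a * g⁻¹) = g * (x * a) * g⁻¹ := by group
      _ = g * (a * x) * g⁻¹ := by rw [hA.commute hx ha]
      _ = _ := by group
  · refine ⟨g⁻¹ * x * g, hA.mem_of_commute ha ha1 ?_, ?_⟩
    · have e := hB.commute hx hb
      rw [← hg] at e
      calc g⁻¹ * x * g * a = g⁻¹ * (x * (g * a * g⁻¹)) * g := by group
        _ = g⁻¹ * (g * a * g⁻¹ * x) * g := by rw [e]
        _ = _ := by group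
    · show g * (g⁻¹ * x * g) * g⁻¹ = x
      group

theorem IsSC.coprime {A B : Subgroup G} (hA : IsSC A) (hB : IsSC B)
    (h : ∀ g : G, A.map (MulAut.conj g).toMonoidHom ≠ B) :
    (Nat.card ↥A).Coprime (Nat.card ↥B) := by
  refine Nat.coprime_of_dvd fun p hp h1 h2 => ?_
  haveI : Fact p.Prime := ⟨hp⟩
  obtain ⟨b, hb⟩ := exists_prime_orderOf_dvd_card' (G := ↥B) p h2
  have hb' : orderOf (b : G) = p := by rw [Subgroup.orderOf_coe, hb]
  refine hA.not_meets_both hB h (hA.meets_of_prime h1 hb') ⟨b, b.2, fun e => ?_, IsConj.refl _⟩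
  rw [e, orderOf_one] at hb'
  exact hp.one_lt.ne hb'

end CfsgLib.InvChar.SelfCent
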