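import Cfsg.Agent.Lib.Invol.Basic
import Mathlib.GroupTheory.GroupAction.Quotient
import Mathlib.GroupTheory.Perm.Cycle.Type

/-!
# Strongly self-centralising subgroups: local facts

`IsSC A` means `C_G(a) = A` for all `a ∈ A`, `a ≠ 1`.
-/

set_option autoImplicit false
set_option linter.unusedSectionVars false

namespace CfsgLib.InvChar.SelfCent

universe u

variable {G : Type u} [Group G]

/-- `C_G(a) = A` for every non-identity element `a` of `A`. -/
def IsSC (A : Subgroup G) : Prop :=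
  ∀ a ∈ A, a ≠ 1 → Subgroup.centralizer ({a} : Set G) = A

/-- Number of orbits on the non-identity elements. -/
noncomputable def fam (A : Subgroup G) : ℕ :=
  (Nat.card ↥A - 1) / A.relIndex (Subgroup.normalizer (A : Set G))

namespace IsSC

variable {A : Subgroup G} (hA : IsSC A)
include hA

theorem commute {a b : G} (ha : a ∈ A) (hb : b ∈ A) : a * b = b * a := by
  by_cases h : a = 1
  · simp [h]
  · rw [← hA a ha h] at hb
    exact (Subgroup.mem_centralizer_singleton_iff.1 hb).symm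

theorem mem_of_commute {a x : G} (ha : a ∈ A) (ha1 : a ≠ 1) (h : x * a = a * x) : x ∈ A := by
  rw [← hA a ha ha1]
  exact Subgroup.mem_centralizer_singleton_iff.2 h

/-- Trivial intersections. -/
theorem mem_normalizer {a x : G} (ha : a ∈ A) (ha1 : a ≠ 1) (hx : x * a * x⁻¹ ∈ A) :
    x ∈ Subgroup.normalizer (A : Set G) := by
  have hb1 : x * a * x⁻¹ ≠ 1 := fun e => ha1 (by simpa using e)
  rw [Subgroup.mem_normalizer_iff]
  intro y
  constructor
  · intro hy
    exact hA.mem_of_commute hx hb1 (by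
      calc x * y * x⁻¹ * (x * a * x⁻¹) = x * (y * a) * x⁻¹ := by group
        _ = x * (a * y) * x⁻¹ := by rw [hA.commute hy ha]
        _ = _ := by group)
  · intro hy
    exact hA.mem_of_commute ha ha1 (by
      have h := hA.commute hy hx
      calc y * a = x⁻¹ * (x * y * x⁻¹ * (x * a * x⁻¹)) * x := by group
        _ = x⁻¹ * (x * a * x⁻¹ * (x * y * x⁻¹)) * x := by rw [h]
        _ = a * y := by group)

theorem conj_mem {a x : G} (hx : x ∈ Subgroup.normalizer (A : Set G)) (ha : a ∈ A) :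
    x * a * x⁻¹ ∈ A :=
  (Subgroup.mem_normalizer_iff.1 hx a).1 ha

theorem conj_mem' {a x : G} (hx : x ∈ Subgroup.normalizer (A : Set G)) (ha : a ∈ A) :
    x⁻¹ * a * x ∈ A := by
  simpa using hA.conj_mem (inv_mem hx) ha

variable [Finite G]

/-- `|N(A)| = e |A|`. -/
theorem card_normalizer : Nat.card ↥(Subgroup.normalizer (A : Set G)) =
    A.relIndex (Subgroup.normalizer (A : Set G)) * Nat.card ↥A := by
  rw [← Subgroup.card_mul_index (A.subgroupOf (Subgroup.normalizer (A : Set G))), mul_comm,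
    Nat.card_congr (Subgroup.subgroupOfEquivOfLe Subgroup.le_normalizer).toEquiv]
  rfl

/-- In a free action with point stabilisers `A`, orbits are counted by `e`. -/
theorem orbit_count {X : Type*} [Finite X] [MulAction ↥(Subgroup.normalizer (A : Set G)) X]
    (hst : ∀ x : X, MulAction.stabilizer ↥(Subgroup.normalizer (A : Set G)) x =
      A.subgroupOf (Subgroup.normalizer (A : Set G))) :
    Nat.card X = Nat.card (MulAction.orbitRel.Quotient ↥(Subgroup.normalizer (A : Set G)) X) *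
      A.relIndex (Subgroup.normalizer (A : Set G)) := by
  classical
  have hsig := Nat.card_congr (MulAction.selfEquivSigmaOrbits ↥(Subgroup.normalizer (A : Set G)) X)
  haveI := Fintype.ofFinite (MulAction.orbitRel.Quotient ↥(Subgroup.normalizer (A : Set G)) X)
  rw [hsig, Nat.card_sigma, Finset.sum_congr rfl fun ω _ =>
    show _ = A.relIndex (Subgroup.normalizer (A : Set G)) by
      rw [Nat.card_coe_set_eq, ← MulAction.index_stabilizer, hst]
      rfl, Finset.sum_const, Finset.card_univ, ← Nat.card_eq_fintype_card, smul_eq_mul]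

/-- Non-identity elements of `A`. -/
theorem card_nonone : Nat.card {a : ↥A // a ≠ 1} = Nat.card ↥A - 1 := by
  classical
  haveI := Fintype.ofFinite ↥A
  simp [Nat.card_eq_fintype_card, Fintype.card_subtype_compl]

/-- Conjugation by the normaliser on the non-identity elements. -/
@[reducible] noncomputable def conjAction :
    MulAction ↥(Subgroup.normalizer (A : Set G)) {a : ↥A // a ≠ 1} where
  smul x a := ⟨⟨(x : G) * (a.1 : G) * (x : G)⁻¹, hA.conj_mem x.2 a.1.2⟩, fun e => a.2 (by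
    have := congrArg Subtype.val e
    exact Subtype.ext (by simpa using this))⟩
  one_smul a := by
    apply Subtype.ext; apply Subtype.ext
    show (1 : G) * (a.1 : G) * (1 : G)⁻¹ = a.1
    simp
  mul_smul x y a := by
    apply Subtype.ext; apply Subtype.ext
    show ((x : G) * y) * (a.1 : G) * ((x : G) * y)⁻¹ = x * (y * (a.1 : G) * (y : G)⁻¹) * (x : G)⁻¹
    group

/-- Representatives of the classes meeting `A \ {1}`. -/
theorem exists_class_reps : ∃ m : ℕ,
    Nat.card ↥A - 1 = m * A.relIndex (Subgroup.normalizer (A : Set G)) ∧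
    ∃ a : Fin m → G, (∀ i, a i ∈ A ∧ a i ≠ 1) ∧ (∀ i j, IsConj (a i) (a j) → i = j) ∧
      ∀ b ∈ A, b ≠ 1 → ∃ i, IsConj (a i) b := by
  classical
  letI := hA.conjAction
  let Q := MulAction.orbitRel.Quotient ↥(Subgroup.normalizer (A : Set G)) {a : ↥A // a ≠ 1}
  have hst : ∀ x : {a : ↥A // a ≠ 1}, MulAction.stabilizer ↥(Subgroup.normalizer (A : Set G)) x =
      A.subgroupOf (Subgroup.normalizer (A : Set G)) := by
    intro x
    ext g
    rw [MulAction.mem_stabilizer_iff, Subgroup.mem_subgroupOf]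
    constructor
    · intro e
      have e' : (g : G) * (x.1 : G) * (g : G)⁻¹ = x.1 :=
        congrArg (fun z : {a : ↥A // a ≠ 1} => ((z.1 : ↥A) : G)) e
      exact hA.mem_of_commute x.1.2 (fun h => x.2 (Subtype.ext h)) (mul_inv_eq_iff_eq_mul.1 e')
    · intro hg
      apply Subtype.ext; apply Subtype.ext
      show (g : G) * (x.1 : G) * (g : G)⁻¹ = x.1
      rw [hA.commute hg x.1.2, mul_inv_cancel_right]
  refine ⟨Nat.card Q, by rw [← hA.card_nonone, hA.orbit_count hst], ?_⟩
  let f : Fin (Nat.card Q) ≃ Q := (Finite.equivFin Q).symm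
  refine ⟨fun i => (((f i).out).1 : G), fun i => ⟨(f i).out.1.2, fun h => (f i).out.2 (Subtype.ext h)⟩,
    fun i j hij => f.injective ?_, fun b hb hb1 => ?_⟩
  · obtain ⟨c, hc⟩ := isConj_iff.1 hij
    have hcN : c ∈ Subgroup.normalizer (A : Set G) := hA.mem_normalizer (f i).out.1.2
      (fun h => (f i).out.2 (Subtype.ext h)) (by rw [hc]; exact (f j).out.1.2)
    rw [← Quotient.out_eq (f i), ← Quotient.out_eq (f j)]
    refine Quotient.sound (MulAction.mem_orbit_iff.2 ⟨⟨c⁻¹, inv_mem hcN⟩, ?_⟩)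
    apply Subtype.ext; apply Subtype.ext
    show c⁻¹ * ((f j).out.1 : G) * c⁻¹⁻¹ = _
    simp only at hc
    rw [← hc]
    group
  · refine ⟨f.symm ⟦⟨⟨b, hb⟩, fun h => hb1 (congrArg Subtype.val h)⟩⟧, ?_⟩
    show IsConj ((f (f.symm _)).out.1 : G) b
    rw [f.apply_symm_apply]
    obtain ⟨c, hc⟩ := Quotient.exact (Quotient.out_eq
      (⟦⟨⟨b, hb⟩, fun h => hb1 (congrArg Subtype.val h)⟩⟧ : Q))
    refine IsConj.symm (isConj_iff.2 ⟨(c : G), ?_⟩)
    exact congrArg (fun z : {a : ↥A // a ≠ 1} => ((z.1 : ↥A) : G)) hc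

theorem relIndex_dvd : A.relIndex (Subgroup.normalizer (A : Set G)) ∣ Nat.card ↥A - 1 := by
  obtain ⟨m, hm, -⟩ := hA.exists_class_reps
  exact Dvd.intro_left m hm.symm

theorem odd_card (he : 2 ∣ A.relIndex (Subgroup.normalizer (A : Set G))) : Nat.card ↥A % 2 = 1 := by
  have h := dvd_trans he hA.relIndex_dvd
  have : 0 < Nat.card ↥A := Nat.card_pos
  omega

theorem not_invol (he : 2 ∣ A.relIndex (Subgroup.normalizer (A : Set G))) {u : G} (hu : u ∈ A) :
    orderOf u ≠ 2 := by
  intro ho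
  have h := Subgroup.orderOf_dvd_natCard A hu
  have := hA.odd_card he
  rw [ho] at h
  omega

/-- An involution of `N(A)` inverts `A`. -/
theorem invol_inverts (he : 2 ∣ A.relIndex (Subgroup.normalizer (A : Set G))) {u : G}
    (hu : orderOf u = 2) (hN : u ∈ Subgroup.normalizer (A : Set G)) {a : G} (ha : a ∈ A) :
    u * a * u⁻¹ = a⁻¹ := by
  have hui : u⁻¹ = u := CfsgLib.Invol.invol_inv hu
  have hb : u * a * u⁻¹ ∈ A := hA.conj_mem hN ha
  by_contra hne
  have hp1 : a * (u * a * u⁻¹) ≠ 1 := fun e => hne (eq_inv_of_mul_eq_one_right e)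
  refine hA.not_invol he (hA.mem_of_commute (mul_mem ha hb) hp1 ?_) hu
  rw [hui] at hb ⊢
  calc u * (a * (u * a * u)) = (u * a * u) * a * u := by group
    _ = a * (u * a * u) * u := by rw [hA.commute hb ha]

theorem exists_invol (he : 2 ∣ A.relIndex (Subgroup.normalizer (A : Set G))) :
    ∃ u : G, orderOf u = 2 ∧ u ∈ Subgroup.normalizer (A : Set G) := by
  haveI : Fact (Nat.Prime 2) := ⟨Nat.prime_two⟩
  obtain ⟨u, hu⟩ := exists_prime_orderOf_dvd_card' (G := ↥(Subgroup.normalizer (A : Set G))) 2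
    (by rw [hA.card_normalizer]; exact dvd_mul_of_dvd_left he _)
  exact ⟨u, by rw [Subgroup.orderOf_coe, hu], u.2⟩

variable (hn1 : 1 < Nat.card ↥A)
include hn1

theorem exists_ne_one : ∃ a ∈ A, a ≠ 1 := by
  haveI : Nontrivial ↥A := Finite.one_lt_card_iff_nontrivial.1 hn1
  obtain ⟨a, ha⟩ := exists_ne (1 : ↥A)
  exact ⟨a, a.2, fun h => ha (Subtype.ext h)⟩

theorem diff_mem (he : 2 ∣ A.relIndex (Subgroup.normalizer (A : Set G))) {u v : G}
    (hu : orderOf u = 2) (hN : u ∈ Subgroup.normalizer (A : Set G))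
    (hv : orderOf v = 2) (hvN : v ∈ Subgroup.normalizer (A : Set G)) : u⁻¹ * v ∈ A := by
  obtain ⟨a, ha, ha1⟩ := hA.exists_ne_one hn1
  refine hA.mem_of_commute ha ha1 ?_
  have h1 := hA.invol_inverts he hv hvN ha
  have h2 := hA.invol_inverts he hu hN (inv_mem ha)
  rw [inv_inv] at h2
  have hui : u⁻¹ = u := CfsgLib.Invol.invol_inv hu
  rw [hui] at h2 ⊢
  calc u * v * a = u * (v * a * v⁻¹) * v := by group
    _ = u * a⁻¹ * v := by rw [h1]
    _ = (u * a⁻¹ * u) * (u⁻¹ * v) := by group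
    _ = a * (u * v) := by rw [h2, hui]

/-- All involutions of `N(A)` are conjugate. -/
theorem invol_conj (he : 2 ∣ A.relIndex (Subgroup.normalizer (A : Set G))) {u v : G}
    (hu : orderOf u = 2) (hN : u ∈ Subgroup.normalizer (A : Set G))
    (hv : orderOf v = 2) (hvN : v ∈ Subgroup.normalizer (A : Set G)) : IsConj u v := by
  have hd := hA.diff_mem hn1 he hu hN hv hvN
  have hn := hA.odd_card he
  set d := u⁻¹ * v with hd'
  set b := d ^ ((Nat.card ↥A + 1) / 2) with hb'
  have hb : b ∈ A := pow_mem hd _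
  have hbb : b * b = d := by
    rw [hb', ← pow_add, show (Nat.card ↥A + 1) / 2 + (Nat.card ↥A + 1) / 2 = Nat.card ↥A + 1 by omega,
      pow_succ, (show d ^ Nat.card ↥A = 1 from orderOf_dvd_iff_pow_eq_one.1 (Subgroup.orderOf_dvd_natCard A hd)), one_mul]
  refine isConj_iff.2 ⟨b⁻¹, ?_⟩
  have h := hA.invol_inverts he hu hN hb
  calc b⁻¹ * u * b⁻¹⁻¹ = b⁻¹ * (u * b * u⁻¹) * u := by group
    _ = b⁻¹ * b⁻¹ * u := by rw [h]
    _ = (b * b)⁻¹ * u := by group
    _ = (u⁻¹ * v)⁻¹ * u := by rw [hbb]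
    _ = v⁻¹ * u * u := by group
    _ = v := by rw [CfsgLib.Invol.invol_inv hv, mul_assoc, CfsgLib.Invol.invol_mul_self hu, mul_one]

/-- The pairs of involutions with a given product `a ∈ A \ {1}`. -/
theorem pair_iff (he : 2 ∣ A.relIndex (Subgroup.normalizer (A : Set G))) {a : G} (ha : a ∈ A)
    (ha1 : a ≠ 1) {u : G} (hu : orderOf u = 2) :
    orderOf (u * a) = 2 ↔ u ∈ Subgroup.normalizer (A : Set G) := by
  have hui : u⁻¹ = u := CfsgLib.Invol.invol_inv hu
  constructor
  · intro h
    have h2 : u * a * u * a = 1 := by simpa [mul_assoc] using CfsgLib.Invol.invol_mul_self h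
    refine hA.mem_normalizer ha ha1 ?_
    rw [hui, eq_inv_of_mul_eq_one_left h2]
    exact inv_mem ha
  · intro hN
    have h := hA.invol_inverts he hu hN ha
    haveI : Fact (Nat.Prime 2) := ⟨Nat.prime_two⟩
    refine orderOf_eq_prime ?_ fun e => hA.not_invol he ?_ hu
    · rw [sq]
      calc u * a * (u * a) = (u * a * u) * a := by group
        _ = 1 := by rw [hui] at h; rw [h, inv_mul_cancel]
    · rw [eq_inv_of_mul_eq_one_left e]
      exact inv_mem ha

/-- `N(A)` has exactly `|A|` involutions. -/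
theorem card_invol (he : 2 ∣ A.relIndex (Subgroup.normalizer (A : Set G))) :
    Nat.card {u : G // orderOf u = 2 ∧ u ∈ Subgroup.normalizer (A : Set G)} = Nat.card ↥A := by
  obtain ⟨u, hu, hN⟩ := hA.exists_invol he
  obtain ⟨a0, ha0, ha01⟩ := hA.exists_ne_one hn1
  refine Nat.card_congr
    { toFun := fun v => ⟨u⁻¹ * v.1, hA.diff_mem hn1 he hu hN v.2.1 v.2.2⟩
      invFun := fun a => ⟨u * a, ?_, mul_mem hN (Subgroup.le_normalizer a.2)⟩
      left_inv := fun v => Subtype.ext (by simp)
      right_inv := fun a => Subtype.ext (by simp) }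
  by_cases h1 : (a : G) = 1
  · rw [h1, mul_one, hu]
  · exact (hA.pair_iff hn1 he a.2 h1 hu).2 hN

/-- If `[N(A) : A] = 4` there is an element of order four. -/
theorem exists_order_four (he4 : A.relIndex (Subgroup.normalizer (A : Set G)) = 4) :
    ∃ g : G, orderOf g = 4 := by
  have he : 2 ∣ A.relIndex (Subgroup.normalizer (A : Set G)) := by rw [he4]; norm_num
  haveI : Fact (Nat.Prime 2) := ⟨Nat.prime_two⟩
  obtain ⟨P, hP⟩ := Sylow.exists_subgroup_card_pow_prime (G := ↥(Subgroup.normalizer (A : Set G))) 2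
    (n := 2) (by rw [hA.card_normalizer, he4]; exact dvd_mul_right 4 _)
  by_contra hno
  push Not at hno
  have key : ∀ p ∈ P, p ≠ 1 → orderOf (p : G) = 2 := by
    intro p hp hp1
    have hd : orderOf p ∣ 2 ^ 2 := hP ▸ Subgroup.orderOf_dvd_natCard P hp
    obtain ⟨i, hi, hpi⟩ := (Nat.dvd_prime_pow Nat.prime_two).1 hd
    rw [Subgroup.orderOf_coe, hpi]
    interval_cases i
    · exact absurd (orderOf_eq_one_iff.1 (by simpa using hpi)) hp1
    · norm_num
    · exact absurd (by rw [Subgroup.orderOf_coe, hpi]; norm_num) (hno (p : G))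
  classical
  haveI := Fintype.ofFinite ↥P
  have hPc : Fintype.card ↥P = 4 := by rw [← Nat.card_eq_fintype_card, hP]; norm_num
  obtain ⟨p, hp1⟩ : ∃ p : ↥P, p ≠ 1 :=
    Fintype.exists_ne_of_one_lt_card (by omega) 1
  obtain ⟨q, hq1, hqp⟩ : ∃ q : ↥P, q ≠ 1 ∧ q ≠ p := by
    have : ({1, p} : Finset ↥P) ≠ Finset.univ := fun h => by
      have := congrArg Finset.card h
      rw [Finset.card_univ, hPc, Finset.card_pair (Ne.symm hp1)] at this
      omega
    obtain ⟨q, -, hq⟩ := Finset.exists_of_ssubset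
      (lt_of_le_of_ne (Finset.subset_univ _) this)
    simp only [Finset.mem_insert, Finset.mem_singleton, not_or] at hq
    exact ⟨q, hq⟩
  have hpp := key p p.2 (fun h => hp1 (Subtype.ext h))
  have hqq := key q q.2 (fun h => hq1 (Subtype.ext h))
  have hd := hA.diff_mem hn1 he hpp (p : ↥(Subgroup.normalizer (A : Set G))).2 hqq
    (q : ↥(Subgroup.normalizer (A : Set G))).2
  refine hA.not_invol he hd (key _ (mul_mem (inv_mem p.2) q.2) fun h => hqp ?_)
  exact (Subtype.ext (inv_mul_eq_one.1 h)).symm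

end IsSC

end CfsgLib.InvChar.SelfCent
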