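import Cfsg.Agent.Lib.InvChar.SelfCent.Table
import Cfsg.Agent.Lib.Invol.CIT.Main
import Cfsg.Agent.Lib.Recog.CITGraph.Model
import Cfsg.Agent.Lib.Geom.RedundantPSL
import Cfsg.Agent.Lib.Recog.LThreeFourPlane.Model

/-!
# A system of type `(2, 4, 4)` gives a Suzuki group
-/

set_option autoImplicit false
set_option linter.unusedSectionVars false

namespace CfsgLib.InvChar.SelfCent

open CfsgLib.Char CfsgLib.Invol

universe u

theorem two_pow_unique {a b x y : ℕ} (hx : ¬ 2 ∣ x) (hy : ¬ 2 ∣ y) (h : 2 ^ a * x = 2 ^ b * y) :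
    a = b ∧ x = y := by
  induction a generalizing b with
  | zero =>
    cases b with
    | zero => simpa using h
    | succ b => exact absurd (by
        rw [pow_zero, one_mul] at h
        rw [h, pow_succ]; exact dvd_mul_of_dvd_left (dvd_mul_left 2 _) _) hx
  | succ a ih =>
    cases b with
    | zero => exact absurd (by
        rw [pow_zero, one_mul] at h
        rw [← h, pow_succ]; exact dvd_mul_of_dvd_left (dvd_mul_left 2 _) _) hy
    | succ b =>
      have h' : 2 ^ a * x = 2 ^ b * y := by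
        rw [pow_succ, pow_succ] at h
        linarith
      obtain ⟨h1, h2⟩ := ih h'
      exact ⟨by omega, h2⟩

/-- The numerical contradiction for `PSL₂(p)`, `p` a Fermat or Mersenne prime. -/
theorem psl_arith {n₁ n₂ n₃ p r C : ℕ} {t : ℤ} (hp : p.Prime) (hn₁ : 5 ≤ n₁) (hn₂ : 9 ≤ n₂)
    (hn₃ : 9 ≤ n₃) (h₁₂ : n₁.Coprime n₂) (h₁₃ : n₁.Coprime n₃) (h₂₃ : n₂.Coprime n₃)
    (hC : C ≤ p + 1) (hC' : p ≤ C + 1) (hr : 2 * r ≤ p + 1) (hr0 : 0 < r)
    (hdvd : n₁ * n₂ * n₃ ∣ p * r) (hT : ((n₂ * n₃ : ℕ) : ℤ) ∣ t + 1) (hT0 : t + 1 ≠ 0)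
    (heq : (n₁ : ℤ) * C * (t + 1) = (p * r : ℕ) * t) : False := by
  have hbig : (81 : ℤ) ≤ |t + 1| := by
    have h1 := Int.le_of_dvd (abs_pos.2 hT0) ((dvd_abs _ _).2 hT)
    have h2 : 81 ≤ n₂ * n₃ := Nat.mul_le_mul hn₂ hn₃
    have h3 : (81 : ℤ) ≤ ((n₂ * n₃ : ℕ) : ℤ) := by exact_mod_cast h2
    linarith
  have hM : (0 : ℤ) ≤ (p * r : ℕ) := Int.natCast_nonneg _
  have hX : (0 : ℤ) ≤ (n₁ : ℤ) * C := by positivity
  -- `80 pr ≤ 81 n₁ C` and `80 n₁ C ≤ 81 pr`
  have key : 80 * ((p * r : ℕ) : ℤ) ≤ 81 * ((n₁ : ℤ) * C) ∧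
      80 * ((n₁ : ℤ) * C) ≤ 81 * ((p * r : ℕ) : ℤ) := by
    rcases le_abs.1 hbig with h | h
    · constructor <;> nlinarith
    · constructor <;> nlinarith
  obtain ⟨k1, k2⟩ : 80 * (p * r) ≤ 81 * (n₁ * C) ∧ 80 * (n₁ * C) ≤ 81 * (p * r) := by
    exact ⟨by exact_mod_cast key.1, by exact_mod_cast key.2⟩
  have hsize : 405 ≤ p * r := le_trans
    (le_trans (by norm_num) (Nat.mul_le_mul (Nat.mul_le_mul hn₁ hn₂) hn₃))
    (Nat.le_of_dvd (Nat.mul_pos hp.pos hr0) hdvd)
  have hp5 : 11 ≤ p := by nlinarith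
  have hor : p ∣ n₁ ∨ n₁ * 9 ≤ r := by
    by_cases h1 : p ∣ n₁
    · exact Or.inl h1
    refine Or.inr ?_
    have hcop : ∀ n, ¬ p ∣ n → n.Coprime p := fun n hn =>
      ((hp.coprime_iff_not_dvd).2 hn).symm
    by_cases h2 : p ∣ n₂
    · have h3 : ¬ p ∣ n₃ := fun h3 => hp.one_lt.ne'
        (Nat.dvd_one.1 (h₂₃ ▸ Nat.dvd_gcd h2 h3))
      have hd : n₁ * n₃ ∣ r := by
        refine (Nat.Coprime.mul_left (hcop _ h1) (hcop _ h3)).dvd_of_dvd_mul_left ?_
        exact (show n₁ * n₃ ∣ n₁ * n₂ * n₃ from ⟨n₂, by ring⟩).trans hdvd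
      exact le_trans (Nat.mul_le_mul_left _ hn₃) (Nat.le_of_dvd hr0 hd)
    · have hd : n₁ * n₂ ∣ r := by
        refine (Nat.Coprime.mul_left (hcop _ h1) (hcop _ h2)).dvd_of_dvd_mul_left ?_
        exact (dvd_mul_right _ _).trans hdvd
      exact le_trans (Nat.mul_le_mul_left _ hn₂) (Nat.le_of_dvd hr0 hd)
  rcases hor with h | h
  · have := Nat.le_of_dvd (by omega) h
    have : p * C ≤ n₁ * C := Nat.mul_le_mul_right C this
    have : 80 * (p * C) ≤ 81 * (p * r) := by omega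
    have : 80 * C ≤ 81 * r := by nlinarith
    omega
  · have : 9 * (n₁ * C) ≤ r * C := by nlinarith
    have : 720 * (p * r) ≤ 81 * (r * C) := by omega
    have : 720 * p ≤ 81 * C := by nlinarith
    omega

variable {G : Type u} [Group G] [Fintype G]

theorem Hyp.odd_prod {A₁ A₂ A₃ : Subgroup G} (H : Hyp A₁ A₂ A₃) :
    (Nat.card ↥A₁ * Nat.card ↥A₂ * Nat.card ↥A₃).Coprime 2 := by
  refine Nat.Coprime.symm (Nat.coprime_two_left.2 ?_)
  refine Odd.mul (Odd.mul (Nat.odd_iff.2 H.mod₁) (Nat.odd_iff.2 ?_)) (Nat.odd_iff.2 ?_)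
  · have := H.mod₂.1; omega
  · have := H.mod₃.1; omega

/-- Three coprime divisors do not fit into `360` or `20160`. -/
theorem Hyp.card_ne {A₁ A₂ A₃ : Subgroup G} (H : Hyp A₁ A₂ A₃) :
    Nat.card G ≠ 360 ∧ Nat.card G ≠ 20160 := by
  obtain ⟨h, hG, -, -⟩ := H.exists_decomp
  have hd : ∀ d, Nat.card G = 2 ^ 6 * d ∨ Nat.card G = 2 ^ 3 * d → d = 45 ∨ d = 315 → False := by
    intro d hd hd'
    have hN : Nat.card ↥A₁ * Nat.card ↥A₂ * Nat.card ↥A₃ ∣ d := by
      rcases hd with e | e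
      · exact (Nat.Coprime.pow_right 6 H.odd_prod).dvd_of_dvd_mul_left ⟨h, e ▸ hG⟩
      · exact (Nat.Coprime.pow_right 3 H.odd_prod).dvd_of_dvd_mul_left ⟨h, e ▸ hG⟩
    have h2 : Nat.card ↥A₂ ∣ d := (dvd_mul_of_dvd_left (dvd_mul_left _ _) _).trans hN
    have h3 : Nat.card ↥A₃ ∣ d := (dvd_mul_left _ _).trans hN
    have hc := H.cop₂₃
    have := Nat.le_of_dvd (by omega) h2
    have := Nat.le_of_dvd (by omega) h3
    have key : ∀ d : ℕ, (d = 45 ∨ d = 315) → ∀ a ∈ Finset.range 316, ∀ b ∈ Finset.range 316,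
        a ∣ d → b ∣ d → a % 4 = 1 → 9 ≤ a → b % 4 = 1 → 9 ≤ b → a.gcd b ≠ 1 := by
      rintro d hd a - b - ha hb ha4 ha9 hb4 hb9
      have hsub : d ∣ 315 := by rcases hd with rfl | rfl <;> norm_num
      have ha' := ha.trans hsub
      have hb' := hb.trans hsub
      have hmem : ∀ x, x ∣ 315 → x % 4 = 1 → 9 ≤ x → 3 ∣ x := by
        intro x hx h4 h9
        have hx' : x ∈ Nat.divisors 315 := Nat.mem_divisors.2 ⟨hx, by norm_num⟩
        clear hx
        revert h4 h9
        revert hx'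
        revert x
        decide +kernel
      intro hg
      have := Nat.dvd_gcd (hmem a ha' ha4 ha9) (hmem b hb' hb4 hb9)
      rw [hg] at this
      norm_num at this
    exact key d hd' _ (Finset.mem_range.2 (by omega)) _ (Finset.mem_range.2 (by omega)) h2 h3
      H.mod₂.1 H.mod₂.2 H.mod₃.1 H.mod₃.2 hc
  exact ⟨fun e => hd 45 (Or.inr (by rw [e]; norm_num)) (Or.inl rfl),
    fun e => hd 315 (Or.inl (by rw [e]; norm_num)) (Or.inr rfl)⟩

variable [Fintype (Cfsg.IrrCharacter G)]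

/-- Every involution centraliser is a `2`-group. -/
theorem Hyp.cit [IsSimpleGroup G] {A₁ A₂ A₃ : Subgroup G} (H : Hyp A₁ A₂ A₃) :
    ∀ w : G, orderOf w = 2 → IsPGroup 2 (Subgroup.centralizer ({w} : Set G)) := by
  obtain ⟨z, -, hz, hone, -, hle, -⟩ := H.table
  intro w hw
  haveI : Fact (Nat.Prime 2) := ⟨Nat.prime_two⟩
  by_contra hno
  obtain ⟨p, hp, hpd, hp2⟩ : ∃ p : ℕ, p.Prime ∧
      p ∣ Nat.card ↥(Subgroup.centralizer ({w} : Set G)) ∧ p ≠ 2 := by
    by_contra hall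
    push Not at hall
    exact hno (IsPGroup.of_card
      (Nat.eq_prime_pow_of_unique_prime_dvd Nat.card_pos.ne' fun hd hdd => hall _ hd hdd))
  haveI : Fact p.Prime := ⟨hp⟩
  obtain ⟨y, hy⟩ := exists_prime_orderOf_dvd_card'
    (G := ↥(Subgroup.centralizer ({w} : Set G))) p hpd
  have hy' : orderOf (y : G) = p := by rw [Subgroup.orderOf_coe, hy]
  have hcomm : Commute w (y : G) := (Subgroup.mem_centralizer_singleton_iff.1 y.2).symm
  have hwy : orderOf (w * (y : G)) = 2 * p := by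
    rw [hcomm.orderOf_mul_eq_mul_orderOf_of_coprime, hw, hy']
    rw [hw, hy']
    exact (Nat.coprime_primes Nat.prime_two hp).2 (Ne.symm hp2)
  obtain ⟨σ, hσ⟩ := H.sc₂.exists_order_four (by have := H.ge₂; omega) H.idx₂
  have hp3 : 3 ≤ p := by have := hp.two_le; omega
  have hpodd : p % 2 = 1 := (hp.eq_two_or_odd).resolve_left hp2
  -- `p` does not divide `n₁ n₂ n₃`
  have hpN : ¬ p ∣ Nat.card ↥A₁ * Nat.card ↥A₂ * Nat.card ↥A₃ := fun h =>
    hp.one_lt.ne' (Nat.dvd_one.1 ((H.centralizer_coprime hw) ▸ Nat.dvd_gcd hpd h))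
  let b : Fin 5 → G := ![1, w, σ, (y : G), w * y]
  have hb : ∀ j, orderOf (b j) = ![1, 2, 4, p, 2 * p] j := by
    intro j; fin_cases j <;> simp [b, hw, hσ, hy', hwy]
  have hinj : ∀ j l, IsConj (b j) (b l) → j = l := by
    intro j l hjl
    have e := orderOf_eq_of_isConj hjl
    rw [hb, hb] at e
    fin_cases j <;> fin_cases l <;> simp at e ⊢ <;> omega
  have hnot : ∀ j i, ¬ Meets (![A₁, A₂, A₃] i) (b j) := by
    intro j i hM
    have hd := hM.orderOf_dvd
    rw [hb] at hd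
    have hdN : (![1, 2, 4, p, 2 * p] : Fin 5 → ℕ) j ∣
        Nat.card ↥A₁ * Nat.card ↥A₂ * Nat.card ↥A₃ := by
      refine hd.trans ?_
      fin_cases i <;> simp
      · exact dvd_mul_of_dvd_left (dvd_mul_right _ _) _
      · exact dvd_mul_of_dvd_left (dvd_mul_left _ _) _
    have h2 : ¬ 2 ∣ Nat.card ↥A₁ * Nat.card ↥A₂ * Nat.card ↥A₃ := fun h =>
      (Nat.prime_two.coprime_iff_not_dvd.1 H.odd_prod.symm) h
    fin_cases j <;> simp at hdN
    · exact not_meets_one hM
    · exact h2 hdN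
    · exact h2 (dvd_trans (by norm_num) hdN)
    · exact hpN hdN
    · exact h2 (dvd_trans (dvd_mul_right 2 p) hdN)
  have := H.system.card_le b hinj hnot
  rw [Fin.sum_univ_three] at this
  simp only [Matrix.cons_val_zero, Matrix.cons_val_one, Matrix.cons_val] at this
  omega

theorem Hyp.isoSuzuki [IsSimpleGroup G] {A₁ A₂ A₃ : Subgroup G} (H : Hyp A₁ A₂ A₃) :
    Cfsg.Lie.IsoSuzuki G := by
  haveI : Fact (Nat.Prime 2) := ⟨Nat.prime_two⟩
  rcases CfsgLib.Invol.CIT.classification H.noncomm H.cit with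
    ⟨F, _, _, hF, ⟨φ⟩⟩ | ⟨F, _, _, hF, ⟨φ⟩⟩ | ⟨-, h⟩
  · exfalso
    have hc := CfsgLib.Geom.Moebius.card_psl_two_gcd (F := F)
    rw [← Nat.card_congr φ.toEquiv] at hc
    rcases hF with hF | ⟨m, hm⟩ | ⟨hp, k, hk⟩
    · rw [hF, show Nat.gcd 2 (9 - 1) = 2 from rfl] at hc
      exact H.card_ne.1 (by omega)
    · -- characteristic two: no element of order four
      obtain ⟨σ, hσ⟩ := H.sc₂.exists_order_four (by have := H.ge₂; omega) H.idx₂
      have hm1 : 1 ≤ m := by
        rcases Nat.eq_zero_or_pos m with h0 | h0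
        · rw [h0, pow_zero] at hm
          exact absurd (hm ▸ Fintype.one_lt_card) (lt_irrefl 1)
        · exact h0
      haveI : CharP F 2 := charP_of_card_eq_prime_pow hm
      have h := CfsgLib.KnownB.SL2.orderOf_psl_cases 2 (φ σ)
      rw [hm, CfsgLib.Recog.CITGraph.gcd_two_pred hm1, Nat.div_one, Nat.div_one,
        MulEquiv.orderOf_eq, hσ] at h
      have h2m : 2 ∣ 2 ^ m := dvd_pow_self 2 (by omega)
      have := Nat.one_le_two_pow (n := m)
      rcases h with h | h | h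
      · exact absurd (Nat.le_of_dvd two_pos h) (by norm_num)
      all_goals (have := dvd_trans (by norm_num : (2 : ℕ) ∣ 4) h; omega)
    · -- Fermat and Mersenne primes
      obtain ⟨z, t, hz, -, hodd, -, -, hT0, hT, heq⟩ := H.table
      obtain ⟨a, ha⟩ := (H.cit z hz).exists_card_eq
      set q := Fintype.card F with hq
      set C := Nat.card ↥(Subgroup.centralizer ({z} : Set G)) with hC
      have hCG : C ∣ Nat.card G := Subgroup.card_subgroup_dvd_card _
      obtain ⟨o, ho⟩ := hCG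
      have hood : ¬ 2 ∣ o := by
        rw [ho, Nat.mul_div_cancel_left _ (by rw [hC]; exact Nat.card_pos)] at hodd
        exact hodd
      obtain ⟨h, hG, -, -⟩ := H.exists_decomp
      set N := Nat.card ↥A₁ * Nat.card ↥A₂ * Nat.card ↥A₃ with hN
      have hq5 : 5 < q := by
        by_contra h5
        have h81 : 405 ≤ N := le_trans (by norm_num)
          (Nat.mul_le_mul (Nat.mul_le_mul H.ge₁ H.mod₂.2) H.mod₃.2)
        have h1 : N ≤ Nat.card G := Nat.le_of_dvd Nat.card_pos ⟨h, hG⟩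
        have h2 : Nat.card G ≤ Nat.gcd 2 (q - 1) * Nat.card G :=
          Nat.le_mul_of_pos_left _ (Nat.gcd_pos_of_pos_left _ two_pos)
        have h3 : q * ((q + 1) * (q - 1)) ≤ 5 * (6 * 4) :=
          Nat.mul_le_mul (by omega) (Nat.mul_le_mul (by omega) (by omega))
        omega
      have hq2 : q ≠ 2 := by omega
      have hqo : q % 2 = 1 := hp.eq_two_or_odd.resolve_left hq2
      have hq3 : 3 ≤ q := by have := hp.two_le; omega
      have hg : Nat.gcd 2 (q - 1) = 2 := Nat.gcd_eq_left (by omega)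
      rw [hg] at hc
      -- `2 ^ k = C`, and the odd part
      have main : ∀ b r : ℕ, 2 ^ b * r * q = Nat.card G → 2 * r ≤ q + 1 → ¬ 2 ∣ r → q ≤ 2 ^ b + 1 →
          2 ^ b ≤ q + 1 → False := by
        intro b r hcard hr hrodd hlo hhi
        have hqr : ¬ 2 ∣ q * r := fun h2 => by
          rcases Nat.prime_two.dvd_mul.1 h2 with h2 | h2
          · omega
          · exact hrodd h2
        obtain ⟨hab, hoe⟩ := two_pow_unique (a := b) (b := a) hqr hood (by
          rw [← ha, ← ho, ← hcard]; ring)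
        have hr0 : 0 < r := Nat.pos_of_ne_zero fun h0 => hrodd (h0 ▸ dvd_zero 2)
        have hdvd : N ∣ q * r := by
          refine (Nat.Coprime.pow_right b H.odd_prod).dvd_of_dvd_mul_left ⟨h, ?_⟩
          rw [← hG, ← hcard]; ring
        refine psl_arith (C := C) hp H.ge₁ H.mod₂.2 H.mod₃.2 H.cop₁₂ H.cop₁₃ H.cop₂₃ ?_ ?_ hr hr0
          hdvd hT hT0 ?_
        · rw [ha, ← hab]; exact hhi
        · rw [ha, ← hab]; omega
        · rw [hoe]
          refine mul_left_cancel₀ (show (C : ℤ) ≠ 0 by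
            rw [hC]; exact_mod_cast Nat.card_pos.ne') ?_
          rw [ho] at heq
          push_cast at heq
          linear_combination heq
      have hk2 : 2 ≤ k := by
        rcases Nat.lt_or_ge k 2 with h | h
        · interval_cases k <;> norm_num at hk <;> omega
        · exact h
      obtain ⟨c, rfl⟩ : ∃ c, k = c + 2 := ⟨k - 2, by omega⟩
      have h2c : 1 ≤ 2 ^ c := Nat.one_le_two_pow
      rcases hk with hk | hk
      · rcases Nat.eq_zero_or_pos c with rfl | hc0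
        · norm_num at hk
          omega
        · refine main (c + 2) (2 ^ (c + 1) + 1) ?_ ?_ ?_ (by omega) (by omega)
          · refine Nat.eq_of_mul_eq_mul_left two_pos ?_
            rw [hc, hk, Nat.add_sub_cancel]
            ring
          · rw [hk]; ring_nf; omega
          · intro h2
            have : 2 ∣ 2 ^ (c + 1) := dvd_pow_self 2 (by omega)
            omega
      · refine main (c + 2) (2 ^ (c + 1) - 1) ?_ ?_ ?_ (by omega) (by omega)
        · refine Nat.eq_of_mul_eq_mul_left two_pos ?_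
          have h2 : q - 1 = 2 * (2 ^ (c + 1) - 1) := by
            rw [pow_succ] at hk
            omega
          rw [hc, hk, h2]
          ring
        · rw [pow_succ] at hk; omega
        · intro h2
          have : 2 ∣ 2 ^ (c + 1) := dvd_pow_self 2 (by omega)
          have := Nat.one_le_two_pow (n := c + 1)
          omega
  · exact absurd ((Nat.card_congr φ.toEquiv).trans
      (CfsgLib.Recog.LThreeFour.card_psl_three_four hF)) H.card_ne.2
  · exact h

end CfsgLib.InvChar.SelfCent
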