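import Cfsg.Agent.Lib.InvChar.SelfCent.Skeleton

/-!
# The two subgroups of index four
-/

set_option autoImplicit false
set_option linter.unusedSectionVars false
set_option maxHeartbeats 1000000

namespace CfsgLib.InvChar.SelfCent

open CfsgLib.Char

universe u

variable {G : Type u} [Group G] [Fintype G] [Fintype (Cfsg.IrrCharacter G)]

theorem norm_le {A : Subgroup G} {m : ℕ} (F : Fam A 4 m) (hm : 2 ≤ m)
    (S : Finset (Cfsg.IrrCharacter G)) (hS : S ⊆ F.oth) (h1 : one' G ∉ S) :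
    ∑ χ ∈ S, F.c χ ^ 2 ≤ 3 ∧
      (∑ χ ∈ S, F.c χ ^ 2 = 3 →
        F.sig ^ 2 = 1 ∧ ∀ χ ∈ F.oth, χ ≠ one' G → χ ∉ S → F.c χ = 0) := by
  classical
  have hR := F.norm_nontriv (show 0 < m by omega)
  have hcorr := F.corr_nonneg hm
  have hsub : S ⊆ F.oth.erase (one' G) := fun χ hχ =>
    Finset.mem_erase.2 ⟨fun e => h1 (e ▸ hχ), hS hχ⟩
  have hsplit := Finset.sum_sdiff (f := fun χ => F.c χ ^ 2) hsub
  have hnn : 0 ≤ ∑ χ ∈ F.oth.erase (one' G) \ S, F.c χ ^ 2 :=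
    Finset.sum_nonneg fun χ _ => sq_nonneg _
  push_cast at hR
  refine ⟨by linarith, fun h3 => ⟨F.sig_sq_of_corr hm (by linarith), fun χ hχ hne hn => ?_⟩⟩
  have h0 : ∑ χ ∈ F.oth.erase (one' G) \ S, F.c χ ^ 2 = 0 := by linarith
  exact pow_eq_zero_iff two_ne_zero |>.1
    ((Finset.sum_eq_zero_iff_of_nonneg fun χ _ => sq_nonneg _).1 h0 χ
      (Finset.mem_sdiff.2 ⟨Finset.mem_erase.2 ⟨hne, hχ⟩, hn⟩))

variable {A₁ Ak Al : Subgroup G} {m₁ mk ml : ℕ}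
variable (F₁ : Fam A₁ 2 m₁) (Fk : Fam Ak 4 mk) (Fl : Fam Al 4 ml)

open scoped Classical in
/-- What `A₁` and `Ak` know about each other. -/
structure Side (θ : Cfsg.IrrCharacter G) (i : Fin m₁) : Prop where
  disj : ∀ y, Meets A₁ y → Meets Ak y → False
  mem : θ ∈ Fk.oth
  zero : ∀ j, F₁.c (Fk.μ j) = 0
  cases : (Fk.c θ = -F₁.c θ ∧ Fk.c (F₁.μ i) = 0) ∨ (Fk.c θ = 0 ∧ Fk.c (F₁.μ i) = -F₁.sig)

variable {F₁ Fk Fl} {θ : Cfsg.IrrCharacter G} {i : Fin m₁}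

theorem img_sum_sq (hm₁ : 2 ≤ m₁) (hmk : 2 ≤ mk) (hk : Side F₁ Fk θ i) :
    ∑ χ ∈ F₁.img, Fk.c χ ^ 2 = (m₁ : ℤ) * Fk.c (F₁.μ i) ^ 2 := by
  rw [F₁.sum_img, Finset.sum_congr rfl fun i' _ => show Fk.c (F₁.μ i') ^ 2 = Fk.c (F₁.μ i) ^ 2 by
    rw [F₁.c_const Fk hk.disj hm₁ hmk i' i], Finset.sum_const, Finset.card_univ, Fintype.card_fin,
    nsmul_eq_mul]

theorem img_sub (hm₁ : 2 ≤ m₁) (hmk : 2 ≤ mk) (hk : Side F₁ Fk θ i) : F₁.img ⊆ Fk.oth := by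
  intro χ hχ
  obtain ⟨i', rfl⟩ := F₁.mem_img.1 hχ
  exact F₁.μ_mem_oth Fk hk.disj hm₁ hmk i'

theorem one_notMem_img {A : Subgroup G} {e m : ℕ} {F : Fam A e m} : one' G ∉ F.img := fun h => by
  obtain ⟨i', hi'⟩ := F.mem_img.1 h
  exact F.μ_ne i' hi'

/-- If `θ` vanishes on `Ak` the family of `A₁` is small. -/
theorem degenerate_small (hm₁ : 2 ≤ m₁) (hmk : 2 ≤ mk) (hml : 2 ≤ ml)
    (hd : ∀ y, Meets Ak y → Meets Al y → False) (hθ : θ ∈ F₁.oth) (hθ1 : θ ≠ one' G)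
    (hθc : F₁.c θ ^ 2 = 1) (hsig : F₁.sig ^ 2 = 1) (hk : Side F₁ Fk θ i) (hl : Side F₁ Fl θ i)
    (h0 : Fk.c θ = 0) : m₁ = 2 ∨ m₁ = 3 ∧ mk = 2 := by
  classical
  have hd' : ∀ y, Meets Al y → Meets Ak y → False := fun y h h' => hd y h' h
  have hx : Fk.c (F₁.μ i) ^ 2 = 1 := by
    rcases hk.cases with ⟨h, -⟩ | ⟨-, h⟩
    · rw [h0] at h
      rw [neg_eq_zero.1 h.symm] at hθc
      norm_num at hθc
    · rw [h]; linear_combination hsig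
  have hb := norm_le Fk hmk F₁.img (img_sub hm₁ hmk hk) one_notMem_img
  rw [img_sum_sq hm₁ hmk hk, hx, mul_one] at hb
  have hm3 : m₁ ≤ 3 := by exact_mod_cast hb.1
  by_cases h2 : m₁ = 2
  · exact Or.inl h2
  have h3 : m₁ = 3 := by omega
  refine Or.inr ⟨h3, ?_⟩
  obtain ⟨hsk, hsupp⟩ := hb.2 (by rw [h3]; norm_num)
  have j : Fin mk := ⟨0, by omega⟩
  have l : Fin ml := ⟨0, by omega⟩
  have hμl1 : ∀ l', Fl.μ l' ∉ F₁.img := by
    intro l' h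
    obtain ⟨i', hi'⟩ := F₁.mem_img.1 h
    exact F₁.μ_disjoint Fl hl.disj hm₁ hml i' l' hi'
  have hyk : Fk.c (Fl.μ l) = 0 :=
    hsupp _ (Fl.μ_mem_oth Fk hd' hml hmk l) (Fl.μ_ne l) (hμl1 l)
  have hc := cross_four Fk Fl hd hmk hml j l
  have hsum : ∑ χ ∈ (Fk.oth.filter fun χ => χ ∈ Fl.oth).erase (one' G), Fk.c χ * Fl.c χ =
      3 * (Fk.c (F₁.μ i) * Fl.c (F₁.μ i)) := by
    rw [← Finset.sum_subset (s₁ := F₁.img) ?_ ?_, F₁.sum_img,
      Finset.sum_congr rfl fun i' _ => show Fk.c (F₁.μ i') * Fl.c (F₁.μ i') =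
        Fk.c (F₁.μ i) * Fl.c (F₁.μ i) by
        rw [F₁.c_const Fk hk.disj hm₁ hmk i' i, F₁.c_const Fl hl.disj hm₁ hml i' i],
      Finset.sum_const, Finset.card_univ, Fintype.card_fin, nsmul_eq_mul,
      show (m₁ : ℤ) = 3 by omega]
    · intro χ hχ
      exact Finset.mem_erase.2 ⟨fun e => one_notMem_img (F := F₁) (e ▸ hχ),
        Finset.mem_filter.2 ⟨img_sub hm₁ hmk hk hχ, img_sub hm₁ hml hl hχ⟩⟩
    · intro χ hχ hn
      obtain ⟨hne, hm⟩ := Finset.mem_erase.1 hχ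
      rw [hsupp χ (Finset.mem_filter.1 hm).1 hne hn, zero_mul]
  rw [hsum, hyk, mul_zero, add_zero] at hc
  -- the norm of the other vector
  have hμk1 : ∀ j', Fk.μ j' ∉ F₁.img := by
    intro j' h
    obtain ⟨i', hi'⟩ := F₁.mem_img.1 h
    exact F₁.μ_disjoint Fk hk.disj hm₁ hmk i' j' hi'
  have hθ1' : θ ∉ F₁.img := fun h => by
    obtain ⟨i', hi'⟩ := F₁.mem_img.1 h
    exact (F₁.mem_oth.1 hθ) i' hi'
  have hθk : θ ∉ Fk.img := fun h => by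
    obtain ⟨j', hj'⟩ := Fk.mem_img.1 h
    exact (Fk.mem_oth.1 hk.mem) j' hj'
  have hd1 : Disjoint F₁.img Fk.img := Finset.disjoint_left.2 fun χ h h' => by
    obtain ⟨j', rfl⟩ := Fk.mem_img.1 h'
    exact hμk1 j' h
  have hbl := norm_le Fl hml (insert θ (F₁.img ∪ Fk.img)) (by
      intro χ hχ
      rcases Finset.mem_insert.1 hχ with rfl | hχ
      · exact hl.mem
      · rcases Finset.mem_union.1 hχ with hχ | hχ
        · exact img_sub hm₁ hml hl hχ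
        · obtain ⟨j', rfl⟩ := Fk.mem_img.1 hχ
          exact Fk.μ_mem_oth Fl hd hmk hml j') (by
      simp only [Finset.mem_insert, Finset.mem_union, not_or]
      exact ⟨Ne.symm hθ1, one_notMem_img, fun h => by
        obtain ⟨j', hj'⟩ := Fk.mem_img.1 h
        exact Fk.μ_ne j' hj'⟩)
  have hle := hbl.1
  rw [Finset.sum_insert (by simp [hθ1', hθk]), Finset.sum_union hd1, img_sum_sq hm₁ hml hl,
    Fk.sum_img, Finset.sum_congr rfl fun j' _ => show Fl.c (Fk.μ j') ^ 2 = Fl.c (Fk.μ j) ^ 2 by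
      rw [Fk.c_const Fl hd hmk hml j' j], Finset.sum_const, Finset.card_univ, Fintype.card_fin,
    nsmul_eq_mul, show (m₁ : ℤ) = 3 by omega] at hle
  have hmk' : (2 : ℤ) ≤ mk := by exact_mod_cast hmk
  rcases hl.cases with ⟨hθl, hxl⟩ | ⟨hθl, hxl⟩
  · rw [hxl, mul_zero, mul_zero, add_zero] at hc
    have hy : Fl.c (Fk.μ j) ^ 2 = 1 := by
      linear_combination (Fk.sig * Fl.c (Fk.μ j) - 1) * hc - (Fl.c (Fk.μ j) ^ 2) * hsk
    rw [hθl, hxl, hy] at hle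
    have h4 : (mk : ℤ) ≤ 2 := by nlinarith [hθc]
    omega
  · exfalso
    have hxk : Fk.c (F₁.μ i) = -F₁.sig := by
      rcases hk.cases with ⟨h, -⟩ | ⟨-, h⟩
      · rw [h0] at h
        rw [neg_eq_zero.1 h.symm] at hθc
        norm_num at hθc
      · exact h
    rw [hxk, hxl] at hc
    rw [hxl] at hle
    have hy : Fl.c (Fk.μ j) = 0 := by
      by_contra hne
      have : 0 < Fl.c (Fk.μ j) ^ 2 := by positivity
      nlinarith [sq_nonneg (Fl.c θ), hsig]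
    rw [hy] at hc
    nlinarith [hsig]

/-- The generic case. -/
theorem main_split (hm₁ : 2 ≤ m₁) (hmk : 2 ≤ mk) (hml : 2 ≤ ml) (hne : mk ≠ 2 ∨ ml ≠ 2)
    (hd : ∀ y, Meets Ak y → Meets Al y → False) (hθ : θ ∈ F₁.oth) (hθ1 : θ ≠ one' G)
    (hθc : F₁.c θ ^ 2 = 1) (hk : Side F₁ Fk θ i) (hl : Side F₁ Fl θ i)
    (hθk : Fk.c θ = -F₁.c θ) (hθl : Fl.c θ = -F₁.c θ) :
    ∃ ψ ψ' : Cfsg.IrrCharacter G, ψ ≠ ψ' ∧ ψ ≠ one' G ∧ ψ' ≠ one' G ∧ ψ ≠ θ ∧ ψ' ≠ θ ∧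
      (∀ a, F₁.μ a ≠ ψ ∧ F₁.μ a ≠ ψ') ∧ (∀ a, Fk.μ a ≠ ψ ∧ Fk.μ a ≠ ψ') ∧
      (∀ a, Fl.μ a ≠ ψ ∧ Fl.μ a ≠ ψ') ∧
      Fk.sig ^ 2 = 1 ∧ Fl.sig ^ 2 = 1 ∧ (∀ a, Fl.c (Fk.μ a) = 0) ∧ (∀ a, Fk.c (Fl.μ a) = 0) ∧
      ∀ χ, χ ≠ one' G → χ ≠ θ → χ ≠ ψ → χ ≠ ψ' → (∀ a, F₁.μ a ≠ χ) → (∀ a, Fk.μ a ≠ χ) →
        (∀ a, Fl.μ a ≠ χ) → Fk.c χ = 0 ∧ Fl.c χ = 0 := by
  classical
  have hd' : ∀ y, Meets Al y → Meets Ak y → False := fun y h h' => hd y h' h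
  have hθne : F₁.c θ ≠ 0 := fun h => by rw [h] at hθc; norm_num at hθc
  have hxk : Fk.c (F₁.μ i) = 0 := by
    rcases hk.cases with ⟨-, h⟩ | ⟨h, -⟩
    · exact h
    · rw [hθk, neg_eq_zero] at h; exact absurd h hθne
  have hxl : Fl.c (F₁.μ i) = 0 := by
    rcases hl.cases with ⟨-, h⟩ | ⟨h, -⟩
    · exact h
    · rw [hθl, neg_eq_zero] at h; exact absurd h hθne
  have hzk : ∀ a, Fk.c (F₁.μ a) = 0 := fun a => (F₁.c_const Fk hk.disj hm₁ hmk a i).trans hxk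
  have hzl : ∀ a, Fl.c (F₁.μ a) = 0 := fun a => (F₁.c_const Fl hl.disj hm₁ hml a i).trans hxl
  have j : Fin mk := ⟨0, by omega⟩
  have l : Fin ml := ⟨0, by omega⟩
  let rest : Finset (Cfsg.IrrCharacter G) := Finset.univ.filter fun χ =>
    χ ≠ one' G ∧ χ ≠ θ ∧ (∀ a, F₁.μ a ≠ χ) ∧ (∀ a, Fk.μ a ≠ χ) ∧ (∀ a, Fl.μ a ≠ χ)
  have hrest : ∀ χ, χ ∈ rest ↔
      χ ≠ one' G ∧ χ ≠ θ ∧ (∀ a, F₁.μ a ≠ χ) ∧ (∀ a, Fk.μ a ≠ χ) ∧ (∀ a, Fl.μ a ≠ χ) := by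
    intro χ; simp [rest]
  have hrk : rest ⊆ Fk.oth := fun χ h => Fk.mem_oth.2 ((hrest χ).1 h).2.2.2.1
  have hrl : rest ⊆ Fl.oth := fun χ h => Fl.mem_oth.2 ((hrest χ).1 h).2.2.2.2
  have hl1 : ∀ a, Fl.μ a ≠ θ := fun a => (Fl.mem_oth.1 hl.mem) a
  have hk1 : ∀ a, Fk.μ a ≠ θ := fun a => (Fk.mem_oth.1 hk.mem) a
  have hθr : θ ∉ rest := fun h => ((hrest θ).1 h).2.1 rfl
  -- norms
  have hdk : Disjoint Fl.img rest := Finset.disjoint_left.2 fun χ h h' => by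
    obtain ⟨a, rfl⟩ := Fl.mem_img.1 h
    exact ((hrest _).1 h').2.2.2.2 a rfl
  have hdl : Disjoint Fk.img rest := Finset.disjoint_left.2 fun χ h h' => by
    obtain ⟨a, rfl⟩ := Fk.mem_img.1 h
    exact ((hrest _).1 h').2.2.2.1 a rfl
  have hbk := norm_le Fk hmk (insert θ (Fl.img ∪ rest)) (by
      intro χ hχ
      rcases Finset.mem_insert.1 hχ with rfl | hχ
      · exact hk.mem
      · rcases Finset.mem_union.1 hχ with hχ | hχ
        · obtain ⟨a, rfl⟩ := Fl.mem_img.1 hχ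
          exact Fl.μ_mem_oth Fk hd' hml hmk a
        · exact hrk hχ) (by
      simp only [Finset.mem_insert, Finset.mem_union, not_or]
      exact ⟨Ne.symm hθ1, one_notMem_img, fun h => ((hrest _).1 h).1 rfl⟩)
  have hbl := norm_le Fl hml (insert θ (Fk.img ∪ rest)) (by
      intro χ hχ
      rcases Finset.mem_insert.1 hχ with rfl | hχ
      · exact hl.mem
      · rcases Finset.mem_union.1 hχ with hχ | hχ
        · obtain ⟨a, rfl⟩ := Fk.mem_img.1 hχ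
          exact Fk.μ_mem_oth Fl hd hmk hml a
        · exact hrl hχ) (by
      simp only [Finset.mem_insert, Finset.mem_union, not_or]
      exact ⟨Ne.symm hθ1, one_notMem_img, fun h => ((hrest _).1 h).1 rfl⟩)
  have hsq : (-F₁.c θ) ^ 2 = 1 := by rw [neg_sq]; exact hθc
  have hek : ∑ χ ∈ insert θ (Fl.img ∪ rest), Fk.c χ ^ 2 =
      1 + (ml : ℤ) * Fk.c (Fl.μ l) ^ 2 + ∑ χ ∈ rest, Fk.c χ ^ 2 := by
    rw [Finset.sum_insert (by
      simp only [Finset.mem_union, not_or]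
      exact ⟨fun h => by obtain ⟨a, ha⟩ := Fl.mem_img.1 h; exact hl1 a ha, hθr⟩),
      Finset.sum_union hdk, Fl.sum_img, Finset.sum_congr rfl fun a _ =>
        show Fk.c (Fl.μ a) ^ 2 = Fk.c (Fl.μ l) ^ 2 by rw [Fl.c_const Fk hd' hml hmk a l],
      Finset.sum_const, Finset.card_univ, Fintype.card_fin, nsmul_eq_mul, hθk, hsq, add_assoc]
  have hel : ∑ χ ∈ insert θ (Fk.img ∪ rest), Fl.c χ ^ 2 =
      1 + (mk : ℤ) * Fl.c (Fk.μ j) ^ 2 + ∑ χ ∈ rest, Fl.c χ ^ 2 := by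
    rw [Finset.sum_insert (by
      simp only [Finset.mem_union, not_or]
      exact ⟨fun h => by obtain ⟨a, ha⟩ := Fk.mem_img.1 h; exact hk1 a ha, hθr⟩),
      Finset.sum_union hdl, Fk.sum_img, Finset.sum_congr rfl fun a _ =>
        show Fl.c (Fk.μ a) ^ 2 = Fl.c (Fk.μ j) ^ 2 by rw [Fk.c_const Fl hd hmk hml a j],
      Finset.sum_const, Finset.card_univ, Fintype.card_fin, nsmul_eq_mul, hθl, hsq, add_assoc]
  rw [hek] at hbk
  rw [hel] at hbl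
  -- orthogonality
  have hc := cross_four Fk Fl hd hmk hml j l
  have hd1 : Disjoint F₁.img rest := Finset.disjoint_left.2 fun χ h h' => by
    obtain ⟨a, rfl⟩ := F₁.mem_img.1 h
    exact ((hrest _).1 h').2.2.1 a rfl
  have hE : (Fk.oth.filter fun χ => χ ∈ Fl.oth).erase (one' G) = insert θ (F₁.img ∪ rest) := by
    ext χ
    simp only [Finset.mem_erase, Finset.mem_filter, Finset.mem_insert, Finset.mem_union, Fk.mem_oth,
      Fl.mem_oth, F₁.mem_img, hrest]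
    constructor
    · rintro ⟨h1, h2, h3⟩
      by_cases he : χ = θ
      · exact Or.inl he
      · by_cases h4 : ∃ a, F₁.μ a = χ
        · exact Or.inr (Or.inl h4)
        · exact Or.inr (Or.inr ⟨h1, he, fun a ha => h4 ⟨a, ha⟩, h2, h3⟩)
    · rintro (rfl | ⟨a, rfl⟩ | ⟨h1, -, -, h2, h3⟩)
      · exact ⟨hθ1, hk1, hl1⟩
      · exact ⟨F₁.μ_ne a, fun b => fun e => F₁.μ_disjoint Fk hk.disj hm₁ hmk a b e.symm,
          fun b => fun e => F₁.μ_disjoint Fl hl.disj hm₁ hml a b e.symm⟩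
      · exact ⟨h1, h2, h3⟩
  rw [hE, Finset.sum_insert (by
      simp only [Finset.mem_union, not_or]
      exact ⟨fun h => by obtain ⟨a, ha⟩ := F₁.mem_img.1 h; exact (F₁.mem_oth.1 hθ) a ha, hθr⟩),
    Finset.sum_union hd1, F₁.sum_img, Finset.sum_eq_zero (fun a _ => by rw [hzk a, zero_mul]),
    zero_add, hθk, hθl] at hc
  have hI : 2 + (∑ χ ∈ rest, Fk.c χ * Fl.c χ) + Fk.sig * Fl.c (Fk.μ j) +
      Fl.sig * Fk.c (Fl.μ l) = 0 := by linear_combination hc - hθc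
  set P := ∑ χ ∈ rest, Fk.c χ ^ 2 with hP
  set P' := ∑ χ ∈ rest, Fl.c χ ^ 2 with hP'
  set I := ∑ χ ∈ rest, Fk.c χ * Fl.c χ with hIdef
  have hP0 : 0 ≤ P := Finset.sum_nonneg fun χ _ => sq_nonneg _
  have hP'0 : 0 ≤ P' := Finset.sum_nonneg fun χ _ => sq_nonneg _
  have hk' : (2 : ℤ) ≤ mk := by exact_mod_cast hmk
  have hl' : (2 : ℤ) ≤ ml := by exact_mod_cast hml
  -- a non-zero mutual constant is impossible
  have hI0 : ∀ (a b : Cfsg.IrrCharacter G → ℤ), ∑ χ ∈ rest, a χ ^ 2 = 0 →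
      ∑ χ ∈ rest, a χ * b χ = 0 := fun a b h => Finset.sum_eq_zero fun χ hχ => by
    rw [pow_eq_zero_iff two_ne_zero |>.1
      ((Finset.sum_eq_zero_iff_of_nonneg fun χ _ => sq_nonneg _).1 h χ hχ), zero_mul]
  have hyk : Fk.c (Fl.μ l) = 0 := by
    by_contra hy
    have hy1 : 1 ≤ Fk.c (Fl.μ l) ^ 2 := by
      have : 0 < Fk.c (Fl.μ l) ^ 2 := by positivity
      linarith
    have hml2 : ml = 2 := by
      have : (ml : ℤ) ≤ 2 := by nlinarith [hbk.1]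
      omega
    have hmk3 : (3 : ℤ) ≤ mk := by
      rcases hne with h | h
      · exact_mod_cast (show 3 ≤ mk by omega)
      · exact absurd hml2 h
    have hyl : Fl.c (Fk.μ j) = 0 := by
      by_contra hy'
      have : 0 < Fl.c (Fk.μ j) ^ 2 := by positivity
      nlinarith [hbl.1]
    have hP2 : P = 0 := by nlinarith [hbk.1]
    rw [hIdef, hI0 _ _ hP2, hyl, mul_zero, add_zero, add_zero] at hI
    have hy2 : Fk.c (Fl.μ l) = 1 ∨ Fk.c (Fl.μ l) = -1 := by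
      have : Fk.c (Fl.μ l) ^ 2 = 1 := by nlinarith [hbk.1]
      exact sq_eq_one_iff.1 this
    rw [Fam.sig, show (ml : ℤ) = 2 by omega] at hI
    rcases hy2 with h | h <;> rw [h] at hI <;> rcases Fl.hε with h' | h' <;> rw [h'] at hI <;>
      push_cast at hI <;> omega
  have hyl : Fl.c (Fk.μ j) = 0 := by
    by_contra hy
    have hy1 : 1 ≤ Fl.c (Fk.μ j) ^ 2 := by
      have : 0 < Fl.c (Fk.μ j) ^ 2 := by positivity
      linarith
    have hmk2 : mk = 2 := by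
      have : (mk : ℤ) ≤ 2 := by nlinarith [hbl.1]
      omega
    have hP2 : P' = 0 := by nlinarith [hbl.1]
    have : I = 0 := (Finset.sum_congr rfl fun χ _ => mul_comm _ _).trans (hI0 _ Fk.c hP2)
    rw [this, hyk, mul_zero, add_zero, add_zero] at hI
    have hy2 : Fl.c (Fk.μ j) = 1 ∨ Fl.c (Fk.μ j) = -1 := by
      have : Fl.c (Fk.μ j) ^ 2 = 1 := by nlinarith [hbl.1]
      exact sq_eq_one_iff.1 this
    rw [Fam.sig, show (mk : ℤ) = 2 by omega] at hI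
    rcases hy2 with h | h <;> rw [h] at hI <;> rcases Fk.hε with h' | h' <;> rw [h'] at hI <;>
      push_cast at hI <;> omega
  rw [hyk, hyl, mul_zero, mul_zero, add_zero, add_zero] at hI
  rw [hyk] at hbk
  rw [hyl] at hbl
  simp only [zero_pow two_ne_zero, mul_zero, add_zero] at hbk hbl
  have hS : 0 ≤ ∑ χ ∈ rest, (Fk.c χ + Fl.c χ) ^ 2 := Finset.sum_nonneg fun χ _ => sq_nonneg _
  have hSe : ∑ χ ∈ rest, (Fk.c χ + Fl.c χ) ^ 2 = P + 2 * I + P' := by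
    rw [hP, hP', hIdef, Finset.mul_sum, ← Finset.sum_add_distrib, ← Finset.sum_add_distrib]
    exact Finset.sum_congr rfl fun χ _ => by ring
  have hPe : P = 2 := by linarith [hbk.1, hbl.1]
  have hP'e : P' = 2 := by linarith [hbk.1, hbl.1]
  have hneg : ∀ χ ∈ rest, Fl.c χ = -Fk.c χ := fun χ hχ => by
    have := pow_eq_zero_iff two_ne_zero |>.1
      ((Finset.sum_eq_zero_iff_of_nonneg fun χ _ => sq_nonneg _).1
        (by rw [hSe]; linarith : ∑ χ ∈ rest, (Fk.c χ + Fl.c χ) ^ 2 = 0) χ hχ)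
    linarith
  -- two units
  let U := rest.filter fun χ => Fk.c χ ≠ 0
  have hU : P = ∑ χ ∈ U, Fk.c χ ^ 2 := by
    rw [hP, eq_comm]
    refine Finset.sum_subset (Finset.filter_subset _ _) fun χ hχ hn => ?_
    have : Fk.c χ = 0 := by
      by_contra h
      exact hn (Finset.mem_filter.2 ⟨hχ, h⟩)
    rw [this]; ring
  have hU1 : ∀ χ ∈ U, Fk.c χ ^ 2 = 1 := by
    intro χ hχ
    have h1 : 0 < Fk.c χ ^ 2 := by
      have := (Finset.mem_filter.1 hχ).2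
      positivity
    have h2 := Finset.single_le_sum (fun a _ => sq_nonneg (Fk.c a)) hχ
    rw [← hU, hPe] at h2
    have h3 : Fk.c χ ≤ 1 := by nlinarith
    have h4 : -1 ≤ Fk.c χ := by nlinarith
    have h5 := (Finset.mem_filter.1 hχ).2
    rcases (show Fk.c χ = 1 ∨ Fk.c χ = -1 by omega) with h | h <;> rw [h] <;> norm_num
  rw [Finset.sum_congr rfl hU1, Finset.sum_const, nsmul_eq_mul, mul_one, hPe] at hU
  obtain ⟨ψ, ψ', hne', hUe⟩ := Finset.card_eq_two.1 (show U.card = 2 by exact_mod_cast hU.symm)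
  have hψ := (hrest ψ).1 (Finset.mem_filter.1 (show ψ ∈ U by simp [hUe])).1
  have hψ' := (hrest ψ').1 (Finset.mem_filter.1 (show ψ' ∈ U by simp [hUe])).1
  refine ⟨ψ, ψ', hne', hψ.1, hψ'.1, hψ.2.1, hψ'.2.1, fun a => ⟨hψ.2.2.1 a, hψ'.2.2.1 a⟩,
    fun a => ⟨hψ.2.2.2.1 a, hψ'.2.2.2.1 a⟩, fun a => ⟨hψ.2.2.2.2 a, hψ'.2.2.2.2 a⟩,
    (hbk.2 (by linarith)).1, (hbl.2 (by linarith)).1,
    fun a => (Fk.c_const Fl hd hmk hml a j).trans hyl,
    fun a => (Fl.c_const Fk hd' hml hmk a l).trans hyk, ?_⟩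
  intro χ h1 h2 h3 h4 h5 h6 h7
  have hmem := (hrest χ).2 ⟨h1, h2, h5, h6, h7⟩
  have hz : Fk.c χ = 0 := by
    by_contra h
    have hχU : χ ∈ U := Finset.mem_filter.2 ⟨hmem, h⟩
    rw [hUe, Finset.mem_insert, Finset.mem_singleton] at hχU
    exact hχU.elim h3 h4
  exact ⟨hz, by rw [hneg χ hmem, hz, neg_zero]⟩

end CfsgLib.InvChar.SelfCent
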