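import Cfsg.Agent.Lib.InvChar.SelfCent.Pairing
import Cfsg.Agent.Lib.Char.Linear

/-!
# The system of type `(2, 4, 4)`: basic consequences of the hypotheses
-/

set_option autoImplicit false
set_option linter.unusedSectionVars false

namespace CfsgLib.InvChar.SelfCent

open CfsgLib.Char CfsgLib.Invol

universe u

variable {G : Type u} [Group G] [Fintype G]

/-- The hypotheses. -/
structure Hyp (A₁ A₂ A₃ : Subgroup G) : Prop where
  noncomm : ∃ a b : G, a * b ≠ b * a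
  sc₁ : IsSC A₁
  sc₂ : IsSC A₂
  sc₃ : IsSC A₃
  nc₁₂ : ∀ g : G, A₁.map (MulAut.conj g).toMonoidHom ≠ A₂
  nc₁₃ : ∀ g : G, A₁.map (MulAut.conj g).toMonoidHom ≠ A₃
  nc₂₃ : ∀ g : G, A₂.map (MulAut.conj g).toMonoidHom ≠ A₃
  idx₁ : A₁.relIndex (Subgroup.normalizer (A₁ : Set G)) = 2
  idx₂ : A₂.relIndex (Subgroup.normalizer (A₂ : Set G)) = 4
  idx₃ : A₃.relIndex (Subgroup.normalizer (A₃ : Set G)) = 4
  ge₁ : 5 ≤ Nat.card ↥A₁
  ge₂ : 5 < Nat.card ↥A₂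
  ge₃ : 5 < Nat.card ↥A₃
  ord : Nat.card G ≤ 3 * Nat.card ↥A₁ ^ 2 * Nat.card ↥A₂ ^ 2 * Nat.card ↥A₃ ^ 2

namespace Hyp

variable {A₁ A₂ A₃ : Subgroup G} (H : Hyp A₁ A₂ A₃)
include H

theorem d₁₂ : ∀ y, Meets A₁ y → Meets A₂ y → False := fun _ h h' =>
  H.sc₁.not_meets_both H.sc₂ H.nc₁₂ h h'

theorem d₁₃ : ∀ y, Meets A₁ y → Meets A₃ y → False := fun _ h h' =>
  H.sc₁.not_meets_both H.sc₃ H.nc₁₃ h h'

theorem d₂₃ : ∀ y, Meets A₂ y → Meets A₃ y → False := fun _ h h' =>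
  H.sc₂.not_meets_both H.sc₃ H.nc₂₃ h h'

theorem cop₁₂ : (Nat.card ↥A₁).Coprime (Nat.card ↥A₂) := H.sc₁.coprime H.sc₂ H.nc₁₂
theorem cop₁₃ : (Nat.card ↥A₁).Coprime (Nat.card ↥A₃) := H.sc₁.coprime H.sc₃ H.nc₁₃
theorem cop₂₃ : (Nat.card ↥A₂).Coprime (Nat.card ↥A₃) := H.sc₂.coprime H.sc₃ H.nc₂₃

theorem mod₁ : Nat.card ↥A₁ % 2 = 1 := H.sc₁.odd_card (by rw [H.idx₁])

theorem mod₂ : Nat.card ↥A₂ % 4 = 1 ∧ 9 ≤ Nat.card ↥A₂ := by
  have h := H.sc₂.relIndex_dvd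
  rw [H.idx₂] at h
  have := H.ge₂
  omega

theorem mod₃ : Nat.card ↥A₃ % 4 = 1 ∧ 9 ≤ Nat.card ↥A₃ := by
  have h := H.sc₃.relIndex_dvd
  rw [H.idx₃] at h
  have := H.ge₃
  omega

theorem fam₁ : fam A₁ = (Nat.card ↥A₁ - 1) / 2 := by rw [fam, H.idx₁]
theorem fam₂ : fam A₂ = (Nat.card ↥A₂ - 1) / 4 := by rw [fam, H.idx₂]
theorem fam₃ : fam A₃ = (Nat.card ↥A₃ - 1) / 4 := by rw [fam, H.idx₃]

theorem fam₁_two : 2 ≤ fam A₁ := by
  rw [H.fam₁]; have := H.ge₁; omega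

theorem fam₂_two : 2 ≤ fam A₂ := by
  rw [H.fam₂]; have := H.mod₂; omega

theorem fam₃_two : 2 ≤ fam A₃ := by
  rw [H.fam₃]; have := H.mod₃; omega

theorem fam₁_mul : fam A₁ * 2 = Nat.card ↥A₁ - 1 := by
  rw [H.fam₁]; have := H.mod₁; omega

theorem fam₂_mul : fam A₂ * 4 = Nat.card ↥A₂ - 1 := by
  rw [H.fam₂]; have := H.mod₂; omega

theorem fam₃_mul : fam A₃ * 4 = Nat.card ↥A₃ - 1 := by
  rw [H.fam₃]; have := H.mod₃; omega

theorem system : System ![A₁, A₂, A₃] := by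
  have := H.ge₁
  have := H.ge₂
  have := H.ge₃
  refine ⟨fun i => ?_, fun i j y h h' => ?_, fun i => ?_, fun i => ?_, fun i => ?_⟩
  · fin_cases i <;> simp [H.sc₁, H.sc₂, H.sc₃]
  · fin_cases i <;> fin_cases j <;> simp at h h' ⊢
    · exact H.d₁₂ y h h'
    · exact H.d₁₃ y h h'
    · exact H.d₁₂ y h' h
    · exact H.d₂₃ y h h'
    · exact H.d₁₃ y h' h
    · exact H.d₂₃ y h' h
  · fin_cases i <;> simp [H.idx₁, H.idx₂, H.idx₃]
  · fin_cases i <;> simp <;> omega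
  · fin_cases i <;> simp
    · rw [H.idx₁, H.fam₁_mul]
    · rw [H.idx₂, H.fam₂_mul]
    · rw [H.idx₃, H.fam₃_mul]

theorem exists_decomp : ∃ h : ℕ,
    Nat.card G = Nat.card ↥A₁ * Nat.card ↥A₂ * Nat.card ↥A₃ * h ∧
    h ≤ 3 * (Nat.card ↥A₁ * Nat.card ↥A₂ * Nat.card ↥A₃) ∧
    h.Coprime (Nat.card ↥A₁ * Nat.card ↥A₂ * Nat.card ↥A₃) := by
  obtain ⟨h, hh⟩ := Nat.Coprime.mul_dvd_of_dvd_of_dvd (H.cop₁₃.mul_left H.cop₂₃)
    (Nat.Coprime.mul_dvd_of_dvd_of_dvd H.cop₁₂ (Subgroup.card_subgroup_dvd_card A₁)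
      (Subgroup.card_subgroup_dvd_card A₂)) (Subgroup.card_subgroup_dvd_card A₃)
  have hpos : 0 < Nat.card ↥A₁ * Nat.card ↥A₂ * Nat.card ↥A₃ :=
    Nat.mul_pos (Nat.mul_pos Nat.card_pos Nat.card_pos) Nat.card_pos
  refine ⟨h, hh, Nat.le_of_mul_le_mul_left ?_ hpos, ?_⟩
  · calc Nat.card ↥A₁ * Nat.card ↥A₂ * Nat.card ↥A₃ * h = Nat.card G := hh.symm
      _ ≤ _ := H.ord
      _ = _ := by ring
  · have key : ∀ A : Subgroup G, IsSC A →
        ∀ r, Nat.card G = Nat.card ↥A * (r * h) → h.Coprime (Nat.card ↥A) := by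
      intro A hA r hr
      refine Nat.coprime_of_dvd fun p hp h1 h2 => ?_
      haveI : Fact p.Prime := ⟨hp⟩
      refine hA.not_dvd_index h2 ?_
      have he : Nat.card ↥A * A.index = Nat.card ↥A * (r * h) := by
        rw [← hr, Subgroup.card_mul_index]
      rw [Nat.eq_of_mul_eq_mul_left Nat.card_pos he]
      exact dvd_mul_of_dvd_right h1 r
    refine Nat.Coprime.mul_right (Nat.Coprime.mul_right
      (key A₁ H.sc₁ (Nat.card ↥A₂ * Nat.card ↥A₃) (by rw [hh]; ring))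
      (key A₂ H.sc₂ (Nat.card ↥A₁ * Nat.card ↥A₃) (by rw [hh]; ring)))
      (key A₃ H.sc₃ (Nat.card ↥A₁ * Nat.card ↥A₂) (by rw [hh]; ring))

theorem two_dvd : 2 ∣ Nat.card G := by
  obtain ⟨u, hu, -⟩ := H.sc₁.exists_invol (by rw [H.idx₁])
  have := orderOf_dvd_natCard u
  rwa [hu] at this

theorem not_meets_invol {z : G} (hz : orderOf z = 2) :
    ¬ Meets A₁ z ∧ ¬ Meets A₂ z ∧ ¬ Meets A₃ z := by
  have h1 := H.mod₁
  have h2 := H.mod₂
  have h3 := H.mod₃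
  refine ⟨fun h => ?_, fun h => ?_, fun h => ?_⟩ <;>
  · have := h.orderOf_dvd
    rw [hz] at this
    omega

/-- The centraliser of an involution has order prime to `n₁ n₂ n₃`. -/
theorem centralizer_coprime {z : G} (hz : orderOf z = 2) :
    (Nat.card ↥(Subgroup.centralizer ({z} : Set G))).Coprime
      (Nat.card ↥A₁ * Nat.card ↥A₂ * Nat.card ↥A₃) := by
  have key : ∀ A : Subgroup G, IsSC A → ¬ Meets A z →
      (Nat.card ↥(Subgroup.centralizer ({z} : Set G))).Coprime (Nat.card ↥A) := by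
    intro A hA hzA
    refine Nat.coprime_of_dvd fun p hp h1 h2 => ?_
    haveI : Fact p.Prime := ⟨hp⟩
    obtain ⟨y, hy⟩ := exists_prime_orderOf_dvd_card'
      (G := ↥(Subgroup.centralizer ({z} : Set G))) p h1
    obtain ⟨a, ha, ha1, hc⟩ := hA.meets_of_prime h2 (y := (y : G)) (by rw [Subgroup.orderOf_coe, hy])
    obtain ⟨c, hc⟩ := isConj_iff.1 hc
    have hcomm := Subgroup.mem_centralizer_singleton_iff.1 y.2
    have hzmem : c⁻¹ * z * c ∈ A := hA.mem_of_commute ha ha1 (by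
      rw [← hc] at hcomm
      calc c⁻¹ * z * c * a = c⁻¹ * (z * (c * a * c⁻¹)) * c := by group
        _ = c⁻¹ * (c * a * c⁻¹ * z) * c := by rw [hcomm]
        _ = a * (c⁻¹ * z * c) := by group)
    exact hzA ⟨_, hzmem, fun e => invol_ne_one hz (by
        rw [← show c * (c⁻¹ * z * c) * c⁻¹ = z by group, e]; group),
      isConj_iff.2 ⟨c, by group⟩⟩
  obtain ⟨a, b, c⟩ := H.not_meets_invol hz
  exact Nat.Coprime.mul_right (Nat.Coprime.mul_right (key A₁ H.sc₁ a) (key A₂ H.sc₂ b))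
    (key A₃ H.sc₃ c)

end Hyp

/-- A non-trivial irreducible character of a simple group is faithful. -/
theorem faithful [IsSimpleGroup G] (χ : Cfsg.IrrCharacter G) (hχ : χ ≠ one' G) {g : G}
    (h : (χ : G → ℂ) g = (χ : G → ℂ) 1) : g = 1 := by
  obtain ⟨χf, hirr⟩ := χ
  obtain ⟨n, ρ, hρ, rfl⟩ := hirr
  have hg := (mem_ker_iff_char ρ g).2 h
  rcases (MonoidHom.normal_ker ρ).eq_bot_or_eq_top with hb | ht
  · rwa [hb, Subgroup.mem_bot] at hg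
  · exfalso
    have hc : ∀ y : G, ρ.character y = ρ.character 1 := fun y =>
      (mem_ker_iff_char ρ y).1 (by rw [ht]; trivial)
    have hne : Cfsg.classInner ρ.character (fun _ : G => (1 : ℂ)) = 0 :=
      irr_classInner_ne ⟨n, ρ, hρ, rfl⟩ isIrrCharacter_one fun e => hχ (Subtype.ext e)
    rw [classInner_def] at hne
    simp only [hc, map_one, mul_one, Finset.sum_const, Finset.card_univ, nsmul_eq_mul,
      ← Nat.card_eq_fintype_card] at hne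
    rw [← mul_assoc, inv_mul_cancel₀ natCard_ne_zero, one_mul] at hne
    exact irr_apply_one_ne_zero ⟨n, ρ, hρ, rfl⟩ hne

end CfsgLib.InvChar.SelfCent
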