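import Cfsg.Agent.Lib.InvChar.SelfCent.FamLemmas

/-!
# The skeleton of the character table for a system of type `(2, 4, 4)`
-/

set_option autoImplicit false
set_option linter.unusedSectionVars false

namespace CfsgLib.InvChar.SelfCent

open CfsgLib.Char

universe u

variable {G : Type u} [Group G] [Fintype G] [Fintype (Cfsg.IrrCharacter G)]

/-- For `[N(A) : A] = 2` there is exactly one further constituent. -/
theorem theta_exists {A : Subgroup G} {m : ℕ} (F : Fam A 2 m) (hm : 2 ≤ m) :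
    ∃ θ ∈ F.oth, θ ≠ one' G ∧ F.c θ ^ 2 = 1 ∧
      (∀ χ ∈ F.oth, χ ≠ one' G → χ ≠ θ → F.c χ = 0) ∧ F.sig ^ 2 = 1 := by
  classical
  have hm0 : 0 < m := by omega
  have hR := F.norm_nontriv hm0
  have hcorr := F.corr_nonneg hm
  have hnn : 0 ≤ ∑ χ ∈ F.oth.erase (one' G), F.c χ ^ 2 := Finset.sum_nonneg fun χ _ => sq_nonneg _
  by_cases h0 : (m : ℤ) * F.c0 ^ 2 - 2 * F.ε * F.c0 = 0
  · rw [h0] at hR
    push_cast at hR
    norm_num at hR
    obtain ⟨θ, hθ, hθne⟩ := Finset.exists_ne_zero_of_sum_ne_zero (hR.trans_ne one_ne_zero)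
    have hsplit := Finset.add_sum_erase _ (fun χ => F.c χ ^ 2) hθ
    have h1 : 0 < F.c θ ^ 2 := lt_of_le_of_ne (sq_nonneg _) (Ne.symm hθne)
    have h2 : 0 ≤ ∑ χ ∈ (F.oth.erase (one' G)).erase θ, F.c χ ^ 2 :=
      Finset.sum_nonneg fun χ _ => sq_nonneg _
    refine ⟨θ, Finset.mem_of_mem_erase hθ, (Finset.mem_erase.1 hθ).1, by linarith, ?_,
      F.sig_sq_of_corr hm h0⟩
    intro χ hχ hχ1 hχθ
    have h3 : ∑ χ ∈ (F.oth.erase (one' G)).erase θ, F.c χ ^ 2 = 0 := by linarith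
    exact pow_eq_zero_iff two_ne_zero |>.1
      ((Finset.sum_eq_zero_iff_of_nonneg fun χ _ => sq_nonneg _).1 h3 χ
        (Finset.mem_erase.2 ⟨hχθ, Finset.mem_erase.2 ⟨hχ1, hχ⟩⟩))
  · exfalso
    push_cast at hR
    norm_num at hR
    have h1 : (m : ℤ) * F.c0 ^ 2 - 2 * F.ε * F.c0 = 1 := by omega
    have hm' : (2 : ℤ) ≤ m := by exact_mod_cast hm
    have hc : F.c0 = F.ε := by
      rcases F.hε with h | h <;> rw [h] at h1 ⊢ <;>
        rcases lt_trichotomy F.c0 0 with hl | hl | hl <;>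
        first
        | (rw [hl] at h1; norm_num at h1)
        | nlinarith [mul_nonneg (show (0 : ℤ) ≤ (m : ℤ) - 2 by linarith) (sq_nonneg F.c0)]
    have hm3 : (m : ℤ) = 3 := by
      rw [hc] at h1
      nlinarith [F.eps_sq]
    have hz : ∀ χ ∈ F.oth, χ ∉ ({one' G} : Finset _) → F.c χ = 0 := by
      intro χ hχ hne
      rw [Finset.mem_singleton] at hne
      exact pow_eq_zero_iff two_ne_zero |>.1
        ((Finset.sum_eq_zero_iff_of_nonneg fun χ _ => sq_nonneg _).1 (hR.trans (by linarith)) χ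
          (Finset.mem_erase.2 ⟨hne, hχ⟩))
    have i : Fin m := ⟨0, hm0⟩
    have hdeg := F.sum_v_support i dg (dg (F.μ i)) (fun j => F.dg_μ j i) {one' G}
      (Finset.singleton_subset_iff.2 F.one_mem_oth) hz
    simp only [Int.cast_id] at hdeg
    rw [F.degree_eq i, Finset.sum_singleton, F.c_one] at hdeg
    have hd1 : dg (one' G) = 1 := by
      apply Int.cast_injective (α := ℂ)
      rw [dg_cast]; simp [one']
    rw [hd1, Fam.sig, hc, hm3] at hdeg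
    rcases F.hε with h | h <;> rw [h] at hdeg <;> omega

variable {A₁ Ak Al : Subgroup G} {m₁ mk ml : ℕ}

/-- Orthogonality of `A₁` with a second subgroup. -/
theorem side (F₁ : Fam A₁ 2 m₁) (Fk : Fam Ak 4 mk) (hd : ∀ y, Meets A₁ y → Meets Ak y → False)
    (hm₁ : 2 ≤ m₁) (hmk : 2 ≤ mk) {θ : Cfsg.IrrCharacter G} (hθ : θ ∈ F₁.oth)
    (hθ1 : θ ≠ one' G) (hθc : F₁.c θ ^ 2 = 1)
    (hsupp : ∀ χ ∈ F₁.oth, χ ≠ one' G → χ ≠ θ → F₁.c χ = 0) (hsig : F₁.sig ^ 2 = 1) (i : Fin m₁) :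
    θ ∈ Fk.oth ∧ (∀ j, F₁.c (Fk.μ j) = 0) ∧
    ((Fk.c θ = -F₁.c θ ∧ Fk.c (F₁.μ i) = 0) ∨ (Fk.c θ = 0 ∧ Fk.c (F₁.μ i) = -F₁.sig)) := by
  classical
  have hd' : ∀ y, Meets Ak y → Meets A₁ y → False := fun y h h' => hd y h' h
  haveI : Nontrivial (Fin mk) := Fin.nontrivial_iff_two_le.2 hmk
  have hne : ∀ j, Fk.μ j ≠ θ := by
    intro j hj
    obtain ⟨j', hj'⟩ := exists_ne j
    have h1 := Fk.c_const F₁ hd' hmk hm₁ j' j
    rw [hj, hsupp _ (Fk.μ_mem_oth F₁ hd' hmk hm₁ j') (Fk.μ_ne j')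
      fun e => hj' (Fk.μ_inj (e.trans hj.symm))] at h1
    rw [← h1] at hθc
    norm_num at hθc
  have hzero : ∀ j, F₁.c (Fk.μ j) = 0 := fun j =>
    hsupp _ (Fk.μ_mem_oth F₁ hd' hmk hm₁ j) (Fk.μ_ne j) (hne j)
  have hθk : θ ∈ Fk.oth := Fk.mem_oth.2 hne
  refine ⟨hθk, hzero, ?_⟩
  have j : Fin mk := ⟨0, by omega⟩
  have hvμ : ∀ i', Fk.v j (F₁.μ i') = Fk.c (F₁.μ i) := by
    intro i'
    rw [Fam.v, if_neg fun e => F₁.μ_disjoint Fk hd hm₁ hmk i' j e, sub_zero,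
      F₁.c_const Fk hd hm₁ hmk i' i]
  have hvone : Fk.v j (one' G) = 1 := by
    rw [Fam.v, if_neg fun e => Fk.μ_ne j e.symm, sub_zero, Fk.c_one]
  have hvθ : Fk.v j θ = Fk.c θ := by rw [Fam.v, if_neg fun e => hne j e.symm, sub_zero]
  have h := F₁.sum_v_support i (fun χ => Fk.v j χ) (Fk.c (F₁.μ i)) hvμ {one' G, θ}
    (Finset.insert_subset F₁.one_mem_oth (Finset.singleton_subset_iff.2 hθ)) (fun χ hχ hn => by
      simp only [Finset.mem_insert, Finset.mem_singleton, not_or] at hn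
      exact hsupp χ hχ hn.1 hn.2)
  simp only [Int.cast_id] at h
  rw [F₁.cross Fk hd i j, Finset.sum_pair (Ne.symm hθ1), F₁.c_one, hvone, hvθ] at h
  -- the bound from the norm
  have hR := Fk.norm_nontriv (show 0 < mk by omega)
  have hcorr := Fk.corr_nonneg hmk
  have hsub : insert θ F₁.img ⊆ Fk.oth.erase (one' G) := by
    intro χ hχ
    rcases Finset.mem_insert.1 hχ with rfl | hχ
    · exact Finset.mem_erase.2 ⟨hθ1, hθk⟩
    · obtain ⟨i', rfl⟩ := F₁.mem_img.1 hχ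
      exact Finset.mem_erase.2 ⟨F₁.μ_ne i', F₁.μ_mem_oth Fk hd hm₁ hmk i'⟩
  have hle := Finset.sum_le_sum_of_subset_of_nonneg hsub (f := fun χ => Fk.c χ ^ 2)
    fun χ _ _ => sq_nonneg _
  rw [Finset.sum_insert (fun hm => by
      obtain ⟨i', hi'⟩ := F₁.mem_img.1 hm
      exact (F₁.mem_oth.1 hθ) i' hi'), F₁.sum_img,
    Finset.sum_congr rfl fun i' _ => show Fk.c (F₁.μ i') ^ 2 = Fk.c (F₁.μ i) ^ 2 by
      rw [F₁.c_const Fk hd hm₁ hmk i' i], Finset.sum_const, Finset.card_univ, Fintype.card_fin,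
    nsmul_eq_mul, hR] at hle
  push_cast at hle
  have hm' : (2 : ℤ) ≤ m₁ := by exact_mod_cast hm₁
  set x := Fk.c (F₁.μ i) with hx
  set y := Fk.c θ with hy
  have hy2 : y ^ 2 ≤ 3 := by nlinarith [sq_nonneg x]
  have hx2 : x ^ 2 ≤ 1 := by nlinarith [sq_nonneg y]
  have hy1 : -1 ≤ y ∧ y ≤ 1 := ⟨by nlinarith, by nlinarith⟩
  have hx1 : -1 ≤ x ∧ x ≤ 1 := ⟨by nlinarith, by nlinarith⟩
  rcases sq_eq_one_iff.1 hθc with hc | hc <;> rcases sq_eq_one_iff.1 hsig with hs | hs <;>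
    rw [hc, hs] at h ⊢ <;>
    (obtain ⟨hy0, hy1⟩ := hy1; obtain ⟨hx0, hx1⟩ := hx1; interval_cases y <;> omega)

/-- Orthogonality of two subgroups of index four. -/
theorem cross_four (Fk : Fam Ak 4 mk) (Fl : Fam Al 4 ml) (hd : ∀ y, Meets Ak y → Meets Al y → False)
    (hmk : 2 ≤ mk) (hml : 2 ≤ ml) (j : Fin mk) (l : Fin ml) :
    1 + (∑ χ ∈ (Fk.oth.filter fun χ => χ ∈ Fl.oth).erase (one' G), Fk.c χ * Fl.c χ) +
      Fk.sig * Fl.c (Fk.μ j) + Fl.sig * Fk.c (Fl.μ l) = 0 := by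
  classical
  have hd' : ∀ y, Meets Al y → Meets Ak y → False := fun y h h' => hd y h' h
  have hvμ : ∀ j', Fl.v l (Fk.μ j') = Fl.c (Fk.μ j) := by
    intro j'
    rw [Fam.v, if_neg fun e => Fk.μ_disjoint Fl hd hmk hml j' l e, sub_zero,
      Fk.c_const Fl hd hmk hml j' j]
  have h := Fk.sum_v j (fun χ => Fl.v l χ) (Fl.c (Fk.μ j)) hvμ
  simp only [Int.cast_id] at h
  rw [Fk.cross Fl hd j l, ← Finset.sum_filter_add_sum_filter_not Fk.oth (fun χ => χ ∈ Fl.oth)] at h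
  have hset : (Fk.oth.filter fun χ => χ ∉ Fl.oth) = Fl.img := by
    ext χ
    rw [Finset.mem_filter]
    constructor
    · intro hm
      rw [Fl.mem_oth] at hm
      simp only [ne_eq, not_forall, not_not] at hm
      exact Fl.mem_img.2 hm.2
    · intro hm
      obtain ⟨l', rfl⟩ := Fl.mem_img.1 hm
      exact ⟨Fl.μ_mem_oth Fk hd' hml hmk l', fun hh => (Fl.mem_oth.1 hh) l' rfl⟩
  rw [hset, Fl.sum_img, Finset.sum_congr rfl fun l' _ =>
    show Fk.c (Fl.μ l') * Fl.v l (Fl.μ l') = Fk.c (Fl.μ l) * Fl.v l (Fl.μ l') by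
      rw [Fl.c_const Fk hd' hml hmk l' l], ← Finset.mul_sum] at h
  have e1 : ∑ l', Fl.v l (Fl.μ l') = Fl.sig := by
    simp only [Fam.v, Fl.c_μ, Fl.μ_inj.eq_iff, Finset.sum_sub_distrib, Finset.sum_const,
      Finset.card_univ, Fintype.card_fin, nsmul_eq_mul, Finset.sum_ite_eq', Finset.mem_univ, if_true,
      Fam.sig]
  rw [e1, ← Finset.add_sum_erase (Fk.oth.filter fun χ => χ ∈ Fl.oth) _
    (show one' G ∈ _ from Finset.mem_filter.2 ⟨Fk.one_mem_oth, Fl.one_mem_oth⟩)] at h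
  have hcl : ∀ χ ∈ Fl.oth, Fl.v l χ = Fl.c χ := fun χ hχ => by
    rw [Fam.v, if_neg fun e => (Fl.mem_oth.1 hχ) l e.symm, sub_zero]
  rw [Fk.c_one, hcl _ Fl.one_mem_oth, Fl.c_one,
    Finset.sum_congr rfl fun χ hχ => by
      rw [hcl χ (Finset.mem_filter.1 (Finset.mem_of_mem_erase hχ)).2]] at h
  linarith

end CfsgLib.InvChar.SelfCent
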