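import Cfsg.Agent.Lib.InvChar.SelfCent.Theta
import Cfsg.Agent.Lib.InvChar.SelfCent.Arith

/-!
# The character table of a system of type `(2, 4, 4)`
-/

set_option autoImplicit false
set_option linter.unusedSectionVars false
set_option maxHeartbeats 1000000

namespace CfsgLib.InvChar.SelfCent

open CfsgLib.Char CfsgLib.Invol

universe u

variable {G : Type u} [Group G] [Fintype G] [Fintype (Cfsg.IrrCharacter G)]

/-- The numerical situation at an involution `z`. -/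
structure Numbers (A₁ A₂ A₃ : Subgroup G) (z : G) (t α : ℤ) (h C e : ℕ) : Prop where
  card : Nat.card G = Nat.card ↥A₁ * Nat.card ↥A₂ * Nat.card ↥A₃ * h
  bound : h ≤ 3 * (Nat.card ↥A₁ * Nat.card ↥A₂ * Nat.card ↥A₃)
  cop : h.Coprime (Nat.card ↥A₁ * Nat.card ↥A₂ * Nat.card ↥A₃)
  hC : C = Nat.card ↥(Subgroup.centralizer ({z} : Set G))
  hhe : h = e * C
  hodd : e % 2 = 1
  even : 2 ∣ C
  invols : Nat.card {w : G // orderOf w = 2} = Nat.card ↥A₁ * Nat.card ↥A₂ * Nat.card ↥A₃ * e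
  pairs : (fam A₁ + fam A₂ + fam A₃) * C < e * (Nat.card ↥A₁ * Nat.card ↥A₂ * Nat.card ↥A₃)
  t_ne : t ≠ 0
  T_ne : t + 1 ≠ 0
  t_mod : (Nat.card ↥A₁ : ℤ) ∣ t - 1
  alpha : 1 + α ^ 2 + (fam A₁ : ℤ) * (1 + α) ^ 2 ≤ (C : ℤ)
  eqn : (Nat.card ↥A₁ : ℤ) * (C : ℤ) ^ 2 * (t * (t + 1)) = (Nat.card G : ℤ) * (t - α) ^ 2

theorem Hyp.numbers [IsSimpleGroup G] {A₁ A₂ A₃ : Subgroup G} (H : Hyp A₁ A₂ A₃)
    {F : Fam A₁ 2 (fam A₁)} {θ : Cfsg.IrrCharacter G} (T : Theta F θ) :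
    ∃ (z : G) (hz : orderOf z = 2) (h C e : ℕ),
      (∀ w : G, orderOf w = 2 → IsConj z w) ∧
      Numbers A₁ A₂ A₃ z (tdeg F θ) (talpha F θ hz) h C e := by
  obtain ⟨z, hz, -, hzodd⟩ := exists_central H.two_dvd
  obtain ⟨h, hG, hle, hcop⟩ := H.exists_decomp
  have hn1 : 1 < Nat.card ↥A₁ := by have := H.ge₁; omega
  have he1 : 2 ∣ A₁.relIndex (Subgroup.normalizer (A₁ : Set G)) := by rw [H.idx₁]
  obtain ⟨u, hu, hN⟩ := H.sc₁.exists_invol he1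
  have hone : ∀ w : G, orderOf w = 2 → IsConj z w := fun w hw =>
    ((T.one_class H.sc₁ hn1 he1 hu hN hz).symm).trans (T.one_class H.sc₁ hn1 he1 hu hN hw)
  set C := Nat.card ↥(Subgroup.centralizer ({z} : Set G)) with hCdef
  obtain ⟨e, he⟩ : C ∣ h := by
    refine ((H.centralizer_coprime hz).dvd_of_dvd_mul_left ?_)
    rw [← hG]
    exact Subgroup.card_subgroup_dvd_card _
  have hCpos : 0 < C := Nat.card_pos
  set N := Nat.card ↥A₁ * Nat.card ↥A₂ * Nat.card ↥A₃ with hN'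
  have hNpos : 0 < N := Nat.mul_pos (Nat.mul_pos Nat.card_pos Nat.card_pos) Nat.card_pos
  have hq : Nat.card G / C = N * e := by
    rw [hG, he, ← mul_assoc, mul_comm (N * C) e, ← mul_assoc, Nat.mul_div_cancel _ hCpos, mul_comm]
  have hodd : e % 2 = 1 := by
    by_contra h0
    exact hzodd (by rw [hq]; exact dvd_mul_of_dvd_right (Nat.dvd_of_mod_eq_zero (by omega)) N)
  have hinv : Nat.card {w : G // orderOf w = 2} = N * e := by
    have := card_invols hone hz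
    rw [← hCdef] at this
    rw [← hq, ← this, Nat.mul_div_cancel _ hCpos]
  refine ⟨z, hz, h, C, e, hone, hG, hle, hcop, rfl, by rw [he, mul_comm], hodd, ?_, hinv, ?_, T.t_ne,
    T.T_ne ⟨0, by have := T.two_le; omega⟩, T.t_cong,
    T.alpha_bound hz (H.not_meets_invol hz).1, ?_⟩
  · have hmem : z ∈ Subgroup.centralizer ({z} : Set G) :=
      Subgroup.mem_centralizer_singleton_iff.2 rfl
    have := Subgroup.orderOf_dvd_natCard _ hmem
    rwa [hz] at this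
  · have hp := H.system.pairs_bound hz hone
    rw [Fin.sum_univ_three, hinv, hG, he] at hp
    simp only [Matrix.cons_val_zero, Matrix.cons_val_one, Matrix.cons_val] at hp
    set K := fam A₁ + fam A₂ + fam A₃
    have hepos : 0 < e := by omega
    have h1 : (N * e) * (1 + K * C) ≤ (N * e) * (N * e) := by
      calc (N * e) * (1 + K * C) = N * e + K * (N * (C * e)) := by ring
        _ ≤ (N * e) ^ 2 := hp
        _ = _ := sq _
    have h2 := Nat.le_of_mul_le_mul_left h1 (Nat.mul_pos hNpos hepos)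
    rw [mul_comm e N]
    omega
  · exact T.equation H.sc₁ hn1 he1 hz

/-- A degenerate pair of families is impossible. -/
theorem degenerate_false {A₁ A B : Subgroup G} {m₁ : ℕ} {F₁ : Fam A₁ 2 m₁}
    {Fa : Fam A 4 (fam A)} {Fb : Fam B 4 (fam B)} {θ : Cfsg.IrrCharacter G} (T : Theta F₁ θ)
    {i : Fin m₁} (ha : Side F₁ Fa θ i) (hb : Side F₁ Fb θ i)
    (hd : ∀ y, Meets A y → Meets B y → False)
    (hA : Nat.card ↥A % 4 = 1 ∧ 9 ≤ Nat.card ↥A) (hB : Nat.card ↥B % 4 = 1 ∧ 9 ≤ Nat.card ↥B)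
    (hAB : (Nat.card ↥A).Coprime (Nat.card ↥B)) (hA1 : Nat.card ↥A₁ % 2 = 1)
    (hma : fam A * 4 = Nat.card ↥A - 1) (hmb : fam B * 4 = Nat.card ↥B - 1)
    (h0 : Fa.c θ = 0) {z : G} {α : ℤ} {h C e : ℕ}
    (hcard : Nat.card G = Nat.card ↥A₁ * Nat.card ↥A * Nat.card ↥B * h)
    (hbound : h ≤ 3 * (Nat.card ↥A₁ * Nat.card ↥A * Nat.card ↥B))
    (hcop : h.Coprime (Nat.card ↥A₁ * Nat.card ↥A * Nat.card ↥B))
    (hhe : h = e * C) (hodd : e % 2 = 1) (hev : 2 ∣ C)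
    (hK : (m₁ + fam A + fam B) * C < e * (Nat.card ↥A₁ * Nat.card ↥A * Nat.card ↥B))
    (hα : 1 + α ^ 2 + (m₁ : ℤ) * (1 + α) ^ 2 ≤ (C : ℤ))
    (heq : (Nat.card ↥A₁ : ℤ) * (C : ℤ) ^ 2 * (tdeg F₁ θ * (tdeg F₁ θ + 1)) =
      (Nat.card G : ℤ) * (tdeg F₁ θ - α) ^ 2) : False := by
  have hm₁ := T.two_le
  have hma2 : 2 ≤ fam A := by omega
  have hmb2 : 2 ≤ fam B := by omega
  have hcard1 := T.card
  have hsmall := degenerate_small hm₁ hma2 hmb2 hd T.mem T.ne_one T.sq T.sig ha hb h0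
  have h₁ : Nat.card ↥A₁ = 5 ∨ Nat.card ↥A₁ = 7 ∧ Nat.card ↥A = 9 := by
    have : 0 < Nat.card ↥A₁ := Nat.card_pos
    rcases hsmall with h | ⟨h, h'⟩
    · left; omega
    · right; omega
  have hat : (Nat.card ↥A : ℤ) ∣ tdeg F₁ θ := by
    obtain ⟨k, hk⟩ := Fa.dg_cong ha.mem hma
    rw [h0, sub_zero] at hk
    exact ⟨F₁.c θ * k, by unfold tdeg; rw [hk]; ring⟩
  have hbt : (Nat.card ↥B : ℤ) ∣ tdeg F₁ θ * (tdeg F₁ θ + 1) := by
    rcases hb.cases with ⟨hθ, -⟩ | ⟨hθ, -⟩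
    · refine Dvd.dvd.mul_left ?_ _
      obtain ⟨k, hk⟩ := Fb.dg_cong hb.mem hmb
      rw [hθ] at hk
      exact ⟨F₁.c θ * k, by unfold tdeg; linear_combination F₁.c θ * hk - T.sq⟩
    · refine Dvd.dvd.mul_right ?_ _
      obtain ⟨k, hk⟩ := Fb.dg_cong hb.mem hmb
      rw [hθ, sub_zero] at hk
      exact ⟨F₁.c θ * k, by unfold tdeg; rw [hk]; ring⟩
  have hC0 : (C : ℤ) ≠ 0 := by
    intro h
    rw [h] at hα
    nlinarith [sq_nonneg α, sq_nonneg (1 + α), Int.natCast_nonneg m₁]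
  have heq' : (C : ℤ) * (tdeg F₁ θ * (tdeg F₁ θ + 1)) =
      (Nat.card ↥A : ℕ) * (Nat.card ↥B : ℕ) * e * (tdeg F₁ θ - α) ^ 2 := by
    refine mul_left_cancel₀ (mul_ne_zero (show (Nat.card ↥A₁ : ℤ) ≠ 0 by
      exact_mod_cast (Nat.card_pos (α := ↥A₁)).ne') hC0) ?_
    rw [hcard, hhe] at heq
    push_cast at heq
    linear_combination heq
  refine degenerate h₁ hA.1 hA.2 hB.1 hB.2 hAB T.t_cong hat hbt T.t_ne (T.T_ne i) hodd hev
    (hhe ▸ hbound) (hhe ▸ hcop) (le_trans ?_ hα) ?_ heq'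
  · have : (2 : ℤ) ≤ m₁ := by exact_mod_cast hm₁
    nlinarith [sq_nonneg (1 + α)]
  · have e1 : 2 * (Nat.card ↥A₁ - 1) + (Nat.card ↥A - 1) + (Nat.card ↥B - 1) =
        4 * (m₁ + fam A + fam B) := by omega
    rw [e1, mul_assoc 4]
    omega

/-- The outcome: at most `4` further classes, and one equation. -/
theorem Hyp.table [IsSimpleGroup G] {A₁ A₂ A₃ : Subgroup G} (H : Hyp A₁ A₂ A₃) :
    ∃ (z : G) (t : ℤ), orderOf z = 2 ∧ (∀ w : G, orderOf w = 2 → IsConj z w) ∧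
      ¬ 2 ∣ Nat.card G / Nat.card ↥(Subgroup.centralizer ({z} : Set G)) ∧
      Nat.card (Cfsg.IrrCharacter G) ≤ 4 + (fam A₁ + fam A₂ + fam A₃) ∧
      t ≠ 0 ∧ t + 1 ≠ 0 ∧
      ((Nat.card ↥A₂ * Nat.card ↥A₃ : ℕ) : ℤ) ∣ t + 1 ∧
      (Nat.card ↥A₁ : ℤ) * (Nat.card ↥(Subgroup.centralizer ({z} : Set G)) : ℤ) ^ 2 * (t + 1) =
        (Nat.card G : ℤ) * t := by
  classical
  obtain ⟨F₁⟩ := (H.idx₁ ▸ H.sc₁.exists_fam H.fam₁_two : Nonempty (Fam A₁ 2 (fam A₁)))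
  obtain ⟨F₂⟩ := (H.idx₂ ▸ H.sc₂.exists_fam H.fam₂_two : Nonempty (Fam A₂ 4 (fam A₂)))
  obtain ⟨F₃⟩ := (H.idx₃ ▸ H.sc₃.exists_fam H.fam₃_two : Nonempty (Fam A₃ 4 (fam A₃)))
  obtain ⟨θ, hθ, hθ1, hθc, hsupp, hsig⟩ := theta_exists F₁ H.fam₁_two
  have T : Theta F₁ θ := ⟨H.fam₁_two, H.fam₁_mul, hθ, hθ1, hθc, hsupp, hsig⟩
  have i : Fin (fam A₁) := ⟨0, by have := H.fam₁_two; omega⟩
  obtain ⟨hm2, hz2, hcase2⟩ := side F₁ F₂ H.d₁₂ H.fam₁_two H.fam₂_two hθ hθ1 hθc hsupp hsig i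
  obtain ⟨hm3, hz3, hcase3⟩ := side F₁ F₃ H.d₁₃ H.fam₁_two H.fam₃_two hθ hθ1 hθc hsupp hsig i
  have S2 : Side F₁ F₂ θ i := ⟨H.d₁₂, hm2, hz2, hcase2⟩
  have S3 : Side F₁ F₃ θ i := ⟨H.d₁₃, hm3, hz3, hcase3⟩
  obtain ⟨z, hz, h, C, e, hone, Num⟩ := H.numbers T
  have hθ2 : F₂.c θ ≠ 0 := fun h0 =>
    degenerate_false T S2 S3 H.d₂₃ H.mod₂ H.mod₃ H.cop₂₃ H.mod₁ H.fam₂_mul H.fam₃_mul h0 (z := z)
      Num.card Num.bound Num.cop Num.hhe Num.hodd Num.even Num.pairs Num.alpha Num.eqn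
  have hθ3 : F₃.c θ ≠ 0 := fun h0 =>
    degenerate_false T S3 S2 (fun y h h' => H.d₂₃ y h' h) H.mod₃ H.mod₂ H.cop₂₃.symm H.mod₁
      H.fam₃_mul H.fam₂_mul h0 (z := z)
      (by rw [Num.card]; ring)
      (Num.bound.trans (le_of_eq (by ring)))
      (by
        have := Num.cop
        rwa [show Nat.card ↥A₁ * Nat.card ↥A₂ * Nat.card ↥A₃ =
          Nat.card ↥A₁ * Nat.card ↥A₃ * Nat.card ↥A₂ by ring] at this)
      Num.hhe Num.hodd Num.even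
      (by
        have := Num.pairs
        calc (fam A₁ + fam A₃ + fam A₂) * C = (fam A₁ + fam A₂ + fam A₃) * C := by ring
          _ < _ := this
          _ = _ := by ring)
      Num.alpha Num.eqn
  obtain ⟨hc2, hx2⟩ := hcase2.resolve_right fun h => hθ2 h.1
  obtain ⟨hc3, hx3⟩ := hcase3.resolve_right fun h => hθ3 h.1
  have hne22 : fam A₂ ≠ 2 ∨ fam A₃ ≠ 2 := by
    by_contra hh
    push Not at hh
    have a := H.fam₂_mul
    have b := H.fam₃_mul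
    have := H.cop₂₃
    have e2 : Nat.card ↥A₂ = 9 := by have := H.mod₂; omega
    have e3 : Nat.card ↥A₃ = 9 := by have := H.mod₃; omega
    rw [e2, e3] at this
    norm_num at this
  obtain ⟨ψ, ψ', hψψ, hψ1, hψ'1, hψθ, hψ'θ, hψF1, hψF2, hψF3, hs2, hs3, hμ2, hμ3, hzero⟩ :=
    main_split H.fam₁_two H.fam₂_two H.fam₃_two hne22 H.d₂₃ hθ hθ1 hθc S2 S3 hc2 hc3
  -- divisibility of `T`
  set t := tdeg F₁ θ with htdef
  have hT2 : (Nat.card ↥A₂ : ℤ) ∣ t + 1 := by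
    obtain ⟨k, hk⟩ := F₂.dg_cong hm2 H.fam₂_mul
    rw [hc2] at hk
    exact ⟨F₁.c θ * k, by rw [htdef]; unfold tdeg; linear_combination F₁.c θ * hk - T.sq⟩
  have hT3 : (Nat.card ↥A₃ : ℤ) ∣ t + 1 := by
    obtain ⟨k, hk⟩ := F₃.dg_cong hm3 H.fam₃_mul
    rw [hc3] at hk
    exact ⟨F₁.c θ * k, by rw [htdef]; unfold tdeg; linear_combination F₁.c θ * hk - T.sq⟩
  have hT23 : ((Nat.card ↥A₂ * Nat.card ↥A₃ : ℕ) : ℤ) ∣ t + 1 := by
    rw [Int.natCast_dvd] at hT2 hT3 ⊢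
    exact Nat.Coprime.mul_dvd_of_dvd_of_dvd H.cop₂₃ hT2 hT3
  obtain ⟨k, hk⟩ := hT23
  rw [mul_comm] at hk
  set n₁ := Nat.card ↥A₁ with hn₁
  set n₂ := Nat.card ↥A₂ with hn₂
  set n₃ := Nat.card ↥A₃ with hn₃
  have hk0 : k ≠ 0 := fun h0 => Num.T_ne (by rw [hk, h0, zero_mul])
  have hn1 : (n₁ : ℤ) ≠ 0 := by exact_mod_cast (Nat.card_pos (α := ↥A₁)).ne'
  have hn2 : (n₂ : ℤ) ≠ 0 := by exact_mod_cast (Nat.card_pos (α := ↥A₂)).ne'
  have hn3 : (n₃ : ℤ) ≠ 0 := by exact_mod_cast (Nat.card_pos (α := ↥A₃)).ne'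
  -- `|t|` divides `h`
  have hth : t.natAbs ∣ h := by
    have e1 : t.natAbs = Cfsg.charDegree (θ : G → ℂ) := by
      have := T.abs_t
      rw [← htdef, Int.abs_eq_natAbs] at this
      rw [dg] at this
      exact_mod_cast this.symm
    have hdvd : t.natAbs ∣ n₁ * n₂ * n₃ * h := by
      rw [e1, ← Num.card]
      exact CfsgLib.BlockB.irr_degree_dvd_card θ
    refine Nat.Coprime.dvd_of_dvd_mul_left ?_ hdvd
    refine Nat.coprime_of_dvd fun p hp h1 h2 => ?_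
    have hpt : (p : ℤ) ∣ t := Int.natCast_dvd.2 h1
    have hp1 : ∀ d : ℤ, d = t - 1 ∨ d = t + 1 → ¬ (p : ℤ) ∣ d := by
      intro d hd hpd
      have hp' : (p : ℤ) ∣ 1 := by
        rcases hd with rfl | rfl
        · have := dvd_sub hpt hpd; simpa using this
        · have := dvd_sub hpd hpt; simpa using this
      exact hp.one_lt.ne' (Nat.dvd_one.1 (by exact_mod_cast hp'))
    rcases hp.dvd_mul.1 h2 with h3 | h3
    · rcases hp.dvd_mul.1 h3 with h4 | h4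
      · exact hp1 _ (Or.inl rfl) ((Int.natCast_dvd_natCast.2 h4).trans Num.t_mod)
      · exact hp1 _ (Or.inr rfl) ((Int.natCast_dvd_natCast.2 h4).trans hT2)
    · exact hp1 _ (Or.inr rfl) ((Int.natCast_dvd_natCast.2 h3).trans hT3)
  -- `α = 0`
  set α := talpha F₁ θ hz with hαdef
  have hcardZ : (Nat.card G : ℤ) = n₁ * n₂ * n₃ * h := by rw [Num.card]; push_cast; ring
  have heq : (C : ℤ) ^ 2 * k * t = h * (t - α) ^ 2 := by
    refine mul_left_cancel₀ (mul_ne_zero (mul_ne_zero hn1 hn2) hn3) ?_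
    have := Num.eqn
    rw [hcardZ, hk] at this
    push_cast at this
    linear_combination this
  have halpha : α = 0 :=
    alpha_eq_zero H.mod₁ H.ge₁ H.mod₂.1 H.mod₂.2 H.mod₃.1 H.mod₃.2 H.cop₁₂ H.cop₁₃ H.cop₂₃
      (by rw [hk]) hk0 Num.t_ne Num.t_mod hth ⟨e, by rw [Num.hhe, mul_comm]⟩ Num.even
      (by rw [Num.hhe, Nat.mul_div_cancel _ (by rw [Num.hC]; exact Nat.card_pos)]; exact Num.hodd)
      Num.bound Num.cop (by have := Num.alpha; rwa [H.fam₁] at this) heq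
  have heq0 : (C : ℤ) ^ 2 * k = h * t := by
    refine mul_right_cancel₀ Num.t_ne ?_
    rw [heq, halpha]; ring
  -- the decomposition of the irreducible characters
  let S : Finset (Cfsg.IrrCharacter G) := {one' G, θ, ψ, ψ'}
  let rest : Finset (Cfsg.IrrCharacter G) :=
    Finset.univ.filter fun χ => χ ∉ S ∪ (F₁.img ∪ (F₂.img ∪ F₃.img))
  have hd12 : Disjoint F₁.img F₂.img := Finset.disjoint_left.2 fun χ ha hb => by
    obtain ⟨a, rfl⟩ := F₁.mem_img.1 ha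
    obtain ⟨b, hb⟩ := F₂.mem_img.1 hb
    exact F₁.μ_disjoint F₂ H.d₁₂ H.fam₁_two H.fam₂_two a b hb.symm
  have hd13 : Disjoint F₁.img F₃.img := Finset.disjoint_left.2 fun χ ha hb => by
    obtain ⟨a, rfl⟩ := F₁.mem_img.1 ha
    obtain ⟨b, hb⟩ := F₃.mem_img.1 hb
    exact F₁.μ_disjoint F₃ H.d₁₃ H.fam₁_two H.fam₃_two a b hb.symm
  have hd23 : Disjoint F₂.img F₃.img := Finset.disjoint_left.2 fun χ ha hb => by
    obtain ⟨a, rfl⟩ := F₂.mem_img.1 ha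
    obtain ⟨b, hb⟩ := F₃.mem_img.1 hb
    exact F₂.μ_disjoint F₃ H.d₂₃ H.fam₂_two H.fam₃_two a b hb.symm
  have hdS : Disjoint S (F₁.img ∪ (F₂.img ∪ F₃.img)) := Finset.disjoint_left.2 fun χ ha hb => by
    simp only [S, Finset.mem_insert, Finset.mem_singleton] at ha
    simp only [Finset.mem_union, Fam.mem_img] at hb
    rcases hb with ⟨a, rfl⟩ | ⟨a, rfl⟩ | ⟨a, rfl⟩
    · rcases ha with h | h | h | h
      exacts [F₁.μ_ne a h, F₁.mem_oth.1 hθ a h, (hψF1 a).1 h, (hψF1 a).2 h]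
    · rcases ha with h | h | h | h
      exacts [F₂.μ_ne a h, F₂.mem_oth.1 hm2 a h, (hψF2 a).1 h, (hψF2 a).2 h]
    · rcases ha with h | h | h | h
      exacts [F₃.μ_ne a h, F₃.mem_oth.1 hm3 a h, (hψF3 a).1 h, (hψF3 a).2 h]
  have hsum : ∀ f : Cfsg.IrrCharacter G → ℤ, ∑ χ, f χ =
      f (one' G) + f θ + f ψ + f ψ' +
        ((∑ a, f (F₁.μ a)) + (∑ a, f (F₂.μ a)) + ∑ a, f (F₃.μ a)) + ∑ χ ∈ rest, f χ := by
    intro f
    rw [← Finset.sum_filter_add_sum_filter_not Finset.univ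
      (fun χ => χ ∈ S ∪ (F₁.img ∪ (F₂.img ∪ F₃.img))) f]
    congr 1
    rw [Finset.filter_univ_mem, Finset.sum_union hdS,
      Finset.sum_union (Finset.disjoint_union_right.2 ⟨hd12, hd13⟩), Finset.sum_union hd23,
      F₁.sum_img, F₂.sum_img, F₃.sum_img]
    have h1 : one' G ∉ ({θ, ψ, ψ'} : Finset (Cfsg.IrrCharacter G)) := by
      simp only [Finset.mem_insert, Finset.mem_singleton, not_or]
      exact ⟨Ne.symm hθ1, Ne.symm hψ1, Ne.symm hψ'1⟩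
    have h2 : θ ∉ ({ψ, ψ'} : Finset (Cfsg.IrrCharacter G)) := by
      simp only [Finset.mem_insert, Finset.mem_singleton, not_or]
      exact ⟨Ne.symm hψθ, Ne.symm hψ'θ⟩
    rw [Finset.sum_insert h1, Finset.sum_insert h2, Finset.sum_pair hψψ]
    ring
  -- the degrees of the remaining characters
  have hrest : ∀ χ ∈ rest, dg χ = ((n₁ * n₂ * n₃ : ℕ) : ℤ) := by
    intro χ hχ
    have hnot := (Finset.mem_filter.1 hχ).2
    simp only [S, Finset.mem_union, Finset.mem_insert, Finset.mem_singleton, not_or,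
      Fam.mem_img, not_exists] at hnot
    obtain ⟨⟨h1, h2, h3, h4⟩, h5, h6, h7⟩ := hnot
    obtain ⟨z2, z3⟩ := hzero χ h1 h2 h3 h4 h5 h6 h7
    have z1 := hsupp χ (F₁.mem_oth.2 h5) h1 h2
    have d1 : (n₁ : ℤ) ∣ dg χ := by
      have := F₁.dg_cong (F₁.mem_oth.2 h5) H.fam₁_mul; rwa [z1, sub_zero] at this
    have d2 : (n₂ : ℤ) ∣ dg χ := by
      have := F₂.dg_cong (F₂.mem_oth.2 h6) H.fam₂_mul; rwa [z2, sub_zero] at this
    have d3 : (n₃ : ℤ) ∣ dg χ := by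
      have := F₃.dg_cong (F₃.mem_oth.2 h7) H.fam₃_mul; rwa [z3, sub_zero] at this
    rw [dg, Int.natCast_dvd_natCast] at d1 d2 d3
    obtain ⟨j, hj⟩ := Nat.Coprime.mul_dvd_of_dvd_of_dvd (H.cop₁₃.mul_left H.cop₂₃)
      (Nat.Coprime.mul_dvd_of_dvd_of_dvd H.cop₁₂ d1 d2) d3
    have hsq : dg χ ^ 2 ≤ (Nat.card G : ℤ) := by
      rw [← sum_dg_sq (G := G)]
      exact Finset.single_le_sum (f := fun χ => dg χ ^ 2) (fun a _ => sq_nonneg _) (Finset.mem_univ χ)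
    rw [dg, hj] at hsq
    rw [dg, hj]
    have hG' : (n₁ * n₂ * n₃ * j) ^ 2 ≤ 3 * n₁ ^ 2 * n₂ ^ 2 * n₃ ^ 2 := by
      refine le_trans ?_ H.ord
      exact_mod_cast hsq
    have hj2 : j ^ 2 ≤ 3 := by
      refine Nat.le_of_mul_le_mul_left
        (?_ : (n₁ * n₂ * n₃) ^ 2 * j ^ 2 ≤ (n₁ * n₂ * n₃) ^ 2 * 3)
        (pow_pos (Nat.mul_pos (Nat.mul_pos (Nat.card_pos (α := ↥A₁)) (Nat.card_pos (α := ↥A₂)))
          (Nat.card_pos (α := ↥A₃))) 2)
      calc (n₁ * n₂ * n₃) ^ 2 * j ^ 2 = (n₁ * n₂ * n₃ * j) ^ 2 := by ring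
        _ ≤ _ := hG'
        _ = _ := by ring
    have hj1 : j = 1 := by
      have hpos := dg_pos χ
      rw [dg, hj] at hpos
      have : 0 < n₁ * n₂ * n₃ * j := by exact_mod_cast hpos
      have : j ≠ 0 := fun h => by rw [h, mul_zero] at this; exact lt_irrefl _ this
      have : j < 2 := by
        by_contra h2j
        have := Nat.pow_le_pow_left (show 2 ≤ j by omega) 2
        omega
      omega
    rw [hj1, mul_one]
  -- order and Frobenius–Schur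
  set s := rest.card with hs
  set D₂ := dg (F₂.μ ⟨0, by have := H.fam₂_two; omega⟩) with hD₂
  set D₃ := dg (F₃.μ ⟨0, by have := H.fam₃_two; omega⟩) with hD₃
  have hD₂d : ((n₁ * n₃ : ℕ) : ℤ) ∣ D₂ := by
    set j0 : Fin (fam A₂) := ⟨0, by have := H.fam₂_two; omega⟩
    have d1 := F₁.dg_cong (F₂.μ_mem_oth F₁ (fun y h h' => H.d₁₂ y h' h) H.fam₂_two H.fam₁_two j0)
      H.fam₁_mul
    have d3 := F₃.dg_cong (F₂.μ_mem_oth F₃ H.d₂₃ H.fam₂_two H.fam₃_two j0) H.fam₃_mul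
    rw [hz2 j0, sub_zero] at d1
    rw [hμ2 j0, sub_zero] at d3
    rw [hD₂, dg, Int.natCast_dvd_natCast] at *
    exact Nat.Coprime.mul_dvd_of_dvd_of_dvd H.cop₁₃ d1 d3
  have hD₃d : ((n₁ * n₂ : ℕ) : ℤ) ∣ D₃ := by
    set j0 : Fin (fam A₃) := ⟨0, by have := H.fam₃_two; omega⟩
    have d1 := F₁.dg_cong (F₃.μ_mem_oth F₁ (fun y h h' => H.d₁₃ y h' h) H.fam₃_two H.fam₁_two j0)
      H.fam₁_mul
    have d2 := F₂.dg_cong
      (F₃.μ_mem_oth F₂ (fun y h h' => H.d₂₃ y h' h) H.fam₃_two H.fam₂_two j0) H.fam₂_mul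
    rw [hz3 j0, sub_zero] at d1
    rw [hμ3 j0, sub_zero] at d2
    rw [hD₃, dg, Int.natCast_dvd_natCast] at *
    exact Nat.Coprime.mul_dvd_of_dvd_of_dvd H.cop₁₂ d1 d2
  have hdθ : dg θ = |t| := T.abs_t
  have hdμ : ∀ a, dg (F₁.μ a) = |t + 1| := fun a => T.abs_T a
  have hord := (sum_dg_sq (G := G)).symm
  rw [hsum, dg_one', hdθ, Finset.sum_congr rfl fun a _ => show dg (F₁.μ a) ^ 2 = (t + 1) ^ 2 by
      rw [hdμ a, sq_abs],
    Finset.sum_congr rfl fun a _ => show dg (F₂.μ a) ^ 2 = D₂ ^ 2 by rw [hD₂, F₂.dg_μ a],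
    Finset.sum_congr rfl fun a _ => show dg (F₃.μ a) ^ 2 = D₃ ^ 2 by rw [hD₃, F₃.dg_μ a],
    Finset.sum_congr rfl fun χ hχ => show dg χ ^ 2 = ((n₁ * n₂ * n₃ : ℕ) : ℤ) ^ 2 by rw [hrest χ hχ],
    Finset.sum_const, Finset.sum_const, Finset.sum_const, Finset.sum_const, Finset.card_univ,
    Finset.card_univ, Finset.card_univ, Fintype.card_fin, Fintype.card_fin, Fintype.card_fin,
    nsmul_eq_mul, nsmul_eq_mul, nsmul_eq_mul, nsmul_eq_mul, sq_abs, H.fam₁, H.fam₂, H.fam₃,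
    Num.card] at hord
  have hfs := fs_bound (G := G)
  rw [hsum, dg_one', hdθ, Finset.sum_congr rfl fun a _ => hdμ a,
    Finset.sum_congr rfl fun a _ => show dg (F₂.μ a) = D₂ by rw [hD₂, F₂.dg_μ a],
    Finset.sum_congr rfl fun a _ => show dg (F₃.μ a) = D₃ by rw [hD₃, F₃.dg_μ a],
    Finset.sum_congr rfl hrest,
    Finset.sum_const, Finset.sum_const, Finset.sum_const, Finset.sum_const, Finset.card_univ,
    Finset.card_univ, Finset.card_univ, Fintype.card_fin, Fintype.card_fin, Fintype.card_fin,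
    nsmul_eq_mul, nsmul_eq_mul, nsmul_eq_mul, nsmul_eq_mul, H.fam₁, H.fam₂, H.fam₃,
    Num.invols] at hfs
  have hD₂0 : 0 < D₂ := dg_pos _
  have hD₃0 : 0 < D₃ := dg_pos _
  have hpairs := Num.pairs
  rw [H.fam₁, H.fam₂, H.fam₃] at hpairs
  have hs0 : s = 0 :=
    no_extra (u := dg ψ) (u' := dg ψ') H.mod₁ H.ge₁ H.mod₂.1 H.mod₂.2 H.mod₃.1 H.mod₃.2 H.cop₁₂
      H.cop₁₃ H.cop₂₃ (by rw [hk]) hk0 Num.t_ne Num.t_mod hth Num.hhe Num.hodd Num.even Num.bound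
      Num.cop heq0 hD₂d hD₂0.ne' hD₃d hD₃0.ne' (by rw [hord]; push_cast; ring) hpairs (by
        rw [abs_of_pos (dg_pos ψ), abs_of_pos (dg_pos ψ'), abs_of_pos hD₂0, abs_of_pos hD₃0]
        push_cast at hfs ⊢
        linarith)
  refine ⟨z, t, hz, hone, ?_, ?_, Num.t_ne, Num.T_ne, ?_, ?_⟩
  · rw [← Num.hC, Num.card, Num.hhe, ← mul_assoc,
      Nat.mul_div_cancel _ (by rw [Num.hC]; exact Nat.card_pos)]
    intro h2
    rcases Nat.prime_two.dvd_mul.1 h2 with h3 | h3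
    · rcases Nat.prime_two.dvd_mul.1 h3 with h4 | h4
      · rcases Nat.prime_two.dvd_mul.1 h4 with h5 | h5
        · have := H.mod₁; omega
        · have := H.mod₂.1; omega
      · have := H.mod₃.1; omega
    · have := Num.hodd; omega
  · rw [Nat.card_eq_fintype_card, ← Finset.card_univ]
    have hcard := hsum fun _ => 1
    simp only [Finset.sum_const, Finset.card_univ, Fintype.card_fin, nsmul_eq_mul, mul_one,
      ← hs, hs0] at hcard
    rw [Finset.card_univ]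
    push_cast at hcard
    omega
  · exact ⟨k, by rw [hk]; ring⟩
  · rw [← Num.hC]
    refine mul_right_cancel₀ Num.t_ne ?_
    have := Num.eqn
    rw [halpha] at this
    linear_combination this

end CfsgLib.InvChar.SelfCent
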