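import Cfsg.Agent.Lib.InvChar.SelfCent.Setting

/-!
# The character attached to `A₁`, the class of involutions, and the first equation
-/

set_option autoImplicit false
set_option linter.unusedSectionVars false

namespace CfsgLib.InvChar.SelfCent

open CfsgLib.Char CfsgLib.Invol

universe u

variable {G : Type u} [Group G] [Fintype G] [Fintype (Cfsg.IrrCharacter G)]

theorem dg_one' : dg (one' G) = 1 := by
  apply Int.cast_injective (α := ℂ)
  rw [dg_cast]; simp [one']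

theorem zv_one' {z : G} (hz : orderOf z = 2) : zv hz (one' G) = 1 := by
  apply Int.cast_injective (α := ℂ)
  rw [zv_cast]; simp [one']

/-- The data carried by `A₁`. -/
structure Theta {A : Subgroup G} {m : ℕ} (F : Fam A 2 m) (θ : Cfsg.IrrCharacter G) : Prop where
  two_le : 2 ≤ m
  card : m * 2 = Nat.card ↥A - 1
  mem : θ ∈ F.oth
  ne_one : θ ≠ one' G
  sq : F.c θ ^ 2 = 1
  supp : ∀ χ ∈ F.oth, χ ≠ one' G → χ ≠ θ → F.c χ = 0
  sig : F.sig ^ 2 = 1

variable {A : Subgroup G} {m : ℕ} {F : Fam A 2 m} {θ : Cfsg.IrrCharacter G}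

open scoped Classical in
theorem Fam.pairs_v {B : Subgroup G} {e k : ℕ} (F : Fam B e k) (hB : IsSC B) (hn1 : 1 < Nat.card ↥B)
    (he : 2 ∣ B.relIndex (Subgroup.normalizer (B : Set G))) {z w u : G} (hz : orderOf z = 2)
    (hw : orderOf w = 2) (hu : orderOf u = 2) (hN : u ∈ Subgroup.normalizer (B : Set G)) (i : Fin k) :
    (Nat.card G : ℚ) * ∑ χ, (F.v i χ : ℚ) * ((zv hz χ : ℚ) * (zv hw χ : ℚ) / (dg χ : ℚ)) =
      if IsConj z u ∧ IsConj w u then
        (Nat.card ↥(Subgroup.centralizer ({z} : Set G)) : ℚ) *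
          Nat.card ↥(Subgroup.centralizer ({w} : Set G)) * Nat.card ↥B else 0 :=
  F.pairs hB hn1 he hz hw hu hN i

/-- The signed degree of `θ`. -/
noncomputable def tdeg (F : Fam A 2 m) (θ : Cfsg.IrrCharacter G) : ℤ := F.c θ * dg θ

/-- The signed value of `θ` at an involution. -/
noncomputable def talpha (F : Fam A 2 m) (θ : Cfsg.IrrCharacter G) {z : G} (hz : orderOf z = 2) : ℤ :=
  F.c θ * zv hz θ

theorem Theta.sum {R : Type*} [CommRing R] (T : Theta F θ) (i : Fin m) (f : Cfsg.IrrCharacter G → R)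
    (f₀ : R) (hf : ∀ j, f (F.μ j) = f₀) :
    ∑ χ, (F.v i χ : R) * f χ = f (one' G) + (F.c θ : R) * f θ + (F.sig : R) * f₀ := by
  classical
  rw [F.sum_v_support i f f₀ hf {one' G, θ}
    (Finset.insert_subset F.one_mem_oth (Finset.singleton_subset_iff.2 T.mem)) (fun χ hχ hn => by
      simp only [Finset.mem_insert, Finset.mem_singleton, not_or] at hn
      exact T.supp χ hχ hn.1 hn.2), Finset.sum_pair (Ne.symm T.ne_one), F.c_one, Int.cast_one, one_mul]

theorem Theta.deg (T : Theta F θ) (i : Fin m) : F.sig * dg (F.μ i) = -(tdeg F θ + 1) := by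
  have h := T.sum i dg (dg (F.μ i)) fun j => F.dg_μ j i
  simp only [Int.cast_id] at h
  rw [F.degree_eq i, dg_one'] at h
  unfold tdeg
  linarith

theorem Theta.val (T : Theta F θ) {z : G} (hz : orderOf z = 2) (hzA : ¬ Meets A z) (i : Fin m) :
    F.sig * zv hz (F.μ i) = -(talpha F θ hz + 1) := by
  have h := T.sum i (zv hz) (zv hz (F.μ i)) fun j => F.zv_μ hz hzA j i
  simp only [Int.cast_id] at h
  rw [F.zv_eq hz hzA i, zv_one'] at h
  unfold talpha
  linarith

theorem Theta.t_ne (T : Theta F θ) : tdeg F θ ≠ 0 := by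
  have := dg_pos θ
  refine mul_ne_zero (fun h => ?_) this.ne'
  have := T.sq
  rw [h] at this
  norm_num at this

theorem Theta.T_ne (T : Theta F θ) (i : Fin m) : tdeg F θ + 1 ≠ 0 := by
  intro h
  have h1 := T.deg i
  rw [h, neg_zero] at h1
  rcases mul_eq_zero.1 h1 with h2 | h2
  · have := T.sig
    rw [h2] at this
    norm_num at this
  · exact (dg_pos (F.μ i)).ne' h2

theorem Theta.abs_T (T : Theta F θ) (i : Fin m) : dg (F.μ i) = |tdeg F θ + 1| := by
  have h := congrArg abs (T.deg i)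
  rw [abs_mul, abs_neg, abs_of_pos (dg_pos (F.μ i))] at h
  rcases sq_eq_one_iff.1 T.sig with hs | hs <;> rw [hs] at h <;> simpa using h

theorem Theta.abs_t (T : Theta F θ) : dg θ = |tdeg F θ| := by
  rw [tdeg, abs_mul, abs_of_pos (dg_pos θ)]
  rcases sq_eq_one_iff.1 T.sq with hs | hs <;> rw [hs] <;> simp

theorem Theta.t_cong (T : Theta F θ) : (Nat.card ↥A : ℤ) ∣ tdeg F θ - 1 := by
  obtain ⟨k, hk⟩ := F.dg_cong T.mem T.card
  exact ⟨F.c θ * k, by unfold tdeg; linear_combination F.c θ * hk + T.sq⟩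

/-- Evaluation of the pair count. -/
theorem Theta.pair_value (T : Theta F θ) {a b : G} (ha : orderOf a = 2) (hb : orderOf b = 2)
    (haA : ¬ Meets A a) (hbA : ¬ Meets A b) (i : Fin m) :
    (∑ χ, (F.v i χ : ℚ) * ((zv ha χ : ℚ) * (zv hb χ : ℚ) / (dg χ : ℚ))) *
        ((tdeg F θ : ℚ) * ((tdeg F θ : ℚ) + 1)) =
      ((tdeg F θ : ℚ) - talpha F θ ha) * ((tdeg F θ : ℚ) - talpha F θ hb) := by
  rw [T.sum i (fun χ => (zv ha χ : ℚ) * (zv hb χ : ℚ) / (dg χ : ℚ))
    ((zv ha (F.μ i) : ℚ) * (zv hb (F.μ i) : ℚ) / (dg (F.μ i) : ℚ))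
    fun j => by rw [F.zv_μ ha haA j i, F.zv_μ hb hbA j i, F.dg_μ j i],
    zv_one', zv_one', dg_one', Int.cast_one]
  have hd : (dg θ : ℚ) ≠ 0 := by exact_mod_cast (dg_pos θ).ne'
  have hD : (dg (F.μ i) : ℚ) ≠ 0 := by exact_mod_cast (dg_pos (F.μ i)).ne'
  have e1 : (F.sig : ℚ) * dg (F.μ i) = -((tdeg F θ : ℚ) + 1) := by exact_mod_cast T.deg i
  have e2 : (F.sig : ℚ) * zv ha (F.μ i) = -((talpha F θ ha : ℚ) + 1) := by
    exact_mod_cast T.val ha haA i
  have e3 : (F.sig : ℚ) * zv hb (F.μ i) = -((talpha F θ hb : ℚ) + 1) := by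
    exact_mod_cast T.val hb hbA i
  have hs : (F.sig : ℚ) ^ 2 = 1 := by exact_mod_cast T.sig
  have hc : (F.c θ : ℚ) ^ 2 = 1 := by exact_mod_cast T.sq
  have ht : (tdeg F θ : ℚ) = F.c θ * dg θ := by unfold tdeg; push_cast; ring
  have h1 : (F.c θ : ℚ) * ((zv ha θ : ℚ) * zv hb θ / dg θ) * tdeg F θ =
      (talpha F θ ha : ℚ) * talpha F θ hb := by
    rw [ht]; unfold talpha; push_cast
    field_simp
  have h2 : (F.sig : ℚ) * ((zv ha (F.μ i) : ℚ) * zv hb (F.μ i) / dg (F.μ i)) *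
      ((tdeg F θ : ℚ) + 1) = -(((talpha F θ ha : ℚ) + 1) * ((talpha F θ hb : ℚ) + 1)) := by
    rw [show ((tdeg F θ : ℚ) + 1) = -((F.sig : ℚ) * dg (F.μ i)) by rw [e1]; ring]
    field_simp
    linear_combination -((F.sig : ℚ) * zv hb (F.μ i)) * e2 + ((talpha F θ ha : ℚ) + 1) * e3
  linear_combination ((tdeg F θ : ℚ) + 1) * h1 + (tdeg F θ : ℚ) * h2

/-- One class of involutions. -/
theorem Theta.one_class [IsSimpleGroup G] (T : Theta F θ) (hA : IsSC A) (hn1 : 1 < Nat.card ↥A)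
    (he : 2 ∣ A.relIndex (Subgroup.normalizer (A : Set G))) {u w : G} (hu : orderOf u = 2)
    (hN : u ∈ Subgroup.normalizer (A : Set G)) (hw : orderOf w = 2) : IsConj u w := by
  by_contra hne
  have hA' : ∀ x : G, orderOf x = 2 → ¬ Meets A x := fun x hx ⟨a, ha, _, hc⟩ =>
    hA.not_invol he ha (by rw [← orderOf_eq_of_isConj hc, hx])
  have i : Fin m := ⟨0, by have := T.two_le; omega⟩
  have h1 := F.pairs_v hA hn1 he hu hw hu hN i
  rw [if_neg fun h => hne h.2.symm] at h1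
  have h2 := F.pairs_v hA hn1 he hu hu hu hN i
  rw [if_pos ⟨IsConj.refl u, IsConj.refl u⟩] at h2
  have hG : (Nat.card G : ℚ) ≠ 0 := by exact_mod_cast (Nat.card_pos (α := G)).ne'
  have v1 := T.pair_value hu hw (hA' u hu) (hA' w hw) i
  have v2 := T.pair_value hu hu (hA' u hu) (hA' u hu) i
  rw [(mul_eq_zero.1 h1).resolve_left hG, zero_mul] at v1
  have hαu : (tdeg F θ : ℚ) - talpha F θ hu ≠ 0 := by
    intro h0
    rw [h0, zero_mul] at v2
    have htT : (tdeg F θ : ℚ) * ((tdeg F θ : ℚ) + 1) ≠ 0 :=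
      mul_ne_zero (by exact_mod_cast T.t_ne) (by exact_mod_cast T.T_ne i)
    rw [(mul_eq_zero.1 v2).resolve_right htT, mul_zero] at h2
    have hp : (0 : ℚ) < (Nat.card ↥(Subgroup.centralizer ({u} : Set G)) : ℚ) *
        Nat.card ↥(Subgroup.centralizer ({u} : Set G)) * Nat.card ↥A :=
      mul_pos (mul_pos (by exact_mod_cast Nat.card_pos) (by exact_mod_cast Nat.card_pos))
        (by exact_mod_cast Nat.card_pos)
    linarith
  have hw' : (tdeg F θ : ℚ) = talpha F θ hw :=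
    sub_eq_zero.1 ((mul_eq_zero.1 v1.symm).resolve_left hαu)
  have hc : F.c θ ≠ 0 := fun h => by have := T.sq; rw [h] at this; norm_num at this
  have hz : zv hw θ = dg θ := by
    have : F.c θ * dg θ = F.c θ * zv hw θ := by exact_mod_cast hw'
    exact (mul_left_cancel₀ hc this).symm
  refine invol_ne_one hw (faithful θ T.ne_one ?_)
  rw [← zv_cast hw, hz, dg_cast]

/-- The first equation. -/
theorem Theta.equation [IsSimpleGroup G] (T : Theta F θ) (hA : IsSC A) (hn1 : 1 < Nat.card ↥A)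
    (he : 2 ∣ A.relIndex (Subgroup.normalizer (A : Set G))) {z : G} (hz : orderOf z = 2) :
    (Nat.card ↥A : ℤ) * (Nat.card ↥(Subgroup.centralizer ({z} : Set G)) : ℤ) ^ 2 *
        (tdeg F θ * (tdeg F θ + 1)) =
      (Nat.card G : ℤ) * (tdeg F θ - talpha F θ hz) ^ 2 := by
  obtain ⟨u, hu, hN⟩ := hA.exists_invol he
  have hzu : IsConj z u := (T.one_class hA hn1 he hu hN hz).symm
  have hzA : ¬ Meets A z := fun ⟨a, ha, _, hc⟩ =>
    hA.not_invol he ha (by rw [← orderOf_eq_of_isConj hc, hz])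
  have i : Fin m := ⟨0, by have := T.two_le; omega⟩
  have h2 := F.pairs_v hA hn1 he hz hz hu hN i
  rw [if_pos ⟨hzu, hzu⟩] at h2
  have v2 := T.pair_value hz hz hzA hzA i
  apply Int.cast_injective (α := ℚ)
  push_cast
  linear_combination (-(tdeg F θ : ℚ) * ((tdeg F θ : ℚ) + 1)) * h2 + (Nat.card G : ℚ) * v2

theorem Theta.alpha_bound (T : Theta F θ) {z : G} (hz : orderOf z = 2) (hzA : ¬ Meets A z) :
    1 + talpha F θ hz ^ 2 + (m : ℤ) * (1 + talpha F θ hz) ^ 2 ≤
      (Nat.card ↥(Subgroup.centralizer ({z} : Set G)) : ℤ) := by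
  classical
  have i : Fin m := ⟨0, by have := T.two_le; omega⟩
  have hθi : θ ∉ F.img := fun h => by
    obtain ⟨j, hj⟩ := F.mem_img.1 h
    exact F.mem_oth.1 T.mem j hj
  have h1 : one' G ∉ insert θ F.img := by
    simp only [Finset.mem_insert, not_or]
    exact ⟨Ne.symm T.ne_one, one_notMem_img⟩
  rw [← sum_zv_sq hz]
  refine le_trans (le_of_eq ?_)
    (Finset.sum_le_sum_of_subset_of_nonneg (Finset.subset_univ (insert (one' G) (insert θ F.img)))
      fun χ _ _ => sq_nonneg _)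
  rw [Finset.sum_insert h1, Finset.sum_insert hθi, F.sum_img,
    Finset.sum_congr rfl fun j _ => show zv hz (F.μ j) ^ 2 = zv hz (F.μ i) ^ 2 by
      rw [F.zv_μ hz hzA j i], Finset.sum_const, Finset.card_univ, Fintype.card_fin, nsmul_eq_mul,
    zv_one']
  have h2 : talpha F θ hz ^ 2 = zv hz θ ^ 2 := by
    rw [talpha, mul_pow, T.sq, one_mul]
  have h3 : (1 + talpha F θ hz) ^ 2 = zv hz (F.μ i) ^ 2 := by
    have h := congrArg (fun x : ℤ => x ^ 2) (T.val hz hzA i)
    simp only [mul_pow, T.sig, one_mul] at h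
    rw [h]; ring
  rw [h2, h3]
  ring

end CfsgLib.InvChar.SelfCent
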